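import Groth.Agent.GITss.StabConj
import Groth.Agent.SpRelDim.Trdeg
import Groth.Agent.AlgSpLib.TrdegComp
import Groth.Agent.LocalDimBC.Comp
import Groth.Agent.GrpDim.Flat
import Groth.Agent.DimField.Cons

/-!
# The dimension of stabilisers and of the fibres of a geometric quotient
-/

set_option autoImplicit false
set_option backward.isDefEq.respectTransparency false
set_option linter.style.haveILetI false

universe u

open CategoryTheory CategoryTheory.Limits MonoidalCategory CartesianMonoidalCategory MonObj GrpObj AlgebraicGeometry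
open TopologicalSpace

noncomputable section

namespace Groth.Agent.GITss

/-- In a group scheme the fibre dimension at a point is the dimension of the fibre. -/
theorem fibreDimAt_grp {S : Scheme.{u}} (G : Over S) [GrpObj G] [LocallyOfFiniteType G.hom] (z : G.left) :
    FlatMor.fibreDimAt G.hom z = topologicalKrullDim ↥(G.hom ⁻¹' {G.hom z}) := by
  let s := G.hom z
  let : GrpObj (Over.mk G.hom) := inferInstanceAs (GrpObj G)
  let F : Over (Spec (CommRingCat.of (S.residueField s))) :=
    Over.mk (pullback.snd G.hom (S.fromSpecResidueField s))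
  let : GrpObj F := Over.grpObjMkPullbackSnd
  have : LocallyOfFiniteType F.hom :=
    inferInstanceAs (LocallyOfFiniteType (pullback.snd G.hom (S.fromSpecResidueField s)))
  rw [← IsHomeomorph.topologicalKrullDim_eq _ (G.hom.fiberHomeo s).isHomeomorph]
  refine le_antisymm ((iInf_le _ (⟨⊤, trivial⟩ : {U : Opens _ // G.hom.asFiber z ∈ U})).trans_eq
    ((GrpField.equidimensional F).2 (G.hom.asFiber z) _ isOpen_univ trivial)) (le_iInf fun U => ?_)
  exact ((GrpField.equidimensional F).2 (G.hom.asFiber z) _ U.1.2 U.2).ge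

/-- A fibre dimension is attained as the transcendence degree at a generalisation in the fibre. -/
theorem exists_resTrdeg_ge {U V : Scheme.{u}} [IsLocallyNoetherian V] (h : U ⟶ V) [LocallyOfFiniteType h] (z : U) :
    ∃ m, h m = h z ∧ ∃ n d : ℕ, FlatMor.fibreDimAt h z = (n : WithBot ℕ∞) ∧
      Dual3.resTrdeg h m = (d : Cardinal.{u}) ∧ n ≤ d := by
  obtain ⟨b, δ, -, hD, -, -, -, m, hm, -, -, -, hch⟩ := DimFormula.exists_fibre_dims h z
  obtain ⟨d, hd, hle, -⟩ := DimFormula.exists_trdeg_eq h m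
  exact ⟨m, hm, b + δ, d, hD, hd, hch.le (hm ▸ hle)⟩

theorem natCast_le_iff {n m : ℕ} : ((n : WithBot ℕ∞) ≤ (m : WithBot ℕ∞)) ↔ n ≤ m := by
  exact_mod_cast Iff.rfl

section General

variable {S : Scheme.{u}} {G X : Over S} [GrpObj G] (a : AlgGrp.Action G X)

/-- The kernel pair of `(action, projection)` is the stabiliser family pulled back along the projection. -/
theorem exists_isPullback_kernelPair :
    ∃ i : GLinSh.stab a (snd G X) ⟶ (G ⊗ X).left,
      IsPullback i (GLinSh.stabTo a (snd G X)) (GIT.psi a (𝟙 X)).left (GIT.psi a (𝟙 X)).left := by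
  let T := G ⊗ X
  let f : T ⟶ X := snd G X
  let gam : T ⟶ G := fst G X
  let θ : ∀ _ : T ⟶ G, G ⊗ T ⟶ G ⊗ T := fun δ => lift ((snd G T ≫ δ) * fst G T) (snd G T)
  let L : ∀ _ : T ⟶ G, X ⊗ T ⟶ X ⊗ T := fun δ => lift (lift (snd X T ≫ δ) (fst X T) ≫ a.act) (snd X T)
  have hθ : ∀ δ, θ δ⁻¹ ≫ θ δ = 𝟙 _ := fun δ => by
    simp only [θ, comp_lift, MonObj.comp_mul, GrpObj.comp_inv, lift_fst, lift_snd, ← Category.assoc]
    rw [← lift_fst_snd]
    congr 1
    group
  have hL : ∀ δ, L δ⁻¹ ≫ L δ = 𝟙 _ := fun δ => by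
    simp only [L, comp_lift, lift_fst, lift_snd, ← Category.assoc]
    rw [← lift_fst_snd]
    congr 1
    rw [← GrpAct.mul_smul, GrpObj.comp_inv, mul_inv_cancel, GrpAct.one_smul']
  let θi : G ⊗ T ≅ G ⊗ T := ⟨θ gam, θ gam⁻¹, by simpa only [_root_.inv_inv] using hθ gam⁻¹, hθ gam⟩
  let Li : X ⊗ T ≅ X ⊗ T := ⟨L gam, L gam⁻¹, by simpa only [_root_.inv_inv] using hL gam⁻¹, hL gam⟩
  have hsq : GIT.psi a f ≫ L gam = θ gam ≫ GIT.psi a f := by
    apply CartesianMonoidalCategory.hom_ext
    · have hw : ∀ r : T ⟶ X, G ◁ r = lift (fst G T) (snd G T ≫ r) := fun r => by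
        apply CartesianMonoidalCategory.hom_ext <;> simp
      simp only [L, θ, GIT.psi, Category.assoc, lift_fst, comp_lift_assoc, lift_fst_assoc, lift_snd_assoc,
        lift_whiskerLeft_assoc]
      simp only [← Category.assoc, lift_snd, hw f]
      rw [← GrpAct.mul_smul]
    · simp [L, θ, GIT.psi]
  have hl : lift f (𝟙 T) ≫ L gam = lift a.act (𝟙 T) := by
    apply CartesianMonoidalCategory.hom_ext
    · simp only [L, f, gam, T, Category.assoc, lift_fst, comp_lift_assoc, lift_snd_assoc, Category.id_comp]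
      rw [lift_fst_snd, Category.id_comp]
    · simp [L]
  have h : IsPullback (EqInt.incl a f ≫ θ gam) (EqInt.proj a f) (GIT.psi a f) (lift a.act (𝟙 T)) :=
    IsPullback.of_iso (EqInt.isPullback_stabE a f) (Iso.refl _) θi (Iso.refl _) Li
      (by simp [θi]) (by simp) (by exact hsq) (by simpa [Li] using hl)
  have h₁ : IsPullback (snd G T) (G ◁ f) f (snd G X) := Blanchard.isPullback_whiskerLeft G f
  have h₂ : IsPullback (snd X T) (X ◁ f) f (snd X X) := Blanchard.isPullback_whiskerLeft X f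
  have hψ : IsPullback (G ◁ f) (GIT.psi a f) (GIT.psi a (𝟙 X)) (X ◁ f) := by
    refine IsPullback.of_bot (v₂₁ := snd X T) (v₂₂ := snd X X) (h₃₁ := f) ?_ ?_ h₂.flip
    · rw [GIT.psi, GIT.psi, lift_snd, lift_snd]
      exact h₁.flip
    · apply CartesianMonoidalCategory.hom_ext
      · simp [GIT.psi]
      · simp [GIT.psi]
  have hb := h.paste_horiz hψ
  rw [show lift a.act (𝟙 T) ≫ X ◁ f = GIT.psi a (𝟙 X) by
    apply CartesianMonoidalCategory.hom_ext <;> simp [GIT.psi, f, T]] at hb
  exact ⟨_, hb.map (Over.forget S)⟩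

end General

variable {k : Type u} [Field k] {G X : Over (Spec (CommRingCat.of k))} [GrpObj G] (a : AlgGrp.Action G X)

/-- The dimension of the stabiliser of a point. -/
def sdim (x : X.left) : WithBot ℕ∞ :=
  topologicalKrullDim (GLinSh.stab a (Over.homMk (X.left.fromSpecResidueField x) rfl :
    Over.mk (X.left.fromSpecResidueField x ≫ X.hom) ⟶ X))

theorem sdim_eq (x : X.left) : sdim a x = topologicalKrullDim ↥(GLinSh.stabTo a (𝟙 X) ⁻¹' {x}) := by
  obtain ⟨m, sq⟩ := exists_isPullback_stab a (Over.homMk (X.left.fromSpecResidueField x) rfl :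
    Over.mk (X.left.fromSpecResidueField x ≫ X.hom) ⟶ X)
  rw [sdim, IsHomeomorph.topologicalKrullDim_eq _ sq.isoPullback.hom.homeomorph.isHomeomorph]
  exact IsHomeomorph.topologicalKrullDim_eq _ ((GLinSh.stabTo a (𝟙 X)).fiberHomeo x).isHomeomorph

variable [LocallyOfFiniteType G.hom] [QuasiCompact G.hom] [LocallyOfFiniteType X.hom] [QuasiCompact X.hom]

theorem exists_sdim_le (x : X.left) : ∃ m : ℕ, sdim a x = (m : WithBot ℕ∞) ∧
    ∃ O : X.left.Opens, x ∈ O ∧ ∀ y ∈ O, sdim a y ≤ (m : WithBot ℕ∞) := by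
  obtain ⟨_, _⟩ := finiteType_stabTo a
  obtain ⟨_⟩ := EqInt.nonempty_grpObj_stab a (𝟙 X)
  haveI : LocallyOfFiniteType (Over.mk (GLinSh.stabTo a (𝟙 X))).hom := ‹LocallyOfFiniteType (GLinSh.stabTo a (𝟙 X))›
  simp only [sdim_eq]
  exact GrpDim.exists_dim_le (Over.mk (GLinSh.stabTo a (𝟙 X))) x

theorem upperSemicontinuous_sdim : UpperSemicontinuous (sdim a) := by
  intro x z hz
  obtain ⟨m, hm, O, hxO, hO⟩ := exists_sdim_le a x
  filter_upwards [O.2.mem_nhds hxO] with t ht
  exact lt_of_le_of_lt (hO t ht) (hm ▸ hz)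

theorem isClosed_le_sdim (n : WithBot ℕ∞) : IsClosed {x | n ≤ sdim a x} :=
  (upperSemicontinuous_iff_isClosed_preimage.1 (upperSemicontinuous_sdim a)) n

/-- The fibre dimension of the stabiliser family. -/
theorem fibreDimAt_stabTo {T : Over (Spec (CommRingCat.of k))} (f : T ⟶ X) (z : GLinSh.stab a f) :
    FlatMor.fibreDimAt (GLinSh.stabTo a f) z = sdim a (f.left (GLinSh.stabTo a f z)) := by
  obtain ⟨_, _⟩ := finiteType_stabTo a
  obtain ⟨m, sq⟩ := exists_isPullback_stab a f
  obtain ⟨_⟩ := EqInt.nonempty_grpObj_stab a (𝟙 X)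
  haveI : LocallyOfFiniteType (Over.mk (GLinSh.stabTo a (𝟙 X))).hom := ‹LocallyOfFiniteType (GLinSh.stabTo a (𝟙 X))›
  rw [LocalDimBC.fibreDimAt_of_isPullback (GLinSh.stabTo a (𝟙 X)) _ _ _ sq z, sdim_eq]
  refine (fibreDimAt_grp (Over.mk (GLinSh.stabTo a (𝟙 X))) (m z)).trans ?_
  show topologicalKrullDim ↥(GLinSh.stabTo a (𝟙 X) ⁻¹' {GLinSh.stabTo a (𝟙 X) (m z)}) = _
  rw [show GLinSh.stabTo a (𝟙 X) (m z) = f.left (GLinSh.stabTo a f z) by
    rw [← Scheme.Hom.comp_apply, sq.w, Scheme.Hom.comp_apply]]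

omit [QuasiCompact G.hom] [LocallyOfFiniteType X.hom] [QuasiCompact X.hom] in
theorem locallyOfFiniteType_snd : LocallyOfFiniteType (snd G X).left :=
  inferInstanceAs (LocallyOfFiniteType (pullback.snd G.hom X.hom))

omit [QuasiCompact G.hom] [LocallyOfFiniteType X.hom] [QuasiCompact X.hom] in
theorem fibreDimAt_snd (t : (G ⊗ X).left) :
    FlatMor.fibreDimAt (snd G X).left t = topologicalKrullDim G.left := by
  haveI : Subsingleton (Spec (CommRingCat.of k)) := inferInstanceAs (Subsingleton (PrimeSpectrum k))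
  rw [LocalDimBC.fibreDimAt_of_isPullback G.hom X.hom (fst G X).left (snd G X).left
    (IsPullback.of_hasPullback G.hom X.hom) t, fibreDimAt_grp G]
  rw [show G.hom ⁻¹' {G.hom ((fst G X).left t)} = Set.univ from Set.eq_univ_of_forall fun g =>
    (Subsingleton.elim (α := Spec (CommRingCat.of k)) _ _ : G.hom g = _)]
  exact IsHomeomorph.topologicalKrullDim_eq _ (Homeomorph.Set.univ _).isHomeomorph

theorem exists_dim_eq : ∃ d : ℕ, topologicalKrullDim G.left = (d : WithBot ℕ∞) := by
  obtain ⟨d, hd⟩ := Unibranch.exists_fibreDimAt_eq G.hom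
    (η[G].left (IsLocalRing.closedPoint k))
  haveI : Subsingleton (Spec (CommRingCat.of k)) := inferInstanceAs (Subsingleton (PrimeSpectrum k))
  refine ⟨d, hd ▸ ?_⟩
  rw [fibreDimAt_grp G]
  rw [show G.hom ⁻¹' {G.hom (η[G].left (IsLocalRing.closedPoint k))} = Set.univ from
    Set.eq_univ_of_forall fun g => (Subsingleton.elim (α := Spec (CommRingCat.of k)) _ _ : G.hom g = _)]
  exact (IsHomeomorph.topologicalKrullDim_eq _ (Homeomorph.Set.univ _).isHomeomorph).symm

variable {Y : Over (Spec (CommRingCat.of k))} [LocallyOfFiniteType Y.hom] {φ : X ⟶ Y}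
  (hinv : GIT.IsInvariant a φ)

omit [LocallyOfFiniteType G.hom] [QuasiCompact G.hom] [LocallyOfFiniteType X.hom] [QuasiCompact X.hom]
  [LocallyOfFiniteType Y.hom] in
theorem psiY_fst : GIT.PsiY a φ hinv ≫ pullback.fst φ.left φ.left = a.act.left := pullback.lift_fst _ _ _

omit [LocallyOfFiniteType G.hom] [QuasiCompact G.hom] [LocallyOfFiniteType X.hom] [QuasiCompact X.hom]
  [LocallyOfFiniteType Y.hom] in
theorem psiY_snd : GIT.PsiY a φ hinv ≫ pullback.snd φ.left φ.left = (snd G X).left := pullback.lift_snd _ _ _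

theorem locallyOfFiniteType_psiY : LocallyOfFiniteType (GIT.PsiY a φ hinv) := by
  haveI := locallyOfFiniteType_snd (G := G) (X := X)
  haveI : LocallyOfFiniteType (GIT.PsiY a φ hinv ≫ pullback.snd φ.left φ.left) := by
    rw [psiY_snd]; infer_instance
  exact locallyOfFiniteType_of_comp _ (pullback.snd φ.left φ.left)

/-- The fibre dimension of the graph of the orbit relation is the dimension of the stabiliser. -/
theorem fibreDimAt_psiY (t : (G ⊗ X).left) :
    FlatMor.fibreDimAt (GIT.PsiY a φ hinv) t = sdim a ((snd G X).left t) := by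
  haveI := locallyOfFiniteType_psiY a hinv
  haveI : LocallyOfFiniteType (GIT.psi a (𝟙 X)).left := by
    haveI : LocallyOfFiniteType ((GIT.psi a (𝟙 X)).left ≫ (snd X X).left) := by
      rw [← Over.comp_left, GIT.psi, lift_snd]; exact locallyOfFiniteType_snd
    exact locallyOfFiniteType_of_comp _ (snd X X).left
  let m : pullback φ.left φ.left ⟶ (X ⊗ X).left :=
    pullback.lift (pullback.fst φ.left φ.left) (pullback.snd φ.left φ.left) (by
      rw [← Over.w φ, pullback.condition_assoc])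
  haveI : Mono m := ⟨fun p q e => pullback.hom_ext
    (by simpa [m] using congr($e ≫ pullback.fst X.hom X.hom))
    (by simpa [m] using congr($e ≫ pullback.snd X.hom X.hom))⟩
  have hm : GIT.PsiY a φ hinv ≫ m = (GIT.psi a (𝟙 X)).left := by
    have e : (GIT.psi a (𝟙 X)) = lift a.act (snd G X) := by
      simp [GIT.psi]
    rw [e]
    apply pullback.hom_ext
    · rw [Category.assoc, pullback.lift_fst, psiY_fst]
      exact congr($((lift_fst a.act (snd G X)).symm).left)
    · rw [Category.assoc, pullback.lift_snd, psiY_snd]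
      exact congr($((lift_snd a.act (snd G X)).symm).left)
  have sq : IsPullback (𝟙 (G ⊗ X).left) (GIT.PsiY a φ hinv) (GIT.psi a (𝟙 X)).left m :=
    IsPullback.of_horiz_isIso_mono ⟨by rw [Category.id_comp, hm]⟩
  rw [LocalDimBC.fibreDimAt_of_isPullback (GIT.psi a (𝟙 X)).left m _ _ sq t]
  obtain ⟨i, sqK⟩ := exists_isPullback_kernelPair a
  obtain ⟨p, hp, hp'⟩ := Scheme.exists_preimage_of_isPullback sqK t t rfl
  show FlatMor.fibreDimAt (GIT.psi a (𝟙 X)).left t = _
  conv_lhs => rw [← hp]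
  rw [← LocalDimBC.fibreDimAt_of_isPullback (GIT.psi a (𝟙 X)).left _ _ _ sqK p, fibreDimAt_stabTo]
  exact congrArg (fun w => sdim a ((snd G X).left w)) hp'

include hinv in
/-- The dimension of the group is at most that of a fibre of the quotient plus that of the stabiliser. -/
theorem dim_le_fibreDimAt_add (x : X.left) :
    topologicalKrullDim G.left ≤ sdim a x + FlatMor.fibreDimAt φ.left x := by
  haveI := locallyOfFiniteType_psiY a hinv
  haveI : LocallyOfFiniteType (φ.left ≫ Y.hom) := by rw [Over.w φ]; infer_instance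
  haveI : LocallyOfFiniteType φ.left := locallyOfFiniteType_of_comp φ.left Y.hom
  let t := (lift (1 : X ⟶ G) (𝟙 X)).left x
  have h₂ : (snd G X).left t = x := by
    rw [← Scheme.Hom.comp_apply, ← Over.comp_left, lift_snd]; rfl
  have h₁ : a.act.left t = x := by
    rw [← Scheme.Hom.comp_apply, ← Over.comp_left, GrpAct.one_smul']; rfl
  have h := (LocalDimBC.fibreDimAt_comp (GIT.PsiY a φ hinv) (pullback.snd φ.left φ.left) t).1
  simp only [psiY_snd] at h
  rw [fibreDimAt_snd, fibreDimAt_psiY, h₂, LocalDimBC.fibreDimAt_of_isPullback φ.left φ.left _ _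
    (IsPullback.of_hasPullback φ.left φ.left), ← Scheme.Hom.comp_apply, psiY_fst, h₁] at h
  exact h

/-- When the orbit relation fills the fibres, stabiliser and fibre dimensions add up to at most the group's. -/
theorem fibreDimAt_add_le (hs : Function.Surjective (GIT.PsiY a φ hinv).base) {x v : X.left}
    (hv : φ.left v = φ.left x) :
    FlatMor.fibreDimAt φ.left v + sdim a x ≤ topologicalKrullDim G.left := by
  haveI := locallyOfFiniteType_psiY a hinv
  haveI := locallyOfFiniteType_snd (G := G) (X := X)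
  haveI : LocallyOfFiniteType (φ.left ≫ Y.hom) := by rw [Over.w φ]; infer_instance
  haveI : LocallyOfFiniteType φ.left := locallyOfFiniteType_of_comp φ.left Y.hom
  haveI : IsLocallyNoetherian X.left := LocallyOfFiniteType.isLocallyNoetherian X.hom
  haveI : IsLocallyNoetherian (pullback φ.left φ.left) :=
    LocallyOfFiniteType.isLocallyNoetherian (pullback.snd φ.left φ.left)
  obtain ⟨p, hp₁, hp₂⟩ := Scheme.exists_preimage_of_isPullback (IsPullback.of_hasPullback φ.left φ.left) v x hv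
  obtain ⟨ε₀, hη, n₁, d₁, hn₁, hd₁, h₁⟩ := exists_resTrdeg_ge (pullback.snd φ.left φ.left) p
  rw [LocalDimBC.fibreDimAt_of_isPullback φ.left φ.left _ _ (IsPullback.of_hasPullback φ.left φ.left), hp₁] at hn₁
  obtain ⟨g, hg⟩ := hs ε₀
  obtain ⟨m, hm, n₂, d₂, hn₂, hd₂, h₂⟩ := exists_resTrdeg_ge (GIT.PsiY a φ hinv) g
  have hx : ∀ w, GIT.PsiY a φ hinv w = ε₀ → (snd G X).left w = x := fun w hw => by
    rw [← psiY_snd a hinv, Scheme.Hom.comp_apply, hw, hη, hp₂]
  rw [fibreDimAt_psiY, hx g hg] at hn₂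
  have hme : GIT.PsiY a φ hinv m = ε₀ := hm.trans hg
  obtain ⟨b, δ, -, hδ, hD⟩ := SpRelDim.fibreDimAt_eq_add_resTrdeg (snd G X).left m
  rw [fibreDimAt_snd] at hD
  have hsum : Dual3.resTrdeg (GIT.PsiY a φ hinv ≫ pullback.snd φ.left φ.left) m = (δ : Cardinal.{u}) := by
    simp only [psiY_snd]; exact hδ
  rw [AlgSpLib.resTrdeg_comp, hme, hd₁, hd₂] at hsum
  have hsum' : d₁ + d₂ = δ := by exact_mod_cast hsum
  rw [hn₁, hn₂, hD, ← Nat.cast_add, natCast_le_iff]
  omega

/-- Along specialisations of a geometric quotient the stabiliser dimension is constant. -/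
theorem sdim_eq_of_specializes (hs : Function.Surjective (GIT.PsiY a φ hinv).base) {x y : X.left} (h : y ⤳ x) :
    sdim a y = sdim a x := by
  haveI : LocallyOfFiniteType (φ.left ≫ Y.hom) := by rw [Over.w φ]; infer_instance
  haveI : LocallyOfFiniteType φ.left := locallyOfFiniteType_of_comp φ.left Y.hom
  obtain ⟨sx, hsx, O, hxO, hO⟩ := exists_sdim_le a x
  obtain ⟨sy, hsy, -⟩ := exists_sdim_le a y
  obtain ⟨fx, hfx⟩ := Unibranch.exists_fibreDimAt_eq φ.left x
  obtain ⟨fy, hfy⟩ := Unibranch.exists_fibreDimAt_eq φ.left y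
  obtain ⟨dG, hG⟩ := exists_dim_eq (G := G)
  have h₁ : fy ≤ fx := by
    have : x ∈ {z | (fy : WithBot ℕ∞) ≤ FlatMor.fibreDimAt φ.left z} :=
      h.mem_closed (DimField.isClosed_le_fibreDimAt φ.left fy) (le_of_eq hfy.symm)
    rw [Set.mem_setOf_eq, hfx] at this
    exact natCast_le_iff.1 this
  have h₂ := dim_le_fibreDimAt_add a hinv y
  have h₃ := fibreDimAt_add_le a hinv hs (x := x) (v := x) rfl
  have h₄ := hO y (h.mem_open O.2 hxO)
  rw [hsy, hfy, hG, ← Nat.cast_add, natCast_le_iff] at h₂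
  rw [hsx, hfx, hG, ← Nat.cast_add, natCast_le_iff] at h₃
  rw [hsy, natCast_le_iff] at h₄
  rw [hsy, hsx, show sy = sx by omega]

/-- For a geometric quotient the stabiliser dimension is locally constant. -/
theorem exists_open_sdim_eq (hs : Function.Surjective (GIT.PsiY a φ hinv).base) (x : X.left) :
    ∃ W : X.left.Opens, x ∈ W ∧ ∀ y ∈ W, sdim a y = sdim a x := by
  obtain ⟨s, hsx, O, hxO, hO⟩ := exists_sdim_le a x
  haveI : IsLocallyNoetherian X.left := LocallyOfFiniteType.isLocallyNoetherian X.hom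
  let C := {y : X.left | (s : WithBot ℕ∞) ≤ sdim a y}
  -- `C` is closed and contains every generisation of `x`
  have hC : ∀ y, y ⤳ x → y ∈ C := fun y hy =>
    (show (s : WithBot ℕ∞) ≤ sdim a y by rw [sdim_eq_of_specializes a hinv hs hy, hsx])
  haveI : CompactSpace X.left := QuasiCompact.compactSpace_of_compactSpace X.hom
  haveI : IsNoetherian X.left := {}
  have hcl := isClosed_le_sdim a (s : WithBot ℕ∞)
  obtain ⟨W, hxW, hW⟩ : ∃ W : X.left.Opens, x ∈ W ∧ (W : Set X.left) ⊆ C := by
    have hfin := NoetherianSpace.finite_irreducibleComponents (α := X.left)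
    let Z := ⋃ c ∈ {c ∈ irreducibleComponents X.left | x ∉ c}, c
    have hZ : IsClosed Z := (hfin.subset fun c hc => hc.1).isClosed_biUnion
      fun c hc => isClosed_of_mem_irreducibleComponents c hc.1
    refine ⟨⟨Zᶜ, hZ.isOpen_compl⟩, by simp [Z], fun z hz => ?_⟩
    let c := irreducibleComponent z
    have hxc : x ∈ c := by
      by_contra hn
      exact hz (Set.mem_biUnion (x := c) ⟨irreducibleComponent_mem_irreducibleComponents z, hn⟩
        mem_irreducibleComponent)
    obtain ⟨ζ, hη⟩ := QuasiSober.sober (isIrreducible_irreducibleComponent (x := z)) isClosed_irreducibleComponent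
    exact (hη.specializes mem_irreducibleComponent).mem_closed hcl (hC ζ (hη.specializes hxc))
  refine ⟨W ⊓ O, ⟨hxW, hxO⟩, fun y hy => ?_⟩
  rw [hsx]
  exact le_antisymm (hO y hy.2) (hW hy.1)

end Groth.Agent.GITss
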