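import Groth.Agent.GITss.Local
import Groth.Agent.AffQuot.Orbit
import Groth.Prelude.Def_GLinSh

/-!
# Actions restricted to stable open subschemes
-/

set_option autoImplicit false
set_option backward.isDefEq.respectTransparency false
set_option linter.style.haveILetI false

universe u

open CategoryTheory MonoidalCategory CartesianMonoidalCategory MonObj GrpObj AlgebraicGeometry

noncomputable section

namespace Groth.Agent.GITss

open Limits AffQuot

variable {S : Scheme.{u}} {G X : Over S} [GrpObj G] (a : AlgGrp.Action G X)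

/-- An open is stable when its preimage under the projection lies in the one under the action. -/
abbrev IsStableOpen (W : X.left.Opens) : Prop := Good.Stable a.act.left (snd G X).left (W : Set X.left)

/-- The open subscheme as an object over the base. -/
abbrev opn (W : X.left.Opens) : Over S := Over.mk (W.ι ≫ X.hom)

/-- The inclusion of an open subscheme. -/
abbrev inc (W : X.left.Opens) : opn W ⟶ X := Over.homMk W.ι

instance mono_inc (W : X.left.Opens) : Mono (inc W) :=
  haveI : Mono (inc W).left := inferInstanceAs (Mono W.ι)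
  Over.mono_of_mono_left _

variable {a}

theorem range_subset {W : X.left.Opens} (hW : IsStableOpen a W) :
    Set.range ((G ◁ inc W) ≫ a.act).left ⊆ Set.range W.ι := by
  rintro _ ⟨t, rfl⟩
  rw [Scheme.Opens.range_ι]
  refine hW (show (snd G X).left ((G ◁ inc W).left t) ∈ (W : Set X.left) from ?_)
  rw [← Scheme.Hom.comp_apply, ← Over.comp_left, whiskerLeft_snd, Over.comp_left, Scheme.Hom.comp_apply]
  exact ((snd G (opn W)).left t).2

/-- The action on a stable open subscheme, as a morphism. -/
def resActHom {W : X.left.Opens} (hW : IsStableOpen a W) : G ⊗ opn W ⟶ opn W :=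
  Over.homMk (IsOpenImmersion.lift W.ι ((G ◁ inc W) ≫ a.act).left (range_subset hW))
    (by
      show IsOpenImmersion.lift _ _ _ ≫ W.ι ≫ X.hom = _
      rw [IsOpenImmersion.lift_fac_assoc]
      exact Over.w _)

theorem resActHom_inc {W : X.left.Opens} (hW : IsStableOpen a W) :
    resActHom hW ≫ inc W = (G ◁ inc W) ≫ a.act :=
  Over.OverMorphism.ext (IsOpenImmersion.lift_fac _ _ _)

/-- The action on a stable open subscheme. -/
def resAct {W : X.left.Opens} (hW : IsStableOpen a W) : AlgGrp.Action G (opn W) where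
  act := resActHom hW
  one_act := by
    rw [← cancel_mono (inc W), Category.assoc, resActHom_inc, ← whisker_exchange_assoc, a.one_act,
      leftUnitor_naturality]
  mul_act := by
    rw [← cancel_mono (inc W), Category.assoc, resActHom_inc, ← whisker_exchange_assoc, a.mul_act,
      Category.assoc, Category.assoc, resActHom_inc, associator_naturality_right_assoc,
      ← MonoidalCategory.whiskerLeft_comp_assoc, ← resActHom_inc hW, MonoidalCategory.whiskerLeft_comp_assoc,
      resActHom_inc]

theorem resAct_inc {W : X.left.Opens} (hW : IsStableOpen a W) :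
    (resAct hW).act ≫ inc W = (G ◁ inc W) ≫ a.act := resActHom_inc hW

/-- An action compatible with a monomorphism is determined by it. -/
theorem act_unique {X' : Over S} {j : X' ⟶ X} [Mono j] {b b' : AlgGrp.Action G X'}
    (h : b.act ≫ j = (G ◁ j) ≫ a.act) (h' : b'.act ≫ j = (G ◁ j) ≫ a.act) : b.act = b'.act := by
  rw [← cancel_mono j, h, h']

theorem stable_inf {W W' : X.left.Opens} (h : IsStableOpen a W) (h' : IsStableOpen a W') :
    IsStableOpen a (W ⊓ W') := fun t ht => ⟨h ht.1, h' ht.2⟩

theorem stable_iSup {κ : Sort*} {W : κ → X.left.Opens} (h : ∀ i, IsStableOpen a (W i)) :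
    IsStableOpen a (⨆ i, W i) := fun t ht => by
  obtain ⟨i, hi⟩ := TopologicalSpace.Opens.mem_iSup.1 ht
  exact TopologicalSpace.Opens.mem_iSup.2 ⟨i, h i hi⟩

/-- Closedness of orbits inside a union of stable opens may be checked on the members. -/
theorem closedOrbitsOn_of_cover {U : X.left.Opens}
    (h : ∀ y ∈ U, ∃ V : X.left.Opens, y ∈ V ∧ IsStableOpen a V ∧ GLinSh.ClosedOrbitsOn a V) :
    GLinSh.ClosedOrbitsOn a U := by
  intro Ω _ _ T eT f hf
  haveI : Subsingleton T.left := eT.hom.homeomorph.toEquiv.subsingleton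
  set R := Set.range (GIT.psi a f).left.base
  refine closure_subset_iff_isClosed.1 fun p hp => ?_
  obtain ⟨V, hpV, hVs, hV⟩ := h _ p.2
  show (p : (X ⊗ T).left) ∈ R
  let o := ((G ◁ f) ≫ a.act).left
  have ho : ∀ u, (fst X T).left ((GIT.psi a f).left u) = o u := fun u => by
    rw [← Scheme.Hom.comp_apply, ← Over.comp_left, GIT.psi, lift_fst]
  -- the orbit meets `V`
  have hcl : (p : (X ⊗ T).left) ∈ closure R :=
    closure_mono (Set.image_preimage_subset _ _)
      (image_closure_subset_closure_image continuous_subtype_val ⟨p, hp, rfl⟩)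
  obtain ⟨q, hqV, u, rfl⟩ := mem_closure_iff.1 hcl _ ((fst X T).left ⁻¹ᵁ V).isOpen hpV
  have hu : o u ∈ (V : Set X.left) := ho u ▸ hqV
  have hoV : Set.range o ⊆ (V : Set X.left) := range_subset_of_stable f hVs hu
  have hfV : Set.range f.left.base ⊆ (V : Set X.left) := by
    rintro _ ⟨t, rfl⟩
    have : f.left t = o ((lift (1 : T ⟶ G) (𝟙 T)).left t) := by
      rw [← Scheme.Hom.comp_apply, ← Over.comp_left, lift_whiskerLeft_assoc, Category.id_comp, GrpAct.one_smul']
    exact this.symm ▸ hoV ⟨_, rfl⟩
  obtain ⟨C, hC, hCR⟩ := isClosed_induced_iff.1 (hV Ω T eT f hfV)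
  have hRC : R ∩ ((fst X T).left ⁻¹ᵁ V : Set (X ⊗ T).left) ⊆ C := fun q hq =>
    (Set.ext_iff.1 hCR ⟨q, hq.2⟩).2 hq.1
  have hpC : (p : (X ⊗ T).left) ∈ C := by
    refine (closure_minimal hRC hC) ?_
    exact mem_closure_iff.2 fun O hO hpO => by
      obtain ⟨q, ⟨hq₁, hq₂⟩, hq₃⟩ := mem_closure_iff.1 hcl (O ∩ ((fst X T).left ⁻¹ᵁ V : Set (X ⊗ T).left))
        (hO.inter ((fst X T).left ⁻¹ᵁ V).isOpen) ⟨hpO, hpV⟩
      exact ⟨q, hq₁, hq₃, hq₂⟩
  exact (Set.ext_iff.1 hCR ⟨p, hpV⟩).1 hpC

end Groth.Agent.GITss
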