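import Groth.Agent.GITss.Weight
import Groth.Agent.GITss.Restrict
import Groth.Agent.GrpAct.GeomQuot

/-!
# Non-vanishing opens of invariant sections and the ratios of invariant sections
-/

set_option autoImplicit false
set_option backward.isDefEq.respectTransparency false
set_option linter.style.haveILetI false

universe u

open CategoryTheory MonoidalCategory CartesianMonoidalCategory MonObj AlgebraicGeometry
open Opposite TopologicalSpace

noncomputable section

namespace Groth.Agent.GITss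

open AffQuot Limits

variable {S : Scheme.{u}} {G X : Over S} [GrpObj G] {a : AlgGrp.Action G X} (B : GLinSh.LinBun G a)

/-- `r` is the quotient `h / f` on `O`. -/
def IsRatio (f h : Γ(B.V.left, ⊤)) (O : X.left.Opens) (r : Γ(X.left, O)) : Prop :=
  B.π.left.app O r * GLinSh.resTop B.π O f = GLinSh.resTop B.π O h

variable {B}

theorem appLE_congr' {Z Y : Scheme.{u}} {f g : Z ⟶ Y} (h : f = g) {U : Y.Opens} {V : Z.Opens}
    (e : V ≤ f ⁻¹ᵁ U) (e' : V ≤ g ⁻¹ᵁ U) : f.appLE U V e = g.appLE U V e' := by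
  subst h; rfl

theorem res_mul {U W : X.left.Opens} (hWU : W ≤ U) (s t : Γ(B.V.left, B.π.left ⁻¹ᵁ U)) :
    GLinSh.res B.π hWU (s * t) = GLinSh.res B.π hWU s * GLinSh.res B.π hWU t :=
  map_mul _ _ _

theorem resTop_mul (U : X.left.Opens) (s t : Γ(B.V.left, ⊤)) :
    GLinSh.resTop B.π U (s * t) = GLinSh.resTop B.π U s * GLinSh.resTop B.π U t :=
  map_mul _ _ _

theorem IsRatio.mono {f h : Γ(B.V.left, ⊤)} {O O' : X.left.Opens} {r : Γ(X.left, O)} (hr : IsRatio B f h O r)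
    (hO : O' ≤ O) : IsRatio B f h O' (X.left.presheaf.map (homOfLE hO).op r) := by
  have := congrArg (GLinSh.res B.π hO) hr
  rwa [res_mul, res_app, res_resTop, res_resTop] at this

theorem IsRatio.ext {n : ℕ} {f h : Γ(B.V.left, ⊤)} (hf : GLinSh.HasWeight B.atlas.chart n f) {O : X.left.Opens}
    (hO : O ≤ Xf B hf) {r r' : Γ(X.left, O)} (hr : IsRatio B f h O r) (hr' : IsRatio B f h O r') : r = r' := by
  choose W y hxW hWO hy using fun x : O => exists_triv B (x := x.1) (O := O) x.2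
  refine X.left.sheaf.eq_of_locally_eq' W O (fun x => homOfLE (hWO x))
    (fun z hz => Opens.mem_iSup.2 ⟨⟨z, hz⟩, hxW ⟨z, hz⟩⟩) r r' fun x => ?_
  obtain ⟨c, hc⟩ := (hy x).exists_coeff hf
  have hu : IsUnit c := by
    refine X.left.toLocallyRingedSpace.toRingedSpace.isUnit_of_isUnit_germ _ _ fun z hz => ?_
    exact (X.left.mem_basicOpen c z hz).1 (((hy x).mem_nonvanishing hc hz).1 (hO (hWO x hz)))
  have h₁ := hr.mono (hWO x)
  have h₂ := hr'.mono (hWO x)
  have h₃ := h₁.trans h₂.symm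
  rw [hc, ← _root_.mul_assoc, ← _root_.mul_assoc, ← map_mul, ← map_mul] at h₃
  exact hu.mul_left_inj.1 ((hy x).coeff_ext n h₃)

/-- The quotient of two functions of one weight. -/
theorem exists_ratio {n : ℕ} {f h : Γ(B.V.left, ⊤)} (hf : GLinSh.HasWeight B.atlas.chart n f)
    (hh : GLinSh.HasWeight B.atlas.chart n h) : ∃ r : Γ(X.left, Xf B hf), IsRatio B f h (Xf B hf) r := by
  choose W y hxW hWO hy using fun x : Xf B hf => exists_triv B (x := x.1) (O := Xf B hf) x.2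
  have hloc : ∀ x, ∃ s : Γ(X.left, W x), IsRatio B f h (W x) s := by
    intro x
    obtain ⟨c, hc⟩ := (hy x).exists_coeff hf
    obtain ⟨d, hd⟩ := (hy x).exists_coeff hh
    have hu : IsUnit c := by
      refine X.left.toLocallyRingedSpace.toRingedSpace.isUnit_of_isUnit_germ _ _ fun z hz => ?_
      exact (X.left.mem_basicOpen c z hz).1 (((hy x).mem_nonvanishing hc hz).1 (hWO x hz))
    refine ⟨d * ↑hu.unit⁻¹, ?_⟩
    show _ * _ = _
    rw [hc, hd, ← _root_.mul_assoc, ← map_mul, _root_.mul_assoc, IsUnit.val_inv_mul, _root_.mul_one]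
  choose s hs using hloc
  obtain ⟨r, hr, -⟩ := X.left.sheaf.existsUnique_gluing' W (Xf B hf) (fun x => homOfLE (hWO x))
    (fun z hz => Opens.mem_iSup.2 ⟨⟨z, hz⟩, hxW ⟨z, hz⟩⟩) s fun x x' =>
      ((hs x).mono (inf_le_left : W x ⊓ W x' ≤ W x)).ext hf (inf_le_left.trans (hWO x))
        ((hs x').mono (inf_le_right : W x ⊓ W x' ≤ W x'))
  refine ⟨r, ?_⟩
  refine B.V.left.sheaf.eq_of_locally_eq' (fun x => B.π.left ⁻¹ᵁ W x) (B.π.left ⁻¹ᵁ Xf B hf)
    (fun x => homOfLE (B.π.left.preimage_mono (hWO x)))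
    (fun v hv => Opens.mem_iSup.2 ⟨⟨B.π.left v, hv⟩, hxW ⟨B.π.left v, hv⟩⟩) _ _ fun x => ?_
  show GLinSh.res B.π (hWO x) _ = GLinSh.res B.π (hWO x) _
  rw [res_mul, res_app, res_resTop, res_resTop]
  have hrx : X.left.presheaf.map (homOfLE (hWO x)).op r = s x := hr x
  rw [hrx]
  exact hs x

theorem IsRatio.basicOpen_eq {n : ℕ} {f h : Γ(B.V.left, ⊤)} (hf : GLinSh.HasWeight B.atlas.chart n f)
    (hh : GLinSh.HasWeight B.atlas.chart n h) {r : Γ(X.left, Xf B hf)} (hr : IsRatio B f h (Xf B hf) r) :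
    X.left.basicOpen r = Xf B hf ⊓ Xf B hh := by
  refine Opens.ext (Set.ext fun z => ?_)
  by_cases hz : z ∈ Xf B hf
  · obtain ⟨W, y, hzW, hWO, hy⟩ := exists_triv B (x := z) (O := Xf B hf) hz
    obtain ⟨c, hc⟩ := hy.exists_coeff hf
    obtain ⟨d, hd⟩ := hy.exists_coeff hh
    have h₁ := hr.mono hWO
    rw [IsRatio, hc, hd, ← _root_.mul_assoc, ← map_mul] at h₁
    have h₂ := hy.coeff_ext n h₁
    show z ∈ X.left.basicOpen r ↔ z ∈ Xf B hf ⊓ Xf B hh
    have hzb : z ∈ X.left.basicOpen r ↔ z ∈ X.left.basicOpen (X.left.presheaf.map (homOfLE hWO).op r) := by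
      rw [Scheme.basicOpen_res]
      exact ⟨fun h => ⟨hzW, h⟩, fun h => h.2⟩
    have hzc : z ∈ X.left.basicOpen c := (hy.mem_nonvanishing hc hzW).1 hz
    rw [hzb]
    refine Iff.trans ?_ ((and_iff_right hz).trans Iff.rfl).symm
    refine Iff.trans ?_ (hy.mem_nonvanishing hd hzW).symm
    rw [← h₂, Scheme.basicOpen_mul]
    exact ⟨fun h => ⟨h, hzc⟩, fun h => h.1⟩
  · exact iff_of_false (fun h => hz (X.left.basicOpen_le r h)) (fun h => hz h.1)

/-- The projection of the non-vanishing locus on `V` onto the one on `X`. -/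
def rho {n : ℕ} {f : Γ(B.V.left, ⊤)} (hf : GLinSh.HasWeight B.atlas.chart n f) :
    opn (B.V.left.basicOpen f) ⟶ opn (Xf B hf) :=
  Over.homMk (IsOpenImmersion.lift (Xf B hf).ι ((B.V.left.basicOpen f).ι ≫ B.π.left) (by
    rintro _ ⟨v, rfl⟩
    show ((B.V.left.basicOpen f).ι ≫ B.π.left) v ∈ Set.range (Xf B hf).ι
    erw [Scheme.Opens.range_ι]
    exact ⟨(B.V.left.basicOpen f).ι v, v.2, rfl⟩))
    (by
      show IsOpenImmersion.lift _ _ _ ≫ (Xf B hf).ι ≫ X.hom = (B.V.left.basicOpen f).ι ≫ B.V.hom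
      rw [IsOpenImmersion.lift_fac_assoc, Category.assoc, Over.w B.π])

theorem rho_inc {n : ℕ} {f : Γ(B.V.left, ⊤)} (hf : GLinSh.HasWeight B.atlas.chart n f) :
    rho hf ≫ inc (Xf B hf) = inc (B.V.left.basicOpen f) ≫ B.π :=
  Over.OverMorphism.ext (IsOpenImmersion.lift_fac _ _ _)

theorem surjective_rho {n : ℕ} {f : Γ(B.V.left, ⊤)} (hf : GLinSh.HasWeight B.atlas.chart n f) :
    Surjective (rho hf).left := ⟨fun x => by
  obtain ⟨v, hv, hvx⟩ := x.2
  let w : (opn (B.V.left.basicOpen f)).left := (⟨v, hv⟩ : (B.V.left.basicOpen f : Scheme))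
  refine ⟨w, (Xf B hf).ι.isOpenEmbedding.injective ?_⟩
  have e : ((rho hf).left ≫ (Xf B hf).ι) w = ((B.V.left.basicOpen f).ι ≫ B.π.left) w := by
    rw [show (rho hf).left ≫ (Xf B hf).ι = (B.V.left.basicOpen f).ι ≫ B.π.left from congr($(rho_inc hf).left)]
    rfl
  exact (Eq.trans e hvx)⟩

theorem flat_rho {n : ℕ} {f : Γ(B.V.left, ⊤)} (hf : GLinSh.HasWeight B.atlas.chart n f) :
    Flat (rho hf).left := by
  haveI := flat_π B
  have h : Flat ((rho hf).left ≫ (Xf B hf).ι) := by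
    rw [show (rho hf).left ≫ (Xf B hf).ι = (B.V.left.basicOpen f).ι ≫ B.π.left from congr($(rho_inc hf).left)]
    infer_instance
  exact MorphismProperty.of_postcomp @Flat (rho hf).left (Xf B hf).ι
    (inferInstance : IsOpenImmersion (Xf B hf).ι) h

theorem stable_basicOpen {f : Γ(B.V.left, ⊤)} (hf : GLinSh.IsInvFn B.lift f) :
    IsStableOpen B.lift (B.V.left.basicOpen f) := by
  intro t ht
  have h : t ∈ (snd G B.V).left ⁻¹ᵁ B.V.left.basicOpen f := ht
  rw [Scheme.preimage_basicOpen] at h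
  show t ∈ B.lift.act.left ⁻¹ᵁ B.V.left.basicOpen f
  rw [Scheme.preimage_basicOpen]
  exact hf.symm ▸ h

theorem stable_Xf {n : ℕ} {f : Γ(B.V.left, ⊤)} (hf : B.IsInvSection n f) : IsStableOpen a (Xf B hf.1) :=
  AffQuot.stable_image (f := B.π) B.lift_π (stable_basicOpen hf.2)

theorem resAct_rho {n : ℕ} {f : Γ(B.V.left, ⊤)} (hf : B.IsInvSection n f) :
    (resAct (stable_basicOpen hf.2)).act ≫ rho hf.1 = (G ◁ rho hf.1) ≫ (resAct (stable_Xf hf)).act := by
  rw [← cancel_mono (inc (Xf B hf.1)), Category.assoc, rho_inc, reassoc_of% resAct_inc (stable_basicOpen hf.2),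
    B.lift_π, Category.assoc, resAct_inc, ← MonoidalCategory.whiskerLeft_comp_assoc,
    ← MonoidalCategory.whiskerLeft_comp_assoc, rho_inc]

/-- The quotient of two invariant sections is invariant. -/
theorem IsRatio.invariant {n : ℕ} {f h : Γ(B.V.left, ⊤)} (hf : B.IsInvSection n f) (hh : B.IsInvSection n h)
    {r : Γ(X.left, Xf B hf.1)} (hr : IsRatio B f h (Xf B hf.1) r) :
    (resAct (stable_Xf hf)).act.left.appTop ((Xf B hf.1).topIso.inv r) =
      (snd G (opn (Xf B hf.1))).left.appTop ((Xf B hf.1).topIso.inv r) := by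
  let Wf := B.V.left.basicOpen f
  let σV := (resAct (stable_basicOpen hf.2)).act
  let πV := snd G (opn Wf)
  let R : Γ(B.V.left, Wf) → Γ((opn Wf).left, ⊤) := fun s => Wf.topIso.inv s
  let f' : Γ((opn Wf).left, ⊤) := Wf.ι.appTop f
  let h' : Γ((opn Wf).left, ⊤) := Wf.ι.appTop h
  have hfu : IsUnit f' := by
    have : Wf.ι ⁻¹ᵁ B.V.left.basicOpen f = ⊤ := Scheme.Opens.ι_preimage_self _
    rw [Scheme.preimage_basicOpen] at this
    refine Wf.toScheme.toLocallyRingedSpace.toRingedSpace.isUnit_of_isUnit_germ _ _ fun z hz => ?_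
    exact (Wf.toScheme.mem_basicOpen f' z hz).1 (this.ge hz)
  let r' := (rho hf.1).left.appTop ((Xf B hf.1).topIso.inv r)
  have hrel : r' * f' = h' := by
    have hle : Wf ≤ B.π.left ⁻¹ᵁ Xf B hf.1 := fun v hv => ⟨v, hv, rfl⟩
    have h0 := congrArg (fun s => (Wf.ι.appLE (B.π.left ⁻¹ᵁ Xf B hf.1) ⊤ (fun v _ => hle v.2)) s) hr
    simp only [map_mul] at h0
    have key : ∀ g : Γ(B.V.left, ⊤), Wf.ι.appLE (B.π.left ⁻¹ᵁ Xf B hf.1) ⊤ (fun v _ => hle v.2)
        (GLinSh.resTop B.π (Xf B hf.1) g) = Wf.ι.appTop g := fun g => by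
      rw [GLinSh.resTop, ← ConcreteCategory.comp_apply, Scheme.Hom.map_appLE, Scheme.Hom.appTop,
        Scheme.Hom.app_eq_appLE]
      rfl
    rw [key, key] at h0
    refine Eq.trans ?_ h0
    refine congrArg (· * f') ?_
    have etop : (Xf B hf.1).topIso.inv = (Xf B hf.1).ι.appLE (Xf B hf.1) ⊤ (Scheme.Opens.ι_preimage_self _).ge := by
      rw [Scheme.Opens.topIso_inv, Scheme.Opens.ι_appLE]
      rfl
    show ((Xf B hf.1).topIso.inv ≫ (rho hf.1).left.appTop).hom r = (B.π.left.app (Xf B hf.1) ≫ Wf.ι.appLE _ ⊤ _).hom r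
    have hle' : (⊤ : Wf.toScheme.Opens) ≤ Wf.ι ⁻¹ᵁ (B.π.left ⁻¹ᵁ Xf B hf.1) := fun v _ => hle v.2
    suffices e : (Xf B hf.1).topIso.inv ≫ (rho hf.1).left.appTop =
        B.π.left.app (Xf B hf.1) ≫ Wf.ι.appLE (B.π.left ⁻¹ᵁ Xf B hf.1) ⊤ hle' by
      exact congr(($e).hom r)
    rw [etop, Scheme.Hom.appTop, Scheme.Hom.app_eq_appLE, Scheme.Hom.app_eq_appLE]
    erw [Scheme.Hom.appLE_comp_appLE, Scheme.Hom.appLE_comp_appLE]
    exact appLE_congr' congr($(rho_inc hf.1).left) _ _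
  have hσf : ∀ g : Γ(B.V.left, ⊤), GLinSh.IsInvFn B.lift g →
      σV.left.appTop (Wf.ι.appTop g) = πV.left.appTop (Wf.ι.appTop g) := by
    intro g hg
    show (Wf.ι.appTop ≫ σV.left.appTop).hom g = (Wf.ι.appTop ≫ πV.left.appTop).hom g
    rw [← Scheme.Hom.comp_appTop, ← Scheme.Hom.comp_appTop]
    have e₁ : σV.left ≫ Wf.ι = (G ◁ inc Wf).left ≫ B.lift.act.left := congr($(resAct_inc _).left)
    have e₂ : πV.left ≫ Wf.ι = (G ◁ inc Wf).left ≫ (snd G B.V).left :=
      congr($((whiskerLeft_snd G (inc Wf)).symm).left)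
    rw [e₁, e₂, Scheme.Hom.comp_appTop, Scheme.Hom.comp_appTop]
    exact congrArg _ hg
  have hinv : σV.left.appTop r' = πV.left.appTop r' := by
    have e := congrArg σV.left.appTop hrel
    rw [map_mul, show σV.left.appTop f' = πV.left.appTop f' from hσf f hf.2,
      show σV.left.appTop h' = πV.left.appTop h' from hσf h hh.2, ← hrel, map_mul] at e
    exact ((hfu.map πV.left.appTop.hom).mul_left_inj).1 e
  haveI := flat_rho hf.1
  haveI := surjective_rho hf.1
  have sq := ((Blanchard.isPullback_whiskerLeft G (rho hf.1)).map (Over.forget S))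
  haveI : Flat (G ◁ rho hf.1).left := MorphismProperty.of_isPullback sq ‹Flat (rho hf.1).left›
  haveI : Surjective (G ◁ rho hf.1).left := MorphismProperty.of_isPullback sq ‹Surjective (rho hf.1).left›
  haveI := Flat.epi_of_flat_of_surjective (G ◁ rho hf.1).left
  obtain ⟨ψ, hψ⟩ := GeomQuot.ev_surjective ((Xf B hf.1).topIso.inv r)
  show _ = _
  rw [← hψ, ← GeomQuot.ev_comp, ← GeomQuot.ev_comp]
  congr 1
  rw [← cancel_epi (G ◁ rho hf.1).left]
  apply GeomQuot.ev_injective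
  have e₁ : (G ◁ rho hf.1).left ≫ (resAct (stable_Xf hf)).act.left = σV.left ≫ (rho hf.1).left :=
    congr($((resAct_rho hf).symm).left)
  have e₂ : (G ◁ rho hf.1).left ≫ (snd G (opn (Xf B hf.1))).left = πV.left ≫ (rho hf.1).left :=
    congr($(whiskerLeft_snd G (rho hf.1)).left)
  rw [reassoc_of% e₁, reassoc_of% e₂]
  simp only [GeomQuot.ev_comp, hψ]
  exact hinv

end Groth.Agent.GITss
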