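import Groth.Agent.GITss.Glue
import Groth.Agent.GITss.Ratio
import Groth.Agent.AffQuot.Red

/-!
# The cover of the semi-stable locus by non-vanishing affine opens and its good quotient
-/

set_option autoImplicit false
set_option backward.isDefEq.respectTransparency false
set_option linter.style.haveILetI false

universe u

open CategoryTheory MonoidalCategory CartesianMonoidalCategory MonObj GrpObj AlgebraicGeometry
open TopologicalSpace

noncomputable section

namespace Groth.Agent.GITss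

open AffQuot Limits

variable {S : Scheme.{u}} {G X : Over S} [GrpObj G] {a : AlgGrp.Action G X} (B : GLinSh.LinBun G a)

/-- An affine non-vanishing open of an invariant section of positive weight. -/
def SemiOpen (W : X.left.Opens) : Prop :=
  ∃ (n : ℕ) (f : Γ(B.V.left, ⊤)) (hf : B.IsInvSection n f), 1 ≤ n ∧ Xf B hf.1 = W ∧ IsAffineOpen W

variable {B}

theorem Xf_pow {n : ℕ} {f : Γ(B.V.left, ⊤)} (hf : B.IsInvSection n f) {m : ℕ} (hm : 1 ≤ m) :
    Xf B (isInvSection_pow hf m).1 = Xf B hf.1 :=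
  Opens.ext (nonvanishing_pow hf.1 hm)

theorem isInvSection_congr {n n' : ℕ} {f : Γ(B.V.left, ⊤)} (hf : B.IsInvSection n f) (e : n = n') :
    B.IsInvSection n' f := e ▸ hf

/-- Two non-vanishing opens can be written with sections of one weight. -/
theorem exists_common {W W' : X.left.Opens} (h : SemiOpen B W) (h' : SemiOpen B W') :
    ∃ (N : ℕ) (f g : Γ(B.V.left, ⊤)) (hf : B.IsInvSection N f) (hg : B.IsInvSection N g),
      1 ≤ N ∧ Xf B hf.1 = W ∧ Xf B hg.1 = W' := by
  obtain ⟨n, f, hf, hn, rfl, -⟩ := h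
  obtain ⟨m, g, hg, hm, rfl, -⟩ := h'
  refine ⟨n * m, f ^ m, g ^ n, isInvSection_pow hf m, isInvSection_congr (isInvSection_pow hg n) (mul_comm m n),
    Nat.one_le_iff_ne_zero.2 (Nat.mul_ne_zero (by omega) (by omega)), Xf_pow hf hm, ?_⟩
  exact Opens.ext (nonvanishing_pow hg.1 hn)

/-- A non-vanishing open cuts out the others by invariant functions. -/
theorem exists_cut {W : X.left.Opens} (hs : IsStableOpen a W) {N : ℕ} {f g : Γ(B.V.left, ⊤)}
    (hf : B.IsInvSection N f) (hg : B.IsInvSection N g) (hW : Xf B hf.1 = W) :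
    ∃ r : Γ(X.left, W), IsRatio B f g W r ∧ X.left.basicOpen r = W ⊓ Xf B hg.1 ∧
      (resAct hs).act.left.appTop (W.topIso.inv r) = (snd G (opn W)).left.appTop (W.topIso.inv r) := by
  subst hW
  obtain ⟨r, hr⟩ := exists_ratio hf.1 hg.1
  exact ⟨r, hr, hr.basicOpen_eq hf.1 hg.1, hr.invariant hf hg⟩

theorem qFamily_semiOpen : QFamily a (SemiOpen B) where
  stable W h := by
    obtain ⟨n, f, hf, -, rfl, -⟩ := h
    exact stable_Xf hf
  affine W h := by
    obtain ⟨n, f, hf, -, -, h⟩ := h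
    exact h
  inf W W' h h' := by
    obtain ⟨N, f, g, hf, hg, hN, hW, hW'⟩ := exists_common h h'
    have hs : IsStableOpen a W := hW ▸ stable_Xf hf
    obtain ⟨r, -, hr, -⟩ := exists_cut hs hf hg hW
    obtain ⟨-, -, -, -, -, haff⟩ := h
    refine ⟨N + N, f * g, isInvSection_mul hf hg, by omega, ?_, ?_⟩
    · rw [← hW, ← hW']
      exact Opens.ext (nonvanishing_mul hf.1 hg.1)
    · rw [← hW', ← hr]
      exact haff.basicOpen r
  cut W W' hW' hW hle := by
    obtain ⟨N, f, g, hf, hg, -, hf', hg'⟩ := exists_common hW' hW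
    obtain ⟨r, -, hr, hinv⟩ := exists_cut _ hf hg hf'
    exact ⟨r, by rw [hr, hg', inf_eq_right.2 hle], hinv⟩

theorem mem_ssLocus_iff (x : X.left) : x ∈ B.ssLocus ↔ ∃ W, SemiOpen B W ∧ x ∈ W := by
  constructor
  · rintro ⟨n, f, hn, hf, hx, U, hU, haff⟩
    obtain rfl : Xf B hf.1 = U := Opens.ext hU.symm
    exact ⟨_, ⟨n, f, hf, hn, rfl, haff⟩, hx⟩
  · rintro ⟨W, ⟨n, f, hf, hn, rfl, haff⟩, hx⟩
    exact ⟨n, f, hn, hf, hx, _, rfl, haff⟩

theorem mem_sLocus_iff (x : X.left) :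
    x ∈ B.sLocus ↔ ∃ W, SemiOpen B W ∧ GLinSh.ClosedOrbitsOn a W ∧ x ∈ W := by
  constructor
  · rintro ⟨n, f, hn, hf, hx, U, hU, haff, hcl⟩
    obtain rfl : Xf B hf.1 = U := Opens.ext hU.symm
    exact ⟨_, ⟨n, f, hf, hn, rfl, haff⟩, hcl, hx⟩
  · rintro ⟨W, ⟨n, f, hf, hn, rfl, haff⟩, hcl, hx⟩
    exact ⟨n, f, hn, hf, hx, _, rfl, haff, hcl⟩

section Field

variable {k : Type u} [Field k] [CharZero k] {G X : Over (Spec (CommRingCat.of k))} [GrpObj G]
  {a : AlgGrp.Action G X} {B : GLinSh.LinBun G a}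

theorem hasAffineQuotients (hG : Red.IsReductive G) : HasAffineQuotients G := fun Z b hZ => by
  haveI := hZ
  obtain ⟨Q, q, h₁, h₂, -, h₄⟩ := exists_quotient_of_isReductive hG b
  exact ⟨Q, q, h₁, h₂, h₄⟩

/-- The good quotient of the semi-stable locus. -/
theorem exists_quotient_ssLocus (hG : Red.IsReductive G) {U : X.left.Opens}
    (hU : (U : Set X.left) = B.ssLocus) (aU : AlgGrp.Action G (opn U))
    (haU : aU.act ≫ inc U = (G ◁ inc U) ≫ a.act) :
    ∃ (Y : Over (Spec (CommRingCat.of k))) (φ : opn U ⟶ Y), GoodAct aU φ ∧ IsAffineHom φ.left ∧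
      (LocallyOfFiniteType X.hom → LocallyOfFiniteType Y.hom) ∧
      ∀ W, SemiOpen B W → ∃ V : Y.left.Opens, IsAffineOpen V ∧ φ.left ⁻¹ᵁ V = U.ι ⁻¹ᵁ W :=
  exists_goodAct qFamily_semiOpen (hasAffineQuotients hG)
    (fun x => by rw [← SetLike.mem_coe, hU]; exact mem_ssLocus_iff x) aU haU

end Field

end Groth.Agent.GITss
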