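import Groth.Agent.GITss.Glue

/-!
# Functions on open subschemes of a good quotient
-/

set_option autoImplicit false
set_option backward.isDefEq.respectTransparency false
set_option linter.style.haveILetI false

universe u

open CategoryTheory MonoidalCategory CartesianMonoidalCategory MonObj GrpObj AlgebraicGeometry
open TopologicalSpace

noncomputable section

namespace Groth.Agent.GITss

open AffQuot Limits

/-- Sections pull back injectively along a good morphism. -/
theorem app_injective {X Y T : Scheme.{u}} {φ : X ⟶ Y} {σ π : T ⟶ X} (h : Good φ σ π) (O : Y.Opens) :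
    Function.Injective (φ.app O) := by
  have hpb : IsPullback (φ ⁻¹ᵁ O).ι (φ ∣_ O) φ O.ι := (isPullback_morphismRestrict φ O).flip
  let q := Limits.pullback.fst (π ≫ φ) O.ι
  let s := Limits.pullback.snd (π ≫ φ) O.ι
  have hc : q ≫ π ≫ φ = s ≫ O.ι := Limits.pullback.condition
  let π' := hpb.lift (q ≫ π) s (by rw [Category.assoc, hc])
  let σ' := hpb.lift (q ≫ σ) s (by rw [Category.assoc, h.inv, hc])
  have hπ₂ : π' ≫ (φ ∣_ O) = s := hpb.lift_snd _ _ _
  have hg : Good (φ ∣_ O) σ' π' := by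
    refine h.of_isPullback hpb (q := q) ?_ (hpb.lift_fst _ _ _) (hpb.lift_fst _ _ _) ?_
    · rw [hπ₂]
      exact IsPullback.of_hasPullback _ _
    · rw [hπ₂]
      exact hpb.lift_snd _ _ _
  have h₁ := (appTop_of_good hg).1
  rw [morphismRestrict_appTop] at h₁
  have h₂ : Function.Injective (φ.app (O.ι ''ᵁ ⊤)) := fun x y e =>
    h₁ (congrArg (X.presheaf.map _).hom e)
  rwa [Scheme.Opens.ι_image_top] at h₂

/-- Sections over the image of an open immersion are determined on the source. -/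
theorem appLE_injective_of_range {Z Y : Scheme.{u}} (e : Z ⟶ Y) [IsOpenImmersion e] {P : Y.Opens}
    (hP : P = e.opensRange) (h : (⊤ : Z.Opens) ≤ e ⁻¹ᵁ P) : Function.Injective (e.appLE P ⊤ h) := by
  subst hP
  have key : ∀ (h' : (⊤ : Z.Opens) ≤ e ⁻¹ᵁ (e ''ᵁ ⊤)), Function.Injective (e.appLE (e ''ᵁ ⊤) ⊤ h') := by
    intro h'
    rw [← Scheme.Hom.appIso_hom']
    exact (ConcreteCategory.bijective_of_isIso (e.appIso ⊤).hom).injective
  revert h
  rw [← Scheme.Hom.image_top_eq_opensRange]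
  exact key

variable {S : Scheme.{u}} {G X Y : Over S} [GrpObj G] {a : AlgGrp.Action G X} {U : X.left.Opens}
  {aU : AlgGrp.Action G (opn U)} {φ : opn U ⟶ Y}

theorem opensRange_res' {W W' : X.left.Opens} (h : W ≤ W') : (res' h).left.opensRange = W'.ι ⁻¹ᵁ W := by
  show (X.left.homOfLE h).opensRange = _
  exact Scheme.opensRange_homOfLE h

/-- An invariant function on a saturated stable open descends. -/
theorem exists_desc (hg : GoodAct aU φ) (haU : aU.act ≫ inc U = (G ◁ inc U) ≫ a.act) {W : X.left.Opens}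
    (hW : IsStableOpen a W) (hWU : W ≤ U) {V : Y.left.Opens} (hV : φ.left ⁻¹ᵁ V = U.ι ⁻¹ᵁ W) (r : Γ(X.left, W))
    (hr : (resAct hW).act.left.appTop (W.topIso.inv r) = (snd G (opn W)).left.appTop (W.topIso.inv r)) :
    ∃ t : Γ(Y.left, V), φ.left.appLE V (U.ι ⁻¹ᵁ W) hV.ge t = U.ι.app W r := by
  have hrange : φ.left ⁻¹ᵁ V = (res' hWU).left.opensRange := by rw [opensRange_res', hV]
  let φW := IsOpenImmersion.lift V.ι ((res' hWU).left ≫ φ.left) (by
    rw [Scheme.Opens.range_ι]
    rintro _ ⟨w, rfl⟩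
    exact (hrange.ge ⟨w, rfl⟩ : (res' hWU).left w ∈ φ.left ⁻¹ᵁ V))
  have hφW : φW ≫ V.ι = (res' hWU).left ≫ φ.left := IsOpenImmersion.lift_fac _ _ _
  have sq : IsPullback (res' hWU).left φW φ.left V.ι :=
    (IsOpenImmersion.isPullback φW (res' hWU).left V.ι φ.left hφW.symm
      (by rw [Scheme.Opens.opensRange_ι]; exact hrange)).flip
  have e₁ := congr($(resAct_res' hW haU hWU).left)
  have e₂ := congr($((whiskerLeft_snd G (res' hWU)).symm).left)
  simp only [Over.comp_left] at e₁ e₂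
  have hgW : Good φW (resAct hW).act.left (snd G (opn W)).left := by
    refine hg.of_isPullback sq (isPullback_whisker_snd sq) e₁ e₂ ?_
    rw [← cancel_mono V.ι, Category.assoc, Category.assoc, hφW, reassoc_of% e₁, reassoc_of% e₂, hg.inv]
  obtain ⟨t', ht'⟩ := (appTop_of_good hgW).2.ge hr
  refine ⟨V.topIso.hom t', ?_⟩
  have htop : (⊤ : (opn W).left.Opens) ≤ (res' hWU).left ⁻¹ᵁ (U.ι ⁻¹ᵁ W) := fun w _ => by
    show U.ι ((res' hWU).left w) ∈ W
    rw [res'_apply]
    exact w.2
  refine appLE_injective_of_range (res' hWU).left (opensRange_res' hWU).symm htop ?_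
  have etopW : W.topIso.inv = W.ι.appLE W ⊤ (Scheme.Opens.ι_preimage_self _).ge := by
    rw [Scheme.Opens.topIso_inv, Scheme.Opens.ι_appLE]
    rfl
  have etopV : V.topIso.inv = V.ι.appLE V ⊤ (Scheme.Opens.ι_preimage_self _).ge := by
    rw [Scheme.Opens.topIso_inv, Scheme.Opens.ι_appLE]
    rfl
  have h₁ : φ.left.appLE V (U.ι ⁻¹ᵁ W) hV.ge ≫ (res' hWU).left.appLE (U.ι ⁻¹ᵁ W) ⊤ htop =
      V.topIso.inv ≫ φW.appTop := by
    rw [etopV, Scheme.Hom.appTop, Scheme.Hom.app_eq_appLE]
    erw [Scheme.Hom.appLE_comp_appLE, Scheme.Hom.appLE_comp_appLE]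
    congr 1
    exact hφW.symm
  have h₂ : U.ι.app W ≫ (res' hWU).left.appLE (U.ι ⁻¹ᵁ W) ⊤ htop = W.topIso.inv := by
    rw [etopW, Scheme.Hom.app_eq_appLE]
    erw [Scheme.Hom.appLE_comp_appLE]
    congr 1
    exact X.left.homOfLE_ι hWU
  refine (congr(($h₁).hom (V.topIso.hom t'))).trans (Eq.trans ?_ (congr(($h₂).hom r)).symm)
  show φW.appTop (V.topIso.inv (V.topIso.hom t')) = _
  rw [Iso.hom_inv_id_apply]
  exact ht'

end Groth.Agent.GITss
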