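import Groth.Agent.GITss.AmpleCrit
import Groth.Agent.GITss.Cover
import Groth.Agent.GITss.Descend

/-!
# The quotient of the semi-stable locus carries an ample module
-/

set_option autoImplicit false
set_option backward.isDefEq.respectTransparency false
set_option linter.style.haveILetI false

universe u

open CategoryTheory MonoidalCategory CartesianMonoidalCategory MonObj GrpObj AlgebraicGeometry
open TopologicalSpace

noncomputable section

namespace Groth.Agent.GITss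

open AffQuot Limits
open Groth.Agent.QC (resO)

variable {S : Scheme.{u}} {G X : Over S} [GrpObj G] {a : AlgGrp.Action G X} {B : GLinSh.LinBun G a}

theorem IsRatio.mul {f g h : Γ(B.V.left, ⊤)} {O : X.left.Opens} {r s : Γ(X.left, O)}
    (hr : IsRatio B g f O r) (hs : IsRatio B h g O s) : IsRatio B h f O (r * s) := by
  show _ = _
  rw [map_mul, _root_.mul_assoc, hs, hr]

/-- The quotient of a quasi-compact semi-stable locus carries an ample module. -/
theorem exists_isAmple {U : X.left.Opens} (hU : (U : Set X.left) = B.ssLocus) (hc : IsCompact (U : Set X.left))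
    {Y : Over S} {aU : AlgGrp.Action G (opn U)} (haU : aU.act ≫ inc U = (G ◁ inc U) ≫ a.act) {φ : opn U ⟶ Y}
    (hg : GoodAct aU φ)
    (hV : ∀ W, SemiOpen B W → ∃ V : Y.left.Opens, IsAffineOpen V ∧ φ.left ⁻¹ᵁ V = U.ι ⁻¹ᵁ W) :
    ∃ M : Y.left.Modules, CohB1.IsAmple M := by
  classical
  have hmem : ∀ x, x ∈ U ↔ ∃ W, SemiOpen B W ∧ x ∈ W := fun x => by
    rw [← SetLike.mem_coe, hU]; exact mem_ssLocus_iff x
  obtain ⟨t, ht⟩ := hc.elim_finite_subcover (fun W : Idx (SemiOpen B) => (W.1 : Set X.left)) (fun W => W.1.isOpen)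
    (fun x hx => by
      obtain ⟨W, hW, hxW⟩ := (hmem x).1 hx
      exact Set.mem_iUnion.2 ⟨⟨W, hW⟩, hxW⟩)
  have hle : ∀ i : t, i.1.1 ≤ U := fun i x hx => (hmem x).2 ⟨_, i.1.2, hx⟩
  choose n f hf hn hW hWaff using fun i : t => i.1.2
  let N : ℕ := ∏ i, n i
  have hN : ∀ i, ∃ d, 1 ≤ d ∧ n i * d = N := fun i => by
    obtain ⟨d, hd⟩ : n i ∣ N := Finset.dvd_prod_of_mem n (Finset.mem_univ i)
    refine ⟨d, Nat.one_le_iff_ne_zero.2 fun h => ?_, hd.symm⟩
    rw [h, Nat.mul_zero] at hd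
    exact absurd hd (Finset.prod_ne_zero_iff.2 fun j _ => by have := hn j; omega)
  choose d hd hdN using hN
  let F : t → Γ(B.V.left, ⊤) := fun i => f i ^ d i
  have hF : ∀ i, B.IsInvSection N (F i) := fun i => isInvSection_congr (isInvSection_pow (hf i) (d i)) (hdN i)
  have hWF : ∀ i, Xf B (hF i).1 = i.1.1 := fun i =>
    (Opens.ext (nonvanishing_pow (hf i).1 (hd i)) : Xf B (hF i).1 = Xf B (hf i).1).trans (hW i)
  have hst : ∀ i : t, IsStableOpen a i.1.1 := fun i => qFamily_semiOpen.stable _ i.1.2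
  choose V hVaff hpre using fun i : t => hV _ i.1.2
  have hr : ∀ i j : t, ∃ r : Γ(X.left, j.1.1), IsRatio B (F j) (F i) j.1.1 r ∧
      X.left.basicOpen r = j.1.1 ⊓ i.1.1 ∧
      (resAct (hst j)).act.left.appTop (j.1.1.topIso.inv r) =
        (snd G (opn j.1.1)).left.appTop (j.1.1.topIso.inv r) := fun i j => by
    obtain ⟨r, h₁, h₂, h₃⟩ := exists_cut (hst j) (hF j) (hF i) (hWF j)
    exact ⟨r, h₁, h₂.trans (by rw [hWF i]), h₃⟩
  choose r hrat hrloc hrinv using hr
  choose T hT using fun i j : t => exists_desc hg haU (hst j) (hle j) (hpre j) (r i j) (hrinv i j)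
  have hpre' : ∀ i, φ.left ⁻¹' (V i : Set Y.left) = U.ι ⁻¹' (i.1.1 : Set X.left) := fun i =>
    congrArg (fun O : (opn U).left.Opens => (O : Set (opn U).left)) (hpre i)
  refine exists_isAmple_of_ratios V T hVaff (fun y => ?_) (fun i j => ?_) (fun i j l O hj hl => ?_)
  · obtain ⟨x, rfl⟩ := hg.surjective y
    obtain ⟨W, hWt, hxW⟩ := Set.mem_iUnion₂.1 (ht x.2)
    exact ⟨⟨W, hWt⟩, (Set.ext_iff.1 (hpre' ⟨W, hWt⟩) x).2 hxW⟩
  · have h₁ : φ.left ⁻¹ᵁ Y.left.basicOpen (T i j) = φ.left ⁻¹ᵁ (V j ⊓ V i) := by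
      have h₂ := congrArg (opn U).left.basicOpen (hT i j)
      rw [Scheme.Hom.appLE, CommRingCat.comp_apply, Scheme.basicOpen_res, ← Scheme.preimage_basicOpen] at h₂
      erw [← Scheme.preimage_basicOpen] at h₂
      rw [hrloc, Scheme.Hom.preimage_inf, ← hpre, ← hpre] at h₂
      rw [Scheme.Hom.preimage_inf, ← h₂, inf_eq_right.2 (φ.left.preimage_mono (Y.left.basicOpen_le _))]
    refine Opens.ext (Set.ext fun y => ?_)
    obtain ⟨x, rfl⟩ := hg.surjective y
    exact SetLike.ext_iff.1 h₁ x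
  · apply app_injective hg O
    have hleP : ∀ {i : t}, O ≤ V i → φ.left ⁻¹ᵁ O ≤ U.ι ⁻¹ᵁ i.1.1 := fun {i} h =>
      (φ.left.preimage_mono h).trans (hpre i).le
    have key : ∀ i j : t, ∀ (h : O ≤ V j), φ.left.app O (resO Y.left h (T i j)) =
        U.ι.appLE j.1.1 (φ.left ⁻¹ᵁ O) (hleP h) (r i j) := by
      intro i j h
      have e := congrArg ((opn U).left.presheaf.map (homOfLE (hleP h)).op) (hT i j)
      rw [Scheme.Hom.appLE, CommRingCat.comp_apply, ← ConcreteCategory.comp_apply, ← Functor.map_comp] at e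
      refine Eq.trans ?_ e
      show ((Y.left.presheaf.map (homOfLE h).op) ≫ φ.left.app O).hom (T i j) = _
      rw [φ.left.naturality]
      rfl
    rw [map_mul, key, key, key]
    let O' : X.left.Opens := j.1.1 ⊓ l.1.1
    have hO : φ.left ⁻¹ᵁ O ≤ U.ι ⁻¹ᵁ O' := le_inf (hleP hj) (hleP hl)
    have hrr : X.left.presheaf.map (homOfLE (inf_le_left : O' ≤ j.1.1)).op (r i j) *
        X.left.presheaf.map (homOfLE (inf_le_right : O' ≤ l.1.1)).op (r j l) =
        X.left.presheaf.map (homOfLE (inf_le_right : O' ≤ l.1.1)).op (r i l) :=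
      (((hrat i j).mono inf_le_left).mul ((hrat j l).mono inf_le_right)).ext (hF l).1
        (inf_le_right.trans (hWF l).ge) ((hrat i l).mono inf_le_right)
    have e := congrArg (U.ι.appLE O' (φ.left ⁻¹ᵁ O) hO) hrr
    have hm : ∀ {i : t} (h : O' ≤ i.1.1) (h' : φ.left ⁻¹ᵁ O ≤ U.ι ⁻¹ᵁ i.1.1) (x : Γ(X.left, i.1.1)),
        U.ι.appLE O' (φ.left ⁻¹ᵁ O) hO (X.left.presheaf.map (homOfLE h).op x) =
          U.ι.appLE i.1.1 (φ.left ⁻¹ᵁ O) h' x := fun h h' x =>
      congr($(Scheme.Hom.map_appLE U.ι hO (homOfLE h).op) x)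
    simp only [map_mul] at e
    exact ((congrArg₂ (· * ·) (hm _ _ _) (hm _ _ _)).symm.trans e).trans (hm _ _ _)

end Groth.Agent.GITss
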