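import Groth.Agent.NormLB.Module
import Groth.Agent.TMul.AmpleBasis

/-!
# An ample module from affine opens and compatible ratios
-/

set_option autoImplicit false
set_option backward.isDefEq.respectTransparency false

universe u

open CategoryTheory CategoryTheory.Limits AlgebraicGeometry TopologicalSpace Opposite
open Groth.Agent.QC (res resO res_res res_smul resO_resO)

noncomputable section

namespace Groth.Agent.GITss

open Groth.Agent.NormLB
open TMul (homOf val_homOf genLocus_comp mem_genLocus_iff_isUnit leftUnitIso)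

variable {Y : Scheme.{u}} {κ : Type u} (V : κ → Y.Opens) (T : ∀ _i j : κ, Γ(Y, V j))

/-- Finitely many affine opens, each the locus where the corresponding ratios are invertible, give an ample
module. -/
theorem exists_isAmple_of_ratios [Finite κ] (haff : ∀ i, IsAffineOpen (V i))
    (hcov : ∀ y : Y, ∃ i, y ∈ V i) (hloc : ∀ i j, Y.basicOpen (T i j) = V j ⊓ V i)
    (hcoc : ∀ (i j l : κ) (O : Y.Opens) (hj : O ≤ V j) (hl : O ≤ V l),
      resO Y hj (T i j) * resO Y hl (T j l) = resO Y hl (T i l)) :
    ∃ M : Y.Modules, CohB1.IsAmple M := by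
  let c : ∀ z w : κ, Γ(Y, V z ⊓ V w) := fun z w => resO Y inf_le_right (T z w)
  have hc : IsCocycle c := fun z w v O hz hw hv => by
    simp only [c, resO_resO]
    exact hcoc z w v O hw hv
  have hu : ∀ z w, IsUnit (c z w) := fun z w => by
    have hle : V z ⊓ V w ≤ Y.basicOpen (T z w) := by rw [hloc, inf_comm]
    refine Y.toLocallyRingedSpace.toRingedSpace.isUnit_of_isUnit_germ _ _ fun y hy => ?_
    have hy' : y ∈ Y.basicOpen (c z w) := by
      show y ∈ Y.basicOpen (Y.presheaf.map _ (T z w))
      erw [Scheme.basicOpen_res]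
      exact ⟨hy, hle hy⟩
    exact (Y.mem_basicOpen (c z w) y hy).1 hy'
  refine ⟨line c, isInvertible_line hc hu hcov, ?_, fun y => ?_⟩
  · refine ⟨?_⟩
    rw [show (Set.univ : Set Y) = ⋃ i, (V i : Set Y) from (Set.eq_univ_of_forall fun y => Set.mem_iUnion.2 (hcov y)).symm]
    exact isCompact_iUnion fun i => (haff i).isCompact
  obtain ⟨l, hl⟩ := hcov y
  let σ : Γ(line c, ⊤) :=
    (⟨((0 : Γ(Coh.structureModule Y, ⊤)), fun w => resO Y inf_le_right (T l w)), rfl,
      fun a b O hO ha hb => by
        simp only [c, resO_resO]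
        exact (hcoc l a b O ha hb).symm⟩ : (fams c).obj ⊤)
  have hσ : ∀ w, coord σ w = resO Y inf_le_right (T l w) := fun w => rfl
  have hgl : CohB1.genLocus _ (homOf σ) = V l := by
    refine Opens.ext (Set.ext fun x => ?_)
    obtain ⟨z, hz⟩ := hcov x
    have hval : TMul.val (homOf σ) (V z) = T l z • gen hc z := by
      rw [val_homOf]
      refine eq_of_coord fun w => ?_
      rw [coord_res, coord_smul, coord_gen, hσ]
      simp only [c, resO_resO]
      exact (hcoc l z w (V z ⊓ V w) inf_le_left inf_le_right).symm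
    show x ∈ CohB1.genLocus _ (homOf σ) ↔ x ∈ V l
    rw [mem_genLocus_iff_isUnit (homOf σ) (isGen_gen hc hu z) hval hz, ← Y.mem_basicOpen (T l z) x hz, hloc]
    exact ⟨fun h => h.2, fun h => ⟨hz, h⟩⟩
  have e := (genLocus_comp (homOf σ) (leftUnitIso (line c)).inv).trans hgl
  refine ⟨0, homOf σ ≫ (leftUnitIso (line c)).inv, e.ge hl, ?_⟩
  have h := haff l
  rw [← e] at h
  exact h

end Groth.Agent.GITss
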