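import Groth.Agent.GITss.Cover
import Mathlib.AlgebraicGeometry.ResidueField

/-!
# Invariant sections not vanishing at finitely many semi-stable points
-/

set_option autoImplicit false
set_option backward.isDefEq.respectTransparency false
set_option linter.style.haveILetI false

universe u

open CategoryTheory MonoidalCategory CartesianMonoidalCategory MonObj GrpObj AlgebraicGeometry
open TopologicalSpace

noncomputable section

namespace Groth.Agent.GITss

variable {k : Type u} [Field k] {G X : Over (Spec (CommRingCat.of k))} [GrpObj G]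
  {a : AlgGrp.Action G X} {B : GLinSh.LinBun G a}

/-- A scalar on the base. -/
def scal (Z : Over (Spec (CommRingCat.of k))) : k →+* Γ(Z.left, ⊤) :=
  Z.hom.appTop.hom.comp (Scheme.ΓSpecIso (CommRingCat.of k)).inv.hom

theorem scal_comp {Z Z' : Over (Spec (CommRingCat.of k))} (g : Z ⟶ Z') (r : k) :
    g.left.appTop (scal Z' r) = scal Z r := by
  show (Z'.hom.appTop ≫ g.left.appTop).hom _ = _
  rw [← Scheme.Hom.comp_appTop, Over.w g]
  rfl

theorem resTop_scal (U : X.left.Opens) (r : k) :
    GLinSh.resTop B.π U (scal B.V r) =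
      B.π.left.app U (X.left.presheaf.map (homOfLE le_top).op (scal X r)) := by
  rw [← scal_comp B.π r]
  exact congr($((B.π.left.naturality (homOfLE (le_top : U ≤ ⊤)).op).symm) (scal X r))

theorem hasWeight_scal_mul {n : ℕ} {f : Γ(B.V.left, ⊤)} (hf : GLinSh.HasWeight B.atlas.chart n f) (r : k) :
    GLinSh.HasWeight B.atlas.chart n (scal B.V r * f) := fun U y hy => by
  obtain ⟨c, hc⟩ := hf U y hy
  refine ⟨X.left.presheaf.map (homOfLE le_top).op (scal X r) * c, ?_⟩
  have h := resTop_scal (B := B) U r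
  simp only [GLinSh.resTop, map_mul] at hc h ⊢
  rw [hc, h, _root_.mul_assoc]

theorem isInvSection_scal_mul {n : ℕ} {f : Γ(B.V.left, ⊤)} (hf : B.IsInvSection n f) (r : k) :
    B.IsInvSection n (scal B.V r * f) :=
  ⟨hasWeight_scal_mul hf.1 r, by
    unfold GLinSh.IsInvFn
    rw [map_mul, map_mul, hf.2, scal_comp, scal_comp]⟩

theorem isInvSection_zero (n : ℕ) : B.IsInvSection n 0 :=
  ⟨fun U y _ => ⟨0, by simp [GLinSh.resTop]⟩, by unfold GLinSh.IsInvFn; rw [map_zero, map_zero]⟩

theorem semiOpen_bot : SemiOpen B ⊥ :=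
  ⟨1, 0, isInvSection_zero 1, le_rfl, Opens.ext (by
    show GLinSh.nonvanishing B.π 0 = ∅
    simp [GLinSh.nonvanishing]), isAffineOpen_bot _⟩

variable (B) in
theorem evaluation_bad {W : X.left.Opens} {y : X.left} (hy : y ∈ W) (c d : Γ(X.left, W))
    (h : y ∈ X.left.basicOpen c ∨ y ∈ X.left.basicOpen d) :
    {r : k | y ∉ X.left.basicOpen (c + X.left.presheaf.map (homOfLE le_top).op (scal X r) * d)}.Subsingleton := by
  simp only [← Scheme.evaluation_ne_zero_iff_mem_basicOpen X.left y hy, not_not, map_add, map_mul] at h ⊢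
  let φ : k →+* X.left.residueField y :=
    ((X.left.evaluation W y hy).hom.comp (X.left.presheaf.map (homOfLE le_top).op).hom).comp (scal X)
  intro r hr r' hr'
  by_cases hd : X.left.evaluation W y hy d = 0
  · exfalso
    rcases h with h | h
    · refine h ?_
      have h0 := hr
      simp only [Set.mem_setOf_eq, hd, mul_zero, add_zero] at h0
      exact h0
    · exact h hd
  · have h0 : φ r * X.left.evaluation W y hy d = φ r' * X.left.evaluation W y hy d :=
      add_left_cancel (a := X.left.evaluation W y hy c) ((show _ = (0 : X.left.residueField y) from hr).trans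
        (show _ = (0 : X.left.residueField y) from hr').symm)
    exact φ.injective (mul_right_cancel₀ hd h0)

variable [CharZero k]

theorem isAffineOpen_of_add_eq_one {Z : Scheme.{u}} {O : Z.Opens} {u v : Γ(Z, O)} (h : u + v = 1)
    (hu : IsAffineOpen (Z.basicOpen u)) (hv : IsAffineOpen (Z.basicOpen v)) : IsAffineOpen O := by
  refine isAffineOpen_of_isAffineOpen_basicOpen _ ({u, v} : Set Γ(Z, O)) ((Ideal.eq_top_iff_one _).2 ?_) ?_
  · rw [← h]
    exact add_mem (Ideal.subset_span (Set.mem_insert _ _)) (Ideal.subset_span (Set.mem_insert_of_mem _ rfl))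
  · rintro t (rfl | rfl)
    exacts [hu, hv]

/-- The non-vanishing open of a combination of two sections, inside the union of theirs, is affine. -/
theorem isAffineOpen_Xf_add {N : ℕ} {f g : Γ(B.V.left, ⊤)} (hf : B.IsInvSection N f) (hg : B.IsInvSection N g)
    (haf : IsAffineOpen (Xf B hf.1)) (hag : IsAffineOpen (Xf B hg.1)) (r : k) (hr0 : IsUnit (scal X r))
    (hh : B.IsInvSection N (f + scal B.V r * g)) : IsAffineOpen (Xf B hh.1) := by
  obtain ⟨u, hu⟩ := exists_ratio hh.1 hf.1
  obtain ⟨v, hv⟩ := exists_ratio hh.1 hg.1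
  let l : Γ(X.left, Xf B hh.1) := X.left.presheaf.map (homOfLE le_top).op (scal X r)
  have hone : u + l * v = 1 := by
    refine IsRatio.ext (h := f + scal B.V r * g) hh.1 le_rfl ?_ ?_
    · show _ = _
      have h₁ : B.π.left.app (Xf B hh.1) u * GLinSh.resTop B.π _ (f + scal B.V r * g) =
          GLinSh.resTop B.π _ f := hu
      have h₂ : B.π.left.app (Xf B hh.1) v * GLinSh.resTop B.π _ (f + scal B.V r * g) =
          GLinSh.resTop B.π _ g := hv
      have h₃ := resTop_scal (B := B) (Xf B hh.1) r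
      simp only [GLinSh.resTop, map_add, map_mul] at h₁ h₂ h₃ ⊢
      rw [h₃] at h₁ h₂ ⊢
      linear_combination h₁ + B.π.left.app (Xf B hh.1) l * h₂
    · show _ = _
      rw [map_one, _root_.one_mul]
  have haff₁ : IsAffineOpen (X.left.basicOpen u) := by
    obtain ⟨u', hu'⟩ := exists_ratio hf.1 hh.1
    rw [hu.basicOpen_eq hh.1 hf.1, inf_comm, ← hu'.basicOpen_eq hf.1 hh.1]
    exact haf.basicOpen u'
  have haff₂ : IsAffineOpen (X.left.basicOpen (l * v)) := by
    obtain ⟨v', hv'⟩ := exists_ratio hg.1 hh.1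
    have hl : X.left.basicOpen l = Xf B hh.1 := X.left.basicOpen_of_isUnit (hr0.map _)
    rw [Scheme.basicOpen_mul, hl, inf_eq_right.2 (X.left.basicOpen_le v), hv.basicOpen_eq hh.1 hg.1, inf_comm,
      ← hv'.basicOpen_eq hg.1 hh.1]
    exact hag.basicOpen v'
  exact isAffineOpen_of_add_eq_one hone haff₁ haff₂

/-- Two non-vanishing affine opens are contained in one containing any given finite set of their points. -/
theorem exists_semiOpen_union {W₁ W₂ : X.left.Opens} (h₁ : SemiOpen B W₁) (h₂ : SemiOpen B W₂)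
    (s : Finset X.left) (hs : ∀ x ∈ s, x ∈ W₁ ⊔ W₂) :
    ∃ W, SemiOpen B W ∧ (∀ x ∈ s, x ∈ W) ∧ W ≤ W₁ ⊔ W₂ := by
  classical
  obtain ⟨N, f, g, hf, hg, hN, rfl, rfl⟩ := exists_common h₁ h₂
  choose W y hxW _ hy using fun x : X.left => exists_triv B (x := x) (O := ⊤) trivial
  choose c hc using fun x => (hy x).exists_coeff hf.1
  choose d hd using fun x => (hy x).exists_coeff hg.1
  let bad : X.left → Set k := fun x =>
    {r | x ∉ X.left.basicOpen (c x + X.left.presheaf.map (homOfLE le_top).op (scal X r) * d x)}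
  have hfin : ({(0 : k)} ∪ ⋃ x ∈ s, bad x).Finite := by
    refine (Set.finite_singleton 0).union (s.finite_toSet.biUnion fun x hx => Set.Subsingleton.finite ?_)
    refine evaluation_bad (hxW x) (c x) (d x) ?_
    rcases hs x hx with h | h
    · exact Or.inl (((hy x).mem_nonvanishing (hc x) (hxW x)).1 h)
    · exact Or.inr (((hy x).mem_nonvanishing (hd x) (hxW x)).1 h)
  obtain ⟨r, hr⟩ := hfin.exists_notMem
  simp only [Set.mem_union, Set.mem_singleton_iff, Set.mem_iUnion, not_or, not_exists] at hr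
  have hr0 : IsUnit (scal X r) := (Ne.isUnit hr.1).map (scal X)
  have hg' := isInvSection_scal_mul hg r
  have hh := isInvSection_add hf hg'
  have hcoef : ∀ x, GLinSh.resTop B.π (W x) (f + scal B.V r * g) =
      B.π.left.app (W x) (c x + X.left.presheaf.map (homOfLE le_top).op (scal X r) * d x) * y x ^ N := fun x => by
    have h₁ := hc x
    have h₂ := hd x
    have h₃ := resTop_scal (B := B) (W x) r
    simp only [GLinSh.resTop, map_add, map_mul] at h₁ h₂ h₃ ⊢
    rw [h₁, h₂, h₃]
    ring
  have hle : Xf B hh.1 ≤ Xf B hf.1 ⊔ Xf B hg.1 := by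
    intro x hx
    have h := ((hy x).mem_nonvanishing (hcoef x) (hxW x)).1 hx
    rw [← Scheme.evaluation_ne_zero_iff_mem_basicOpen X.left x (hxW x), map_add, map_mul] at h
    by_cases hfx : x ∈ Xf B hf.1
    · exact Or.inl hfx
    refine Or.inr (((hy x).mem_nonvanishing (hd x) (hxW x)).2 ?_)
    rw [← Scheme.evaluation_ne_zero_iff_mem_basicOpen X.left x (hxW x)]
    intro h0
    refine h ?_
    have hc0 : X.left.evaluation (W x) x (hxW x) (c x) = 0 := by
      by_contra hne
      exact hfx (((hy x).mem_nonvanishing (hc x) (hxW x)).2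
        ((Scheme.evaluation_ne_zero_iff_mem_basicOpen X.left x (hxW x) (c x)).1 hne))
    rw [hc0, h0, mul_zero, add_zero]
  refine ⟨Xf B hh.1, ⟨N, _, hh, hN, rfl, ?_⟩, fun x hx => ((hy x).mem_nonvanishing (hcoef x) (hxW x)).2 ?_, hle⟩
  · exact isAffineOpen_Xf_add hf hg (qFamily_semiOpen.affine _ h₁) (qFamily_semiOpen.affine _ h₂) r hr0 hh
  · by_contra hne
    exact hr.2 x hx hne

/-- One non-vanishing affine open contains finitely many points, inside the union of those given. -/
theorem exists_semiOpen_finset (p : X.left.Opens → Prop) (s : Finset X.left)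
    (hs : ∀ x ∈ s, ∃ W, SemiOpen B W ∧ p W ∧ x ∈ W) :
    ∃ W, SemiOpen B W ∧ (∀ x ∈ s, x ∈ W) ∧ ∀ z ∈ W, ∃ W', SemiOpen B W' ∧ p W' ∧ z ∈ W' := by
  classical
  induction s using Finset.induction_on with
  | empty => exact ⟨⊥, semiOpen_bot, fun x hx => absurd hx (Finset.notMem_empty x), fun z hz => hz.elim⟩
  | insert x s hxs ih =>
    obtain ⟨W, hW, hWs, hWp⟩ := ih fun z hz => hs z (Finset.mem_insert_of_mem hz)
    obtain ⟨W', hW', hp', hxW'⟩ := hs x (Finset.mem_insert_self x s)
    obtain ⟨W'', h'', hs'', hle⟩ := exists_semiOpen_union hW hW' (insert x s) fun z hz => by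
      rcases Finset.mem_insert.1 hz with rfl | hz
      · exact Or.inr hxW'
      · exact Or.inl (hWs z hz)
    refine ⟨W'', h'', hs'', fun z hz => ?_⟩
    rcases hle hz with h | h
    · exact hWp z h
    · exact ⟨W', hW', hp', h⟩

end Groth.Agent.GITss
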