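import Groth.Agent.GITss.Cover

/-!
# The geometric quotient of the stable locus
-/

set_option autoImplicit false
set_option backward.isDefEq.respectTransparency false
set_option linter.style.haveILetI false

universe u

open CategoryTheory MonoidalCategory CartesianMonoidalCategory MonObj GrpObj AlgebraicGeometry
open TopologicalSpace

noncomputable section

namespace Groth.Agent.GITss

open AffQuot Limits

variable {S : Scheme.{u}} {G X Y Y' : Over S} [GrpObj G] {a : AlgGrp.Action G X}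

/-- Goodness passes through isomorphisms of the target. -/
theorem goodAct_comp_iso {φ : X ⟶ Y} (h : GoodAct a φ) (χ : Y ⟶ Y') [IsIso χ.left] : GoodAct a (φ ≫ χ) := by
  refine ⟨?_, fun C i => ?_⟩
  · rw [Over.comp_left, ← Category.assoc, h.inv, Category.assoc]
  obtain ⟨c⟩ := h.chart C (i ≫ inv χ.left)
  refine ⟨{ R := c.R, T' := c.T', D := c.D, j := c.j, hj := ?_, l := c.l, hl := ?_, hσ := c.hσ, hπ := c.hπ }⟩
  · exact IsPullback.of_iso c.hj (Iso.refl _) (Iso.refl _) (Iso.refl _) (asIso χ.left) (by simp) (by simp)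
      (by simp) (by simp)
  · exact IsPullback.of_iso c.hl (Iso.refl _) (Iso.refl _) (Iso.refl _) (asIso χ.left) (by simp) (by simp)
      (by simp) (by simp)

/-- Any categorical quotient is good as soon as one is. -/
theorem exists_iso_of_isCatQuot {φ : X ⟶ Y} (h : GoodAct a φ) {φ' : X ⟶ Y'} (h' : GIT.IsCatQuot a φ') :
    ∃ χ : Y ⟶ Y', IsIso χ.left ∧ φ ≫ χ = φ' ∧ GoodAct a φ' := by
  have hc := isCatQuot_of_goodAct h
  obtain ⟨χ, hχ, -⟩ := hc.2 Y' φ' h'.1
  obtain ⟨χ', hχ', -⟩ := h'.2 Y φ hc.1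
  have e₁ : χ ≫ χ' = 𝟙 Y :=
    (hc.2 Y φ hc.1).unique (by rw [reassoc_of% hχ, hχ']) (Category.comp_id _)
  have e₂ : χ' ≫ χ = 𝟙 Y' :=
    (h'.2 Y' φ' h'.1).unique (by rw [reassoc_of% hχ', hχ]) (Category.comp_id _)
  haveI : IsIso χ := ⟨χ', e₁, e₂⟩
  haveI : IsIso χ.left := inferInstanceAs (IsIso ((Over.forget S).map χ))
  exact ⟨χ, inferInstance, hχ, hχ ▸ goodAct_comp_iso h χ⟩

/-- A closed action on a stable open, from closedness of the orbits inside it. -/
theorem isClosedAction_of_closedOrbitsOn {W : X.left.Opens} {b : AlgGrp.Action G (opn W)}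
    (hb : b.act ≫ inc W = (G ◁ inc W) ≫ a.act) (h : GLinSh.ClosedOrbitsOn a W) : GIT.IsClosedAction b := by
  intro Ω _ _ T eT f
  let j : opn W ⊗ T ⟶ X ⊗ T := inc W ▷ T
  haveI : Mono j := ⟨fun p q e => CartesianMonoidalCategory.hom_ext _ _
    ((cancel_mono (inc W)).1 (by simpa [j] using congr($e ≫ fst X T))) (by simpa [j] using congr($e ≫ snd X T))⟩
  haveI : Mono j.left := Over.mono_left_of_mono j
  have he : GIT.psi b f ≫ j = GIT.psi a (f ≫ inc W) := by
    refine CartesianMonoidalCategory.hom_ext _ _ ?_ ?_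
    · rw [Category.assoc, whiskerRight_fst, ← Category.assoc, GIT.psi, lift_fst, Category.assoc, hb,
        GIT.psi, lift_fst, MonoidalCategory.whiskerLeft_comp, Category.assoc]
    · rw [Category.assoc, whiskerRight_snd, GIT.psi, lift_snd, GIT.psi, lift_snd]
  have hf : Set.range (f ≫ inc W).left.base ⊆ (W : Set X.left) := by
    rintro _ ⟨t, rfl⟩
    exact (f.left t).2
  obtain ⟨C, hC, hCR⟩ := isClosed_induced_iff.1 (h Ω T eT (f ≫ inc W) hf)
  have hmem : ∀ q, j.left q ∈ (fst X T).left ⁻¹ᵁ W := fun q => by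
    show (fst X T).left (j.left q) ∈ W
    rw [← Scheme.Hom.comp_apply, ← Over.comp_left, whiskerRight_fst, Over.comp_left, Scheme.Hom.comp_apply]
    exact ((fst (opn W) T).left q).2
  have hrange : Set.range (GIT.psi b f).left.base = j.left ⁻¹' C := by
    ext q
    have hiff := Set.ext_iff.1 hCR ⟨j.left q, hmem q⟩
    refine Iff.trans ⟨?_, ?_⟩ hiff.symm
    · rintro ⟨u, rfl⟩
      exact ⟨u, by rw [← he]; rfl⟩
    · rintro ⟨u, hu⟩
      refine ⟨u, j.left.injective ?_⟩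
      rw [← he] at hu
      exact hu
  rw [hrange]
  exact hC.preimage j.left.continuous

section Field

variable {k : Type u} [Field k] [CharZero k] {G X Y : Over (Spec (CommRingCat.of k))} [GrpObj G]
  {a : AlgGrp.Action G X} {B : GLinSh.LinBun G a}

/-- The stable locus has a universal geometric quotient inside the quotient of the semi-stable locus. -/
theorem exists_geomQuot_sLocus (hG : Red.IsReductive G) {U : X.left.Opens}
    (hU : (U : Set X.left) = B.ssLocus) {aU : AlgGrp.Action G (opn U)}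
    (haU : aU.act ≫ inc U = (G ◁ inc U) ≫ a.act) {φ : opn U ⟶ Y} (hφ : GIT.IsCatQuot aU φ)
    {Us : X.left.Opens} (hUs : (Us : Set X.left) = B.sLocus) (hle : Us ≤ U)
    {aS : AlgGrp.Action G (opn Us)} (haS : aS.act ≫ inc Us = (G ◁ inc Us) ≫ a.act) :
    ∃ (Yt : Y.left.Opens) (φs : opn Us ⟶ opn Yt),
      φs.left ≫ Yt.ι = X.left.homOfLE hle ≫ φ.left ∧ φ.left ⁻¹ᵁ Yt = U.ι ⁻¹ᵁ Us ∧
      GIT.IsUnivGeomQuot aS φs := by
  obtain ⟨Y', φ', hg', -, -, hV'⟩ := exists_quotient_ssLocus hG hU aU haU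
  obtain ⟨χ, _, hχ, hg⟩ := exists_iso_of_isCatQuot hg' hφ
  let p := fun W : X.left.Opens => SemiOpen B W ∧ GLinSh.ClosedOrbitsOn a W
  choose V hVaff hpre using fun i : Idx p => hV' i.1 i.2.1
  let Yt : Y.left.Opens := (inv χ.left) ⁻¹ᵁ (⨆ i, V i)
  have hYt : φ.left ⁻¹ᵁ Yt = U.ι ⁻¹ᵁ Us := by
    have h₁ : φ.left ⁻¹ᵁ Yt = φ'.left ⁻¹ᵁ (⨆ i, V i) := by
      rw [← hχ, Over.comp_left, ← Scheme.Hom.comp_preimage, Category.assoc, IsIso.hom_inv_id, Category.comp_id]
    rw [h₁, Scheme.Hom.preimage_iSup]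
    refine Opens.ext (Set.ext fun x => ?_)
    show x ∈ (⨆ i, φ'.left ⁻¹ᵁ V i) ↔ U.ι x ∈ (Us : Set X.left)
    rw [hUs, mem_sLocus_iff, Opens.mem_iSup]
    constructor
    · rintro ⟨i, hi⟩
      exact ⟨i.1, i.2.1, i.2.2, (hpre i).le hi⟩
    · rintro ⟨W, hW, hcl, hx⟩
      exact ⟨⟨W, hW, hcl⟩, (hpre _).ge hx⟩
  have hrange : φ.left ⁻¹ᵁ Yt = (res' hle).left.opensRange := by
    rw [hYt]
    show _ = (X.left.homOfLE hle).opensRange
    rw [Scheme.opensRange_homOfLE]
  let φs₀ := IsOpenImmersion.lift Yt.ι ((res' hle).left ≫ φ.left) (by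
    rw [Scheme.Opens.range_ι]
    rintro _ ⟨w, rfl⟩
    exact (hrange.ge ⟨w, rfl⟩ : (res' hle).left w ∈ φ.left ⁻¹ᵁ Yt))
  have hφs₀ : φs₀ ≫ Yt.ι = (res' hle).left ≫ φ.left := IsOpenImmersion.lift_fac _ _ _
  let φs : opn Us ⟶ opn Yt := Over.homMk φs₀ (by
    show φs₀ ≫ Yt.ι ≫ Y.hom = Us.ι ≫ X.hom
    rw [reassoc_of% hφs₀, Over.w φ]
    exact Over.w (res' hle))
  have hsq : IsPullback (res' hle) φs φ (inc Yt) :=
    IsPullback.of_map (Over.forget _) (Over.OverMorphism.ext hφs₀.symm)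
      (IsOpenImmersion.isPullback φs₀ (res' hle).left Yt.ι φ.left hφs₀.symm
        (by rw [Scheme.Opens.opensRange_ι]; exact hrange)).flip
  have heq : aS.act ≫ res' hle = (G ◁ res' hle) ≫ aU.act := by
    rw [← cancel_mono (inc U), Category.assoc, res'_inc, haS, Category.assoc, haU,
      ← MonoidalCategory.whiskerLeft_comp_assoc, res'_inc]
  have hinv : GIT.IsInvariant aS φs := by
    show _ = _
    rw [← cancel_mono (inc Yt), Category.assoc, Category.assoc, ← hsq.w, reassoc_of% heq,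
      show aU.act ≫ φ = snd G (opn U) ≫ φ from hφ.1, whiskerLeft_snd_assoc]
  have hgS : GoodAct aS φs := goodAct_baseChange hg (res' hle) φs (inc Yt) hsq aS heq hinv
  refine ⟨Yt, φs, hφs₀, hYt, isUnivGeomQuot_of_goodAct hgS (isClosedAction_of_closedOrbitsOn haS ?_)⟩
  refine closedOrbitsOn_of_cover fun y hy => ?_
  rw [← SetLike.mem_coe, hUs, mem_sLocus_iff] at hy
  obtain ⟨W, hW, hcl, hyW⟩ := hy
  exact ⟨W, hyW, qFamily_semiOpen.stable W hW, hcl⟩

end Field

end Groth.Agent.GITss
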