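import Groth.Agent.GITss.StabDim
import Groth.Agent.GITss.Stable
import Groth.Agent.ConsSet.Basic
import Mathlib.AlgebraicGeometry.AlgClosed.Basic

/-!
# Orbits are closed when the stabilisers all have one dimension
-/

set_option autoImplicit false
set_option backward.isDefEq.respectTransparency false
set_option linter.style.haveILetI false

universe u

open CategoryTheory CategoryTheory.Limits MonoidalCategory CartesianMonoidalCategory MonObj GrpObj AlgebraicGeometry
open TopologicalSpace

noncomputable section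

namespace Groth.Agent.GITss

open AffQuot

section General

variable {S : Scheme.{u}} {G X : Over S} [GrpObj G] (a : AlgGrp.Action G X)

/-- The action on a product with a trivial factor. -/
def prodAct (T : Over S) : AlgGrp.Action G (X ⊗ T) where
  act := lift ((G ◁ fst X T) ≫ a.act) (snd G (X ⊗ T) ≫ snd X T)
  one_act := by
    apply CartesianMonoidalCategory.hom_ext
    · rw [Category.assoc, lift_fst, ← whisker_exchange_assoc, a.one_act, leftUnitor_naturality]
    · rw [Category.assoc, lift_snd, ← Category.assoc, whiskerRight_snd, leftUnitor_hom]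
  mul_act := by
    apply CartesianMonoidalCategory.hom_ext
    · rw [Category.assoc, lift_fst, ← whisker_exchange_assoc, a.mul_act,
        Category.assoc, Category.assoc, lift_fst, associator_naturality_right_assoc,
        ← MonoidalCategory.whiskerLeft_comp_assoc, ← MonoidalCategory.whiskerLeft_comp_assoc, lift_fst]
    · simp

theorem psi_eq_orbit {T : Over S} (f : T ⟶ X) :
    GIT.psi a f = (G ◁ lift f (𝟙 T)) ≫ (prodAct a T).act := by
  apply CartesianMonoidalCategory.hom_ext
  · rw [GIT.psi, lift_fst, Category.assoc, prodAct, lift_fst, ← MonoidalCategory.whiskerLeft_comp_assoc, lift_fst]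
  · simp [GIT.psi, prodAct]

/-- The pullback square of orbit maps. -/
theorem isPullback_psi {T : Over S} (f : T ⟶ X) :
    IsPullback (G ◁ f) (GIT.psi a f) (GIT.psi a (𝟙 X)) (X ◁ f) := by
  refine IsPullback.of_bot (v₂₁ := snd X T) (v₂₂ := snd X X) (h₃₁ := f) ?_ ?_
    (Blanchard.isPullback_whiskerLeft X f).flip
  · rw [GIT.psi, GIT.psi, lift_snd, lift_snd]
    exact (Blanchard.isPullback_whiskerLeft G f).flip
  · apply CartesianMonoidalCategory.hom_ext
    · simp [GIT.psi]
    · simp [GIT.psi]

/-- Actions are open maps when the group is universally open. -/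
theorem isOpenMap_act [UniversallyOpen G.hom] :
    IsOpenMap (snd G X).left ∧ IsOpenMap a.act.left := by
  haveI : UniversallyOpen (snd G X).left := inferInstanceAs (UniversallyOpen (pullback.snd G.hom X.hom))
  refine ⟨(snd G X).left.isOpenMap, ?_⟩
  let θ : G ⊗ X ⟶ G ⊗ X := lift (fst G X) a.act
  let θ' : G ⊗ X ⟶ G ⊗ X := lift (fst G X) (lift (fst G X)⁻¹ (snd G X) ≫ a.act)
  have e₁ : θ ≫ θ' = 𝟙 _ := by
    apply CartesianMonoidalCategory.hom_ext
    · simp [θ, θ']
    · simp only [θ, θ', Category.assoc, lift_snd, Category.id_comp, comp_lift_assoc, GrpObj.comp_inv, lift_fst]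
      exact mul_act_left a
  have e₂ : θ' ≫ θ = 𝟙 _ := by
    apply CartesianMonoidalCategory.hom_ext
    · simp [θ, θ']
    · simp only [θ, θ', Category.assoc, lift_snd, Category.id_comp]
      conv_lhs => arg 2; rw [← Category.id_comp a.act, ← lift_fst_snd]
      rw [comp_lift_assoc, lift_fst, lift_snd, ← GrpAct.mul_smul, mul_inv_cancel, GrpAct.one_smul']
  haveI : IsIso θ := ⟨θ', e₁, e₂⟩
  haveI : IsIso θ.left := inferInstanceAs (IsIso ((Over.forget S).map θ))
  have : a.act.left = θ.left ≫ (snd G X).left := congr($((lift_snd (fst G X) a.act).symm).left)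
  rw [this]
  exact (θ.left ≫ (snd G X).left).isOpenMap

theorem stable_closure [UniversallyOpen G.hom] {W : Set X.left} (h : Good.Stable a.act.left (snd G X).left W) :
    Good.Stable a.act.left (snd G X).left (closure W) := by
  obtain ⟨ho₁, ho₂⟩ := isOpenMap_act a
  rw [stable_iff_eq] at h ⊢
  rw [ho₁.preimage_closure_eq_closure_preimage (snd G X).left.continuous,
    ho₂.preimage_closure_eq_closure_preimage a.act.left.continuous, h]

theorem stable_interior [UniversallyOpen G.hom] {W : Set X.left} (h : Good.Stable a.act.left (snd G X).left W) :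
    Good.Stable a.act.left (snd G X).left (interior W) := by
  obtain ⟨ho₁, ho₂⟩ := isOpenMap_act a
  rw [stable_iff_eq] at h ⊢
  rw [ho₁.preimage_interior_eq_interior_preimage (snd G X).left.continuous,
    ho₂.preimage_interior_eq_interior_preimage a.act.left.continuous, h]

end General

/-- Residue transcendence degrees drop strictly along specialisations in a fibre. -/
theorem resTrdeg_lt {U V : Scheme.{u}} (h : U ⟶ V) [LocallyOfFiniteType h] {z w : U} (hs : w ⤳ z) (hne : w ≠ z)
    (he : h w = h z) {dz dw : ℕ} (hz : Dual3.resTrdeg h z = (dz : Cardinal.{u}))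
    (hw : Dual3.resTrdeg h w = (dw : Cardinal.{u})) : dz < dw := by
  obtain ⟨δz, hδz, -, ⟨c, hc, hc'⟩⟩ := DimFormula.exists_trdeg_eq h z
  obtain ⟨δw, hδw, hle, -⟩ := DimFormula.exists_trdeg_eq h w
  obtain rfl : δz = dz := by exact_mod_cast (hδz.symm.trans hz : (δz : Cardinal.{u}) = dz)
  obtain rfl : δw = dw := by exact_mod_cast (hδw.symm.trans hw : (δw : Cardinal.{u}) = dw)
  have hwc : ∀ i, w ⤳ c i := fun i => hs.trans (specializes_iff_mem_closure.2 (hc i).1)
  have hne' : c 0 ≠ w := fun e => hne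
    (hs.antisymm (e ▸ specializes_iff_mem_closure.2 (hc 0).1)).eq
  refine hle (δz + 1) (Fin.cons w c) (fun i => ?_) fun i => ?_
  · refine Fin.cases ⟨subset_closure rfl, rfl⟩ (fun j => ?_) i
    simp only [Fin.cons_succ]
    exact ⟨specializes_iff_mem_closure.1 (hwc j), (hc j).2.trans he.symm⟩
  · refine Fin.cases ?_ (fun j => ?_) i
    · simpa using! ⟨hwc 0, fun e => hne' e.symm⟩
    · simpa [Fin.castSucc_succ] using! hc' j

variable {k : Type u} [Field k] {G X : Over (Spec (CommRingCat.of k))} [GrpObj G] (a : AlgGrp.Action G X)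
  [LocallyOfFiniteType G.hom] [QuasiCompact G.hom] [LocallyOfFiniteType X.hom] [QuasiCompact X.hom]

/-- The fibre dimension of an orbit map is that of the stabiliser. -/
theorem fibreDimAt_psi {T : Over (Spec (CommRingCat.of k))} (f : T ⟶ X) (u : (G ⊗ T).left) :
    FlatMor.fibreDimAt (GIT.psi a f).left u = sdim a (f.left ((snd G T).left u)) := by
  haveI : LocallyOfFiniteType (GIT.psi a (𝟙 X)).left := by
    haveI : LocallyOfFiniteType ((GIT.psi a (𝟙 X)).left ≫ (snd X X).left) := by
      rw [← Over.comp_left, GIT.psi, lift_snd]; exact locallyOfFiniteType_snd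
    exact locallyOfFiniteType_of_comp _ (snd X X).left
  have sq : IsPullback (G ◁ f).left (GIT.psi a f).left (GIT.psi a (𝟙 X)).left (X ◁ f).left :=
    (isPullback_psi a f).map (Over.forget _)
  rw [LocalDimBC.fibreDimAt_of_isPullback _ _ _ _ sq u]
  generalize hw : (G ◁ f).left u = w
  obtain ⟨i, sqK⟩ := exists_isPullback_kernelPair a
  obtain ⟨p, hp, hp'⟩ := Scheme.exists_preimage_of_isPullback sqK w w rfl
  show FlatMor.fibreDimAt (GIT.psi a (𝟙 X)).left w = _
  conv_lhs => rw [← hp]
  rw [← LocalDimBC.fibreDimAt_of_isPullback (GIT.psi a (𝟙 X)).left _ _ _ sqK p, fibreDimAt_stabTo, hp', ← hw]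
  refine congrArg (sdim a) ?_
  show (snd G X).left ((G ◁ f).left u) = _
  rw [← Scheme.Hom.comp_apply, ← Over.comp_left, whiskerLeft_snd, Over.comp_left, Scheme.Hom.comp_apply]

/-- Orbits are closed when all stabilisers have one dimension. -/
theorem isClosedAction_of_sdim_eq (d : WithBot ℕ∞) (hd : ∀ y, sdim a y = d) : GIT.IsClosedAction a := by
  intro Ω _ _ T eT f
  haveI : Subsingleton T.left := eT.hom.homeomorph.toEquiv.subsingleton
  let t₀ : T.left := eT.inv (IsLocalRing.closedPoint Ω)
  let p : (X ⊗ T).left ⟶ T.left := (snd X T).left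
  haveI : LocallyOfFiniteType p := inferInstanceAs (LocallyOfFiniteType (pullback.snd X.hom T.hom))
  haveI : QuasiCompact p := inferInstanceAs (QuasiCompact (pullback.snd X.hom T.hom))
  let q : (G ⊗ T).left ⟶ T.left := (snd G T).left
  haveI : LocallyOfFiniteType q := inferInstanceAs (LocallyOfFiniteType (pullback.snd G.hom T.hom))
  haveI : QuasiCompact q := inferInstanceAs (QuasiCompact (pullback.snd G.hom T.hom))
  let p' : (X ⊗ T).left ⟶ Spec (CommRingCat.of Ω) := p ≫ eT.hom
  haveI : JacobsonSpace (X ⊗ T).left := LocallyOfFiniteType.jacobsonSpace p'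
  haveI : IsLocallyNoetherian (X ⊗ T).left := LocallyOfFiniteType.isLocallyNoetherian p'
  haveI : CompactSpace (X ⊗ T).left := QuasiCompact.compactSpace_of_compactSpace p'
  haveI : IsNoetherian (X ⊗ T).left := {}
  haveI : IsLocallyNoetherian T.left := LocallyOfFiniteType.isLocallyNoetherian eT.hom
  let a' := prodAct a T
  -- orbit maps of arbitrary points
  have hM : ∀ f : T ⟶ X, LocallyOfFiniteType (GIT.psi a f).left ∧ QuasiCompact (GIT.psi a f).left ∧
      (GIT.psi a f).left ≫ p = q := fun f => by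
    have e : (GIT.psi a f).left ≫ p = q := by rw [← Over.comp_left, GIT.psi, lift_snd]
    haveI : LocallyOfFiniteType ((GIT.psi a f).left ≫ p) := e ▸ inferInstance
    haveI : QuasiCompact ((GIT.psi a f).left ≫ p) := e ▸ inferInstance
    exact ⟨locallyOfFiniteType_of_comp _ p, QuasiCompact.of_comp _ p, e⟩
  have hq : ∀ u, FlatMor.fibreDimAt q u = topologicalKrullDim G.left := fun u => fibreDimAt_snd (X := T) u
  obtain ⟨dG, hdG⟩ := exists_dim_eq (G := G)
  -- dimensions of orbit points
  have hdim : ∀ (f : T ⟶ X) (u : (G ⊗ T).left), ∃ dm du : ℕ, Dual3.resTrdeg p ((GIT.psi a f).left u) = (dm : Cardinal.{u}) ∧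
      Dual3.resTrdeg (GIT.psi a f).left u = (du : Cardinal.{u}) ∧
      Dual3.resTrdeg q u = ((dm + du : ℕ) : Cardinal.{u}) ∧ (du : WithBot ℕ∞) ≤ d ∧ dm + du ≤ dG := by
    intro f u
    obtain ⟨_, _, e⟩ := hM f
    obtain ⟨dm, hdm, -⟩ := DimFormula.exists_trdeg_eq p ((GIT.psi a f).left u)
    obtain ⟨b, du, -, hdu, hfu⟩ := SpRelDim.fibreDimAt_eq_add_resTrdeg (GIT.psi a f).left u
    obtain ⟨b', dq, -, hdq, hfq⟩ := SpRelDim.fibreDimAt_eq_add_resTrdeg q u
    have hs := AlgSpLib.resTrdeg_comp (GIT.psi a f).left p u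
    simp only [e] at hs
    rw [hdu, show Dual3.resTrdeg p ((GIT.psi a f).left u) = dm from hdm, ← Nat.cast_add] at hs
    rw [fibreDimAt_psi, hd] at hfu
    rw [hq, hdG] at hfq
    refine ⟨dm, du, hdm, hdu, hs, ?_, ?_⟩
    · rw [hfu, natCast_le_iff]; omega
    · have h₁ : dm + du = dq := by exact_mod_cast (hs.symm.trans hdq)
      have h₂ : dG = b' + dq := by exact_mod_cast hfq
      omega
  by_contra hncl
  obtain ⟨_, _, hMp⟩ := hM f
  haveI : LocallyOfFinitePresentation (GIT.psi a f).left := ConsEngine.lfp_of_lft _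
  let R : Set (X ⊗ T).left := Set.range (GIT.psi a f).left
  have hRs : Good.Stable a'.act.left (snd G (X ⊗ T)).left R := by
    have h := stable_orbit (a := a') (lift f (𝟙 T))
    rw [← psi_eq_orbit] at h
    exact h
  let Bd := closure R \ R
  haveI : UniversallyOpen G.hom := inferInstance
  have hBs : Good.Stable a'.act.left (snd G (X ⊗ T)).left Bd := fun t ht =>
    ⟨stable_closure a' hRs ht.1, fun h => ht.2 (((stable_iff_eq (a := a')).1 hRs).ge h)⟩
  -- a closed point of the boundary
  obtain ⟨z, hzB, hzc⟩ : ∃ z ∈ Bd, IsClosed ({z} : Set (X ⊗ T).left) := by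
    haveI : CompactSpace (G ⊗ T).left := QuasiCompact.compactSpace_of_compactSpace (q ≫ eT.hom)
    have hRc : Topology.IsConstructible R := by
      show Topology.IsConstructible (Set.range _)
      rw [← Set.image_univ]
      exact (GIT.psi a f).left.isConstructible_image Topology.IsConstructible.univ
    have hBc : Topology.IsConstructible Bd := by
      refine Topology.IsConstructible.sdiff ?_ hRc
      rw [← compl_compl (closure R)]
      exact ((NoetherianSpace.isCompact _).isConstructible isClosed_closure.isOpen_compl).compl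
    obtain ⟨n, L, hL, hBL⟩ := ConsSet.exists_lc_rep hBc
    obtain ⟨z₁, hz₁⟩ : Bd.Nonempty := by
      rw [Set.sdiff_nonempty]
      exact fun h => hncl (isClosed_of_closure_subset h)
    obtain ⟨i, hi⟩ := Set.mem_iUnion.1 (hBL ▸ hz₁)
    obtain ⟨z, hz, hzc⟩ := nonempty_inter_closedPoints ⟨z₁, hi⟩ (hL i)
    exact ⟨z, hBL ▸ Set.mem_iUnion.2 ⟨i, hz⟩, hzc⟩
  -- its orbit lies in the boundary
  let s₀ : T.left ⟶ (X ⊗ T).left := eT.hom ≫ pointOfClosedPoint p' z hzc
  have hs₀ : s₀ ≫ p = 𝟙 _ := by
    have h := pointOfClosedPoint_comp p' z hzc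
    rw [← cancel_mono eT.hom, Category.assoc, Category.id_comp]
    show (eT.hom ≫ pointOfClosedPoint p' z hzc) ≫ p' = _
    rw [Category.assoc, h, Category.comp_id]
  let s : T ⟶ X ⊗ T := Over.homMk s₀ (by
    rw [← Over.w (snd X T), ← Category.assoc, show s₀ ≫ (snd X T).left = 𝟙 _ from hs₀, Category.id_comp])
  have hs : s ≫ snd X T = 𝟙 T := Over.OverMorphism.ext hs₀
  let f₂ := s ≫ fst X T
  have hsl : lift f₂ (𝟙 T) = s := by
    apply CartesianMonoidalCategory.hom_ext
    · simp [f₂]
    · simp [hs]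
  have hR₂ : Set.range (GIT.psi a f₂).left ⊆ Bd := by
    rw [psi_eq_orbit, hsl]
    refine range_subset_of_stable s hBs (u := (lift (1 : T ⟶ G) (𝟙 T)).left t₀) ?_
    rw [← Scheme.Hom.comp_apply, ← Over.comp_left, lift_whiskerLeft_assoc, Category.id_comp, GrpAct.one_smul']
    show s₀ t₀ ∈ Bd
    rw [show s₀ t₀ = z by rw [Scheme.Hom.comp_apply]; exact pointOfClosedPoint_apply _ _ hzc _]
    exact hzB
  obtain ⟨_, _, -⟩ := hM f₂
  -- a point of full dimension in that orbit
  obtain ⟨g, -, n, dg, hn, hdg, hle⟩ := exists_resTrdeg_ge q ((lift (1 : T ⟶ G) (𝟙 T)).left t₀)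
  rw [hq, hdG] at hn
  have hn' : dG = n := by exact_mod_cast hn
  obtain ⟨dm, du, hdm, -, hsum, hdu, -⟩ := hdim f₂ g
  have hsum' : dm + du = dg := by exact_mod_cast (hsum.symm.trans hdg)
  set m := (GIT.psi a f₂).left g
  obtain ⟨hm₁, hm₂⟩ : m ∈ Bd := hR₂ ⟨g, rfl⟩
  obtain ⟨g', hg'⟩ := DomLib.exists_specializes (GIT.psi a f).left hm₁
  obtain ⟨u', hu', n₂, du', hn₂, hdu', hle₂⟩ := exists_resTrdeg_ge (GIT.psi a f).left g'
  obtain ⟨dm', du₂, hdm', hdu₂, -, -, hsum₂⟩ := hdim f u'
  obtain rfl : du₂ = du' := by exact_mod_cast (hdu₂.symm.trans hdu')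
  rw [fibreDimAt_psi, hd] at hn₂
  rw [hn₂, natCast_le_iff] at hdu
  rw [hu'] at hdm'
  have := resTrdeg_lt p hg' (fun e => hm₂ (e ▸ ⟨g', rfl⟩)) (Subsingleton.elim (α := T.left) _ _) hdm hdm'
  omega

end Groth.Agent.GITss
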