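import Groth.Agent.GITss.Cover
import Groth.Agent.GITss.Descend
import Mathlib.AlgebraicGeometry.Morphisms.QuasiSeparated

/-!
# Invariant functions on a non-vanishing open extend after multiplication by a power of the section
-/

set_option autoImplicit false
set_option backward.isDefEq.respectTransparency false
set_option linter.style.haveILetI false

universe u

open CategoryTheory MonoidalCategory CartesianMonoidalCategory MonObj GrpObj AlgebraicGeometry
open Opposite TopologicalSpace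

noncomputable section

namespace Groth.Agent.GITss

open AffQuot Limits

variable {S : Scheme.{u}} {G X : Over S} [GrpObj G] {a : AlgGrp.Action G X} {B : GLinSh.LinBun G a}

theorem res_pow {U W : X.left.Opens} (hWU : W ≤ U) (s : Γ(B.V.left, B.π.left ⁻¹ᵁ U)) (n : ℕ) :
    GLinSh.res B.π hWU (s ^ n) = GLinSh.res B.π hWU s ^ n :=
  map_pow _ _ _

theorem resTop_pow (U : X.left.Opens) (s : Γ(B.V.left, ⊤)) (n : ℕ) :
    GLinSh.resTop B.π U (s ^ n) = GLinSh.resTop B.π U s ^ n :=
  map_pow _ _ _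

/-- Coefficients are determined on any open inside a chart. -/
theorem coeff_ext_chart {U : X.left.Opens} {y : Γ(B.V.left, B.π.left ⁻¹ᵁ U)} (hy : y ∈ B.atlas.chart U)
    {O : X.left.Opens} (hO : O ≤ U) (n : ℕ) {c c' : Γ(X.left, O)}
    (h : B.π.left.app O c * GLinSh.res B.π hO y ^ n = B.π.left.app O c' * GLinSh.res B.π hO y ^ n) : c = c' := by
  choose W hW hxW hWO using fun x : O => exists_isAffineOpen_mem_and_subset (x := x.1) (U := O) x.2
  refine X.left.sheaf.eq_of_locally_eq' W O (fun x => homOfLE (hWO x))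
    (fun z hz => Opens.mem_iSup.2 ⟨⟨z, hz⟩, hxW ⟨z, hz⟩⟩) c c' fun x => ?_
  have ht : IsTriv B (W x) (GLinSh.res B.π (Set.Subset.trans (hWO x) hO) y) :=
    ⟨hW x, U, _, y, hy, rfl⟩
  refine ht.coeff_ext n ?_
  have := congrArg (GLinSh.res B.π (show W x ≤ O from hWO x)) h
  rw [res_mul, res_mul, res_app, res_app, res_pow, res_res] at this
  exact this

/-- Having weight `n` may be checked in one trivialisation around each point. -/
theorem hasWeight_of_local {n : ℕ} {h : Γ(B.V.left, ⊤)}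
    (hloc : ∀ x : X.left, ∃ (W : X.left.Opens) (y : Γ(B.V.left, B.π.left ⁻¹ᵁ W)), x ∈ W ∧ IsTriv B W y ∧
      ∃ c : Γ(X.left, W), GLinSh.resTop B.π W h = B.π.left.app W c * y ^ n) :
    GLinSh.HasWeight B.atlas.chart n h := by
  intro U y' hy'
  choose W y hxW hy c hc using hloc
  have key : ∀ x : X.left, ∃ d : Γ(X.left, W x ⊓ U),
      GLinSh.resTop B.π (W x ⊓ U) h = B.π.left.app _ d * GLinSh.res B.π inf_le_right y' ^ n := by
    intro x
    obtain ⟨U₀, hU₀, y₀, hy₀, he⟩ := (hy x).ex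
    obtain ⟨e, -, he'⟩ := B.atlas.linear U U₀ y' y₀ hy' hy₀
    have hle : W x ⊓ U ≤ U ⊓ U₀ := le_inf inf_le_right (inf_le_left.trans hU₀)
    refine ⟨X.left.presheaf.map (homOfLE inf_le_left).op (c x) * (X.left.presheaf.map (homOfLE hle).op e) ^ n, ?_⟩
    rw [← res_resTop (inf_le_left : W x ⊓ U ≤ W x) h, hc x, res_mul, res_pow, res_app, map_mul, map_pow,
      _root_.mul_assoc, ← mul_pow]
    congr 2
    rw [← he, res_res]
    have := congrArg (GLinSh.res B.π hle) he'
    rw [res_mul, res_res, res_app, res_res] at this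
    exact this
  choose d hd using key
  have hcompat : ∀ x x', X.left.presheaf.map (homOfLE (inf_le_left : W x ⊓ U ⊓ (W x' ⊓ U) ≤ W x ⊓ U)).op (d x) =
      X.left.presheaf.map (homOfLE (inf_le_right : W x ⊓ U ⊓ (W x' ⊓ U) ≤ W x' ⊓ U)).op (d x') := by
    intro x x'
    refine coeff_ext_chart hy' (inf_le_left.trans inf_le_right) n ?_
    have h₁ := congrArg (GLinSh.res B.π (inf_le_left : W x ⊓ U ⊓ (W x' ⊓ U) ≤ W x ⊓ U)) (hd x)
    have h₂ := congrArg (GLinSh.res B.π (inf_le_right : W x ⊓ U ⊓ (W x' ⊓ U) ≤ W x' ⊓ U)) (hd x')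
    rw [res_resTop, res_mul, res_app, res_pow, res_res] at h₁ h₂
    exact h₁.symm.trans h₂
  obtain ⟨r, hr, -⟩ := X.left.sheaf.existsUnique_gluing' (fun x => W x ⊓ U) U
    (fun x => homOfLE inf_le_right) (fun z hz => Opens.mem_iSup.2 ⟨z, hxW z, hz⟩) d hcompat
  refine ⟨r, B.V.left.sheaf.eq_of_locally_eq' (fun x => B.π.left ⁻¹ᵁ (W x ⊓ U)) (B.π.left ⁻¹ᵁ U)
    (fun x => homOfLE (B.π.left.preimage_mono inf_le_right))
    (fun v hv => Opens.mem_iSup.2 ⟨B.π.left v, hxW _, hv⟩) _ _ fun x => ?_⟩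
  show GLinSh.res B.π inf_le_right _ = GLinSh.res B.π inf_le_right _
  rw [res_resTop, res_mul, res_app, res_pow]
  have hrx : X.left.presheaf.map (homOfLE (inf_le_right : W x ⊓ U ≤ U)).op r = d x := hr x
  rw [hrx]
  exact hd x

theorem isCompact_preimage_π {W : X.left.Opens} (hW : IsAffineOpen W) :
    IsCompact (B.π.left ⁻¹ᵁ W : Set B.V.left) :=
  haveI := isAffineHom_π (B := B)
  (hW.preimage B.π.left).isCompact

theorem map_map' {Z : Scheme.{u}} {A A' A'' : Z.Opens} (p : A ≤ A') (q : A' ≤ A'') (x : Γ(Z, A'')) :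
    Z.presheaf.map (homOfLE p).op (Z.presheaf.map (homOfLE q).op x) =
      Z.presheaf.map (homOfLE (p.trans q)).op x := by
  rw [← ConcreteCategory.comp_apply, ← Functor.map_comp]
  rfl

theorem eq_zero_basicOpen {Z : Scheme.{u}} {O O' : Z.Opens} {e f : Γ(Z, O)} (hle : Z.basicOpen f ≤ O')
    (hO' : O' ≤ O) (h : Z.presheaf.map (homOfLE hO').op e = 0) :
    TopCat.Presheaf.restrictOpen e (Z.basicOpen f) (Z.basicOpen_le f) = 0 := by
  have := congrArg (Z.presheaf.map (homOfLE hle).op) h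
  rw [map_zero, ← ConcreteCategory.comp_apply, ← Functor.map_comp] at this
  exact this

variable [CompactSpace X.left] [QuasiSeparatedSpace X.left]

/-- A function on the non-vanishing open extends to a weight function after a power of the section. -/
theorem exists_extension {n : ℕ} {f : Γ(B.V.left, ⊤)} (hf : GLinSh.HasWeight B.atlas.chart n f)
    (haff : IsAffineOpen (Xf B hf)) (r : Γ(X.left, Xf B hf)) :
    ∃ (m : ℕ) (h : Γ(B.V.left, ⊤)), 1 ≤ m ∧ GLinSh.HasWeight B.atlas.chart (n * m) h ∧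
      IsRatio B (f ^ m) h (Xf B hf) r := by
  haveI := isAffineHom_π (B := B)
  haveI : CompactSpace B.V.left := QuasiCompact.compactSpace_of_compactSpace B.π.left
  haveI : QuasiSeparatedSpace B.V.left := quasiSeparatedSpace_of_quasiSeparated B.π.left
  let D := B.V.left.basicOpen f
  have hD : D ≤ B.π.left ⁻¹ᵁ Xf B hf := fun v hv => ⟨v, hv, rfl⟩
  obtain ⟨N₀, h₀, hh₀⟩ := exists_eq_pow_mul_of_isCompact_of_isQuasiSeparated B.V.left ⊤
    isCompact_univ isQuasiSeparated_univ f (B.V.left.presheaf.map (homOfLE hD).op (B.π.left.app _ r))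
  choose W y hxW _ hy using fun x : X.left => exists_triv B (x := x) (O := ⊤) trivial
  obtain ⟨s, hs⟩ := isCompact_univ.elim_finite_subcover (fun x => (W x : Set X.left)) (fun x => (W x).2)
    fun x _ => Set.mem_iUnion.2 ⟨x, hxW x⟩
  -- `h₀` is the product on the whole open, up to a power
  have hglob : ∀ (O : X.left.Opens) (hO : O ≤ Xf B hf), IsAffineOpen O → ∃ i : ℕ, ∀ j, i ≤ j →
      GLinSh.resTop B.π O (f ^ j * h₀) =
        B.π.left.app O (X.left.presheaf.map (homOfLE hO).op r) * GLinSh.resTop B.π O f ^ (j + N₀) := by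
    intro O hO hOa
    let e := GLinSh.resTop B.π O h₀ -
      B.π.left.app O (X.left.presheaf.map (homOfLE hO).op r) * GLinSh.resTop B.π O f ^ N₀
    have hb : B.V.left.basicOpen (GLinSh.resTop B.π O f) = B.π.left ⁻¹ᵁ O ⊓ D := B.V.left.basicOpen_res f _
    have he : TopCat.Presheaf.restrictOpen e (B.V.left.basicOpen (GLinSh.resTop B.π O f)) (B.V.left.basicOpen_le _) = 0 := by
      refine eq_zero_basicOpen (O' := B.π.left ⁻¹ᵁ O ⊓ D) hb.le inf_le_left ?_
      have h' := congrArg (B.V.left.presheaf.map (homOfLE (inf_le_right : B.π.left ⁻¹ᵁ O ⊓ D ≤ D)).op) hh₀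
      simp only [TopCat.Presheaf.restrictOpenCommRingCat_apply, map_mul, map_pow] at h'
      erw [map_map', map_map', map_map'] at h'
      show B.V.left.presheaf.map _ (_ - _) = 0
      rw [map_sub, map_mul, map_pow, sub_eq_zero, ← res_app hO r]
      simp only [GLinSh.res, GLinSh.resTop]
      erw [map_map', map_map', map_map']
      rw [mul_comm]
      exact h'
    obtain ⟨i, hi⟩ := exists_pow_mul_eq_zero_of_res_basicOpen_eq_zero_of_isCompact B.V.left
      (U := B.π.left ⁻¹ᵁ O) (isCompact_preimage_π hOa) e (GLinSh.resTop B.π O f) he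
    refine ⟨i, fun j hj => ?_⟩
    obtain ⟨t, rfl⟩ : ∃ t, j = t + i := ⟨j - i, by omega⟩
    rw [resTop_mul, resTop_pow, pow_add]
    linear_combination (GLinSh.resTop B.π O f) ^ t * hi
  -- near each point it has a coefficient, up to a power
  have hloc : ∀ x, ∃ i : ℕ, ∀ j, i ≤ j →
      ∃ c : Γ(X.left, W x), GLinSh.resTop B.π (W x) (f ^ j * h₀) = B.π.left.app (W x) c * y x ^ (n * (j + N₀)) := by
    intro x
    obtain ⟨c, hc⟩ := (hy x).exists_coeff hf
    have hin : X.left.basicOpen c = W x ⊓ Xf B hf := ((hy x).inf_Xf hc hf).symm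
    have hO : X.left.basicOpen c ≤ Xf B hf := hin.le.trans inf_le_right
    have hcW : X.left.basicOpen c ≤ W x := X.left.basicOpen_le c
    haveI := (hy x).affine.isLocalization_basicOpen c
    obtain ⟨⟨d, ⟨_, M, rfl⟩⟩, hdM⟩ := IsLocalization.surj (Submonoid.powers c)
      (X.left.presheaf.map (homOfLE hO).op r)
    have hd : X.left.presheaf.map (homOfLE hO).op r * (X.left.presheaf.map (homOfLE hcW).op c) ^ M =
        X.left.presheaf.map (homOfLE hcW).op d := by
      rw [← map_pow]; exact hdM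
    obtain ⟨i₁, hi₁⟩ := hglob _ hO ((hy x).affine.basicOpen c)
    let O := X.left.basicOpen c
    let e := GLinSh.resTop B.π (W x) h₀ * GLinSh.resTop B.π (W x) f ^ (i₁ + M) -
      B.π.left.app (W x) (d * c ^ (i₁ + N₀)) * y x ^ (n * (i₁ + M + N₀))
    have he : TopCat.Presheaf.restrictOpen e (B.V.left.basicOpen (GLinSh.resTop B.π (W x) f)) (B.V.left.basicOpen_le _) = 0 := by
      have hb : B.V.left.basicOpen (GLinSh.resTop B.π (W x) f) ≤ B.π.left ⁻¹ᵁ O := by
        intro v hv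
        have hv' : v ∈ B.π.left ⁻¹ᵁ W x ⊓ D := by
          have := B.V.left.basicOpen_res f (homOfLE (le_top : B.π.left ⁻¹ᵁ W x ≤ ⊤)).op
          exact this.le hv
        exact hin.ge ⟨hv'.1, hD hv'.2⟩
      refine eq_zero_basicOpen hb (B.π.left.preimage_mono hcW) ?_
      show GLinSh.res B.π hcW (_ - _) = 0
      have hsub : ∀ p q, GLinSh.res B.π hcW (p - q) = GLinSh.res B.π hcW p - GLinSh.res B.π hcW q :=
        fun p q => map_sub _ p q
      rw [hsub, res_mul, res_mul, res_pow, res_pow, res_app, res_resTop, res_resTop, sub_eq_zero]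
      have h₁ := hi₁ i₁ le_rfl
      rw [resTop_mul, resTop_pow] at h₁
      have hcO : GLinSh.resTop B.π O f =
          B.π.left.app O (X.left.presheaf.map (homOfLE hcW).op c) * GLinSh.res B.π hcW (y x) ^ n := by
        rw [← res_resTop hcW f, hc, res_mul, res_app, res_pow]
      calc GLinSh.resTop B.π O h₀ * GLinSh.resTop B.π O f ^ (i₁ + M)
          = (GLinSh.resTop B.π O f ^ i₁ * GLinSh.resTop B.π O h₀) * GLinSh.resTop B.π O f ^ M := by
            rw [pow_add]; ring
        _ = B.π.left.app O (X.left.presheaf.map (homOfLE hO).op r) *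
              GLinSh.resTop B.π O f ^ (i₁ + N₀) * GLinSh.resTop B.π O f ^ M := by rw [h₁]
        _ = B.π.left.app O (X.left.presheaf.map (homOfLE hcW).op (d * c ^ (i₁ + N₀))) *
              GLinSh.res B.π hcW (y x) ^ (n * (i₁ + M + N₀)) := by
            rw [hcO, map_mul, map_mul, map_pow, ← hd, map_mul, map_pow, map_pow, mul_pow, mul_pow, ← pow_mul,
              ← pow_mul]
            ring
    obtain ⟨i₂, hi₂⟩ := exists_pow_mul_eq_zero_of_res_basicOpen_eq_zero_of_isCompact B.V.left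
      (U := B.π.left ⁻¹ᵁ W x) (isCompact_preimage_π (hy x).affine) e (GLinSh.resTop B.π (W x) f) he
    refine ⟨i₂ + i₁ + M, fun j hj => ?_⟩
    obtain ⟨t, rfl⟩ : ∃ t, j = t + i₂ + i₁ + M := ⟨j - (i₂ + i₁ + M), by omega⟩
    refine ⟨c ^ (t + i₂) * (d * c ^ (i₁ + N₀)), ?_⟩
    rw [resTop_mul, resTop_pow]
    have e1 : n * (t + i₂ + i₁ + M + N₀) = n * (t + i₂) + n * (i₁ + M + N₀) := by ring
    have e2 : GLinSh.resTop B.π (W x) f ^ (t + i₂) = B.π.left.app (W x) (c ^ (t + i₂)) * y x ^ (n * (t + i₂)) := by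
      rw [hc, mul_pow, map_pow, ← pow_mul]
    rw [e1, pow_add (y x), map_mul]
    linear_combination GLinSh.resTop B.π (W x) f ^ t * hi₂ +
      (B.π.left.app (W x) (d * c ^ (i₁ + N₀)) * y x ^ (n * (i₁ + M + N₀))) * e2
  choose i hi using hloc
  obtain ⟨i₀, hi₀⟩ := hglob _ le_rfl haff
  let j := s.sup i + i₀ + 1
  refine ⟨j + N₀, f ^ j * h₀, by omega, ?_, ?_⟩
  · refine hasWeight_of_local fun z => ?_
    obtain ⟨x, hx, hzx⟩ := Set.mem_iUnion₂.1 (hs (Set.mem_univ z))
    exact ⟨W x, y x, hzx, hy x, hi x j ((Finset.le_sup hx).trans (by omega))⟩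
  · show _ * _ = _
    rw [resTop_pow, hi₀ j (by omega)]
    simp

/-- An invariant function on the non-vanishing open extends to an invariant section after a power. -/
theorem exists_invExtension [QuasiCompact G.hom] {n : ℕ} {f : Γ(B.V.left, ⊤)} (hf : B.IsInvSection n f)
    (haff : IsAffineOpen (Xf B hf.1)) (r : Γ(X.left, Xf B hf.1))
    (hr : (resAct (stable_Xf hf)).act.left.appTop ((Xf B hf.1).topIso.inv r) =
      (snd G (opn (Xf B hf.1))).left.appTop ((Xf B hf.1).topIso.inv r)) :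
    ∃ (m : ℕ) (h : Γ(B.V.left, ⊤)) (hh : B.IsInvSection (n * m) h), 1 ≤ m ∧
      IsRatio B (f ^ m) h (Xf B hf.1) r := by
  obtain ⟨m, h, hm, hw, hrat⟩ := exists_extension hf.1 haff r
  haveI := isAffineHom_π (B := B)
  haveI : CompactSpace B.V.left := QuasiCompact.compactSpace_of_compactSpace B.π.left
  haveI : QuasiCompact (snd G B.V).left := inferInstanceAs (QuasiCompact (pullback.snd G.hom B.V.hom))
  haveI : CompactSpace (G ⊗ B.V).left := QuasiCompact.compactSpace_of_compactSpace (snd G B.V).left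
  let Uf := Xf B hf.1
  let j := G ◁ inc Uf
  let O := (snd G X).left ⁻¹ᵁ Uf
  have hst : O ≤ a.act.left ⁻¹ᵁ Uf := fun t ht => stable_Xf hf ht
  haveI : IsOpenImmersion j.left :=
    MorphismProperty.of_isPullback ((Blanchard.isPullback_whiskerLeft G (inc Uf)).map (Over.forget S))
      (inferInstanceAs (IsOpenImmersion Uf.ι))
  have hj₂ : j.left ≫ (snd G X).left = (snd G (opn Uf)).left ≫ Uf.ι := congr($(whiskerLeft_snd G (inc Uf)).left)
  have hj₁ : j.left ≫ a.act.left = (resAct (stable_Xf hf)).act.left ≫ Uf.ι :=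
    congr($((resAct_inc (stable_Xf hf)).symm).left)
  have hrange : O = j.left.opensRange := by
    have sq : IsPullback j.left (snd G (opn Uf)).left (snd G X).left Uf.ι :=
      ((Blanchard.isPullback_whiskerLeft G (inc Uf)).map (Over.forget S)).flip
    refine Opens.ext (Set.ext fun t => ⟨fun ht => ?_, ?_⟩)
    · obtain ⟨p, hp, -⟩ := Scheme.exists_preimage_of_isPullback sq t ⟨_, ht⟩ rfl
      exact ⟨p, hp⟩
    · rintro ⟨p, rfl⟩
      show (snd G X).left (j.left p) ∈ Uf
      rw [← Scheme.Hom.comp_apply, hj₂]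
      exact ((snd G (opn Uf)).left p).2
  -- invariance of `r` on the preimage
  have hrO : a.act.left.appLE Uf O hst r = (snd G X).left.appLE Uf O le_rfl r := by
    have htop : (⊤ : (G ⊗ opn Uf).left.Opens) ≤ j.left ⁻¹ᵁ O := fun p _ => hrange.ge ⟨p, rfl⟩
    refine appLE_injective_of_range j.left hrange htop ?_
    rw [← ConcreteCategory.comp_apply, ← ConcreteCategory.comp_apply, Scheme.Hom.appLE_comp_appLE,
      Scheme.Hom.appLE_comp_appLE]
    have et : Uf.topIso.inv = Uf.ι.appLE Uf ⊤ (Scheme.Opens.ι_preimage_self _).ge := by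
      rw [Scheme.Opens.topIso_inv, Scheme.Opens.ι_appLE]
      rfl
    rw [et] at hr
    simp only [Scheme.Hom.appTop, Scheme.Hom.app_eq_appLE] at hr
    erw [← ConcreteCategory.comp_apply, ← ConcreteCategory.comp_apply, Scheme.Hom.appLE_comp_appLE,
      Scheme.Hom.appLE_comp_appLE] at hr
    rw [appLE_congr' hj₁ _ ((le_top : _ ≤ _).trans (le_of_eq (by
        rw [Scheme.Hom.comp_preimage, Scheme.Opens.ι_preimage_self]; rfl))),
      appLE_congr' hj₂ _ ((le_top : _ ≤ _).trans (le_of_eq (by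
        rw [Scheme.Hom.comp_preimage, Scheme.Opens.ι_preimage_self]; rfl)))]
    exact hr
  let O' := (G ◁ B.π).left ⁻¹ᵁ O
  have h₂ : O' ≤ (snd G B.V).left ⁻¹ᵁ (B.π.left ⁻¹ᵁ Uf) := by
    intro t ht
    show B.π.left ((snd G B.V).left t) ∈ Uf
    rw [← Scheme.Hom.comp_apply, ← Over.comp_left, ← whiskerLeft_snd, Over.comp_left, Scheme.Hom.comp_apply]
    exact ht
  have h₁ : O' ≤ B.lift.act.left ⁻¹ᵁ (B.π.left ⁻¹ᵁ Uf) := by
    intro t ht
    show B.π.left (B.lift.act.left t) ∈ Uf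
    rw [← Scheme.Hom.comp_apply, ← Over.comp_left, B.lift_π, Over.comp_left, Scheme.Hom.comp_apply]
    exact hst ht
  let f₂ := (snd G B.V).left.appTop f
  have hb : (G ⊗ B.V).left.basicOpen f₂ ≤ O' := by
    intro t ht
    rw [show (G ⊗ B.V).left.basicOpen f₂ = (snd G B.V).left ⁻¹ᵁ B.V.left.basicOpen f from
      ((snd G B.V).left.preimage_basicOpen f).symm] at ht
    show (snd G X).left ((G ◁ B.π).left t) ∈ Uf
    rw [← Scheme.Hom.comp_apply, ← Over.comp_left, whiskerLeft_snd, Over.comp_left, Scheme.Hom.comp_apply]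
    exact ⟨_, ht, rfl⟩
  let res' := (G ⊗ B.V).left.presheaf.map (homOfLE (le_top : O' ≤ ⊤)).op
  have hres : ∀ (p : G ⊗ B.V ⟶ B.V) (hp : O' ≤ p.left ⁻¹ᵁ (B.π.left ⁻¹ᵁ Uf)) (g : Γ(B.V.left, ⊤)),
      p.left.appLE _ O' hp (GLinSh.resTop B.π Uf g) = res' (p.left.appTop g) := by
    intro p hp g
    rw [GLinSh.resTop, ← ConcreteCategory.comp_apply, Scheme.Hom.map_appLE, ← ConcreteCategory.comp_apply,
      Scheme.Hom.appTop, Scheme.Hom.app_eq_appLE, Scheme.Hom.appLE_map]
  have hpr : B.lift.act.left.appLE _ O' h₁ (B.π.left.app Uf r) = (snd G B.V).left.appLE _ O' h₂ (B.π.left.app Uf r) := by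
    have h₃ : O' ≤ (G ◁ B.π).left ⁻¹ᵁ O := le_rfl
    rw [← ConcreteCategory.comp_apply, ← ConcreteCategory.comp_apply, Scheme.Hom.app_eq_appLE,
      Scheme.Hom.appLE_comp_appLE, Scheme.Hom.appLE_comp_appLE,
      appLE_congr' (congr($(B.lift_π).left) : B.lift.act.left ≫ B.π.left = (G ◁ B.π).left ≫ a.act.left) _
        (fun t ht => hst (h₃ ht)),
      appLE_congr' (congr($((whiskerLeft_snd G B.π).symm).left) :
        (snd G B.V).left ≫ B.π.left = (G ◁ B.π).left ≫ (snd G X).left) _ h₃,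
      ← Scheme.Hom.appLE_comp_appLE _ _ _ O _ hst h₃, ← Scheme.Hom.appLE_comp_appLE _ _ _ O _ le_rfl h₃]
    exact congrArg ((G ◁ B.π).left.appLE O O' h₃) hrO
  have hdiff : res' (B.lift.act.left.appTop h - (snd G B.V).left.appTop h) = 0 := by
    rw [map_sub, sub_eq_zero, ← hres _ h₁, ← hres _ h₂, ← hrat, map_mul, map_mul, hres _ h₁, hres _ h₂, hpr,
      map_pow, map_pow, hf.2]
    simp only [map_pow]
    rfl
  obtain ⟨i, hi⟩ := exists_pow_mul_eq_zero_of_res_basicOpen_eq_zero_of_isCompact (G ⊗ B.V).left (U := ⊤)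
    isCompact_univ _ f₂ (eq_zero_basicOpen hb le_top hdiff)
  refine ⟨i + m, f ^ i * h, ⟨?_, ?_⟩, by omega, ?_⟩
  · rw [Nat.mul_add]
    exact hasWeight_mul (hasWeight_pow hf.1 i) hw
  · show _ = _
    rw [map_mul, map_mul, map_pow, map_pow, hf.2]
    linear_combination hi
  · have hrat' : B.π.left.app _ r * GLinSh.resTop B.π _ (f ^ m) = GLinSh.resTop B.π _ h := hrat
    show _ * _ = _
    rw [pow_add, resTop_mul, resTop_mul, ← hrat']
    ring

end Groth.Agent.GITss
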