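import Groth.Agent.GITss.StabDim
import Groth.Agent.GITss.ClosedAct

/-!
# Fibre dimensions of maps whose fibres are orbits, over any base
-/

set_option autoImplicit false
set_option backward.isDefEq.respectTransparency false
set_option linter.style.haveILetI false

universe u

open CategoryTheory CategoryTheory.Limits MonoidalCategory CartesianMonoidalCategory MonObj GrpObj AlgebraicGeometry
open TopologicalSpace

noncomputable section

namespace Groth.Agent.GITss.Rel

/-- The fibre dimensions of a universally open group scheme do not change along specialisations. -/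
theorem groupDim_eq_of_specializes {S : Scheme.{u}} (G : Over S) [GrpObj G] [LocallyOfFiniteType G.hom]
    [UniversallyOpen G.hom] {b c : S} (h : b ⤳ c) :
    topologicalKrullDim ↥(G.hom ⁻¹' {b}) = topologicalKrullDim ↥(G.hom ⁻¹' {c}) := by
  have hchain : ∀ (t : S) (k : ℕ),
      (k : WithBot ℕ∞) ≤ topologicalKrullDim ↥(G.hom ⁻¹' {t}) ↔ Unibranch.HasChain G.hom Set.univ t k := by
    intro t k
    rw [← Unibranch.natCast_le_topologicalKrullDim_inter_iff G.hom isClosed_univ.isLocallyClosed t,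
      IsHomeomorph.topologicalKrullDim_eq _
        (Homeomorph.setCongr (Set.univ_inter (G.hom ⁻¹' {t}))).isHomeomorph]
  refine le_antisymm ?_ ?_
  · obtain ⟨m, hm, O, hcO, hO⟩ := GrpDim.exists_dim_le G c
    exact hm ▸ hO b (h.mem_open O.2 hcO)
  refine Unibranch.le_of_forall_natCast_le fun k hk => (hchain b k).2 ?_
  obtain ⟨ch, hc, hch⟩ := (hchain c k).1 hk
  have hfc : G.hom (ch 0) = c := (hc 0).2
  have hu : EGA43.IsUnivOpenAt G.hom (ch 0) := fun Y' g x' _ U hU =>
    (pullback.snd G.hom g).isOpenMap.image_mem_nhds hU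
  obtain ⟨ζ, -, -, hζc⟩ := Unibranch.exists_hasChain_of_isUnivOpenAt G.hom hu
    (by rw [hfc]; exact h : b ⤳ G.hom (ch 0))
  have hmem : ∀ i, ch i ∈ closure {ch 0} := by
    intro i
    induction i using Fin.induction with
    | zero => exact subset_closure rfl
    | succ i ih =>
      exact specializes_iff_mem_closure.1 ((specializes_iff_mem_closure.2 ih).trans (hch i).1)
  exact (hζc k (hfc ▸ ⟨ch, fun i => ⟨hmem i, (hc i).2⟩, hch⟩)).mono (Set.subset_univ _)

variable {S : Scheme.{u}} {G X Y : Over S} [GrpObj G] (a : AlgGrp.Action G X)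
  [LocallyOfFiniteType G.hom] [LocallyOfFiniteType X.hom] {φ : X ⟶ Y} (hinv : GIT.IsInvariant a φ)
  [LocallyOfFiniteType φ.left]

/-- The dimension of the stabiliser over a point. -/
def dimStab (x : X.left) : WithBot ℕ∞ := topologicalKrullDim ↥(GLinSh.stabTo a (𝟙 X) ⁻¹' {x})

/-- The dimension of the group over the image of a point. -/
def dimGrp (_a : AlgGrp.Action G X) (x : X.left) : WithBot ℕ∞ := topologicalKrullDim ↥(G.hom ⁻¹' {X.hom x})

omit [LocallyOfFiniteType X.hom] in
theorem lft_snd : LocallyOfFiniteType (snd G X).left :=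
  inferInstanceAs (LocallyOfFiniteType (pullback.snd G.hom X.hom))

omit [LocallyOfFiniteType X.hom] in
theorem lft_psi : LocallyOfFiniteType (GIT.psi a (𝟙 X)).left := by
  haveI : LocallyOfFiniteType ((GIT.psi a (𝟙 X)).left ≫ (snd X X).left) := by
    rw [← Over.comp_left, GIT.psi, lift_snd]; exact lft_snd
  exact locallyOfFiniteType_of_comp _ (snd X X).left

omit [LocallyOfFiniteType X.hom] in
theorem lft_stabTo : LocallyOfFiniteType (GLinSh.stabTo a (𝟙 X)) := by
  haveI := lft_psi a
  exact inferInstanceAs (LocallyOfFiniteType (pullback.snd _ _))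

theorem exists_dimStab_le (x : X.left) : ∃ m : ℕ, dimStab a x = (m : WithBot ℕ∞) ∧
    ∃ O : X.left.Opens, x ∈ O ∧ ∀ y ∈ O, dimStab a y ≤ (m : WithBot ℕ∞) := by
  haveI := lft_stabTo a
  obtain ⟨_⟩ := EqInt.nonempty_grpObj_stab a (𝟙 X)
  haveI : LocallyOfFiniteType (Over.mk (GLinSh.stabTo a (𝟙 X))).hom := ‹LocallyOfFiniteType (GLinSh.stabTo a (𝟙 X))›
  exact GrpDim.exists_dim_le (Over.mk (GLinSh.stabTo a (𝟙 X))) x

theorem fibreDimAt_snd (t : (G ⊗ X).left) :
    FlatMor.fibreDimAt (snd G X).left t = dimGrp a ((snd G X).left t) := by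
  rw [LocalDimBC.fibreDimAt_of_isPullback G.hom X.hom (fst G X).left (snd G X).left
    (IsPullback.of_hasPullback G.hom X.hom) t, fibreDimAt_grp G]
  exact congrArg (fun s => topologicalKrullDim ↥(G.hom ⁻¹' {s}))
    congr($(IsPullback.of_hasPullback G.hom X.hom |>.w) t)

/-- The fibre dimension of the orbit relation is the dimension of the stabiliser. -/
theorem fibreDimAt_psiY (t : (G ⊗ X).left) :
    FlatMor.fibreDimAt (GIT.PsiY a φ hinv) t = dimStab a ((snd G X).left t) := by
  haveI := lft_psi a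
  haveI := lft_stabTo a
  haveI : LocallyOfFiniteType (GIT.PsiY a φ hinv) := by
    haveI : LocallyOfFiniteType (GIT.PsiY a φ hinv ≫ pullback.snd φ.left φ.left) := by
      rw [show GIT.PsiY a φ hinv ≫ pullback.snd φ.left φ.left = (snd G X).left from pullback.lift_snd _ _ _]
      exact lft_snd
    exact locallyOfFiniteType_of_comp _ (pullback.snd φ.left φ.left)
  let m : pullback φ.left φ.left ⟶ (X ⊗ X).left :=
    pullback.lift (pullback.fst φ.left φ.left) (pullback.snd φ.left φ.left) (by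
      rw [← Over.w φ, pullback.condition_assoc])
  haveI : Mono m := ⟨fun p q e => pullback.hom_ext
    (by simpa [m] using congr($e ≫ pullback.fst X.hom X.hom))
    (by simpa [m] using congr($e ≫ pullback.snd X.hom X.hom))⟩
  have hm : GIT.PsiY a φ hinv ≫ m = (GIT.psi a (𝟙 X)).left := by
    have e : (GIT.psi a (𝟙 X)) = lift a.act (snd G X) := by simp [GIT.psi]
    rw [e]
    apply pullback.hom_ext
    · rw [Category.assoc, pullback.lift_fst, GIT.PsiY, pullback.lift_fst]
      exact congr($((lift_fst a.act (snd G X)).symm).left)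
    · rw [Category.assoc, pullback.lift_snd, GIT.PsiY, pullback.lift_snd]
      exact congr($((lift_snd a.act (snd G X)).symm).left)
  have sq : IsPullback (𝟙 (G ⊗ X).left) (GIT.PsiY a φ hinv) (GIT.psi a (𝟙 X)).left m :=
    IsPullback.of_horiz_isIso_mono ⟨by rw [Category.id_comp, hm]⟩
  rw [LocalDimBC.fibreDimAt_of_isPullback (GIT.psi a (𝟙 X)).left m _ _ sq t]
  obtain ⟨i, sqK⟩ := exists_isPullback_kernelPair a
  obtain ⟨p, hp, hp'⟩ := Scheme.exists_preimage_of_isPullback sqK t t rfl
  show FlatMor.fibreDimAt (GIT.psi a (𝟙 X)).left t = _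
  conv_lhs => rw [← hp]
  rw [← LocalDimBC.fibreDimAt_of_isPullback (GIT.psi a (𝟙 X)).left _ _ _ sqK p]
  obtain ⟨m', sq'⟩ := exists_isPullback_stab a (snd G X)
  obtain ⟨_⟩ := EqInt.nonempty_grpObj_stab a (𝟙 X)
  haveI : LocallyOfFiniteType (Over.mk (GLinSh.stabTo a (𝟙 X))).hom := ‹LocallyOfFiniteType (GLinSh.stabTo a (𝟙 X))›
  rw [LocalDimBC.fibreDimAt_of_isPullback (GLinSh.stabTo a (𝟙 X)) _ _ _ sq' p]
  refine (fibreDimAt_grp (Over.mk (GLinSh.stabTo a (𝟙 X))) (m' p)).trans ?_
  show topologicalKrullDim ↥(GLinSh.stabTo a (𝟙 X) ⁻¹' {GLinSh.stabTo a (𝟙 X) (m' p)}) = _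
  rw [show GLinSh.stabTo a (𝟙 X) (m' p) = (snd G X).left (GLinSh.stabTo a (snd G X) p) by
    rw [← Scheme.Hom.comp_apply, sq'.w, Scheme.Hom.comp_apply]]
  exact congrArg (fun w => dimStab a ((snd G X).left w)) hp'

include hinv in
/-- Fibre and stabiliser dimensions add up to the dimension of the group. -/
theorem fibreDimAt_add_dimStab [IsLocallyNoetherian X.left] (hs : Function.Surjective (GIT.PsiY a φ hinv).base)
    (x : X.left) : ∃ f s g : ℕ, FlatMor.fibreDimAt φ.left x = (f : WithBot ℕ∞) ∧ dimStab a x = (s : WithBot ℕ∞) ∧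
      dimGrp a x = (g : WithBot ℕ∞) ∧ f + s = g := by
  haveI := lft_snd (G := G) (X := X)
  have h₂' : GIT.PsiY a φ hinv ≫ pullback.snd φ.left φ.left = (snd G X).left := pullback.lift_snd _ _ _
  haveI : LocallyOfFiniteType (GIT.PsiY a φ hinv) := by
    haveI : LocallyOfFiniteType (GIT.PsiY a φ hinv ≫ pullback.snd φ.left φ.left) := by rw [h₂']; infer_instance
    exact locallyOfFiniteType_of_comp _ (pullback.snd φ.left φ.left)
  haveI : IsLocallyNoetherian (pullback φ.left φ.left) :=
    LocallyOfFiniteType.isLocallyNoetherian (pullback.snd φ.left φ.left)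
  obtain ⟨fx, hfx⟩ := Unibranch.exists_fibreDimAt_eq φ.left x
  obtain ⟨sx, hsx, -⟩ := exists_dimStab_le a x
  obtain ⟨gx, hgx, -⟩ := GrpDim.exists_dim_le G (X.hom x)
  refine ⟨fx, sx, gx, hfx, hsx, hgx, le_antisymm ?_ ?_⟩
  · obtain ⟨p, hp₁, hp₂⟩ := Scheme.exists_preimage_of_isPullback (IsPullback.of_hasPullback φ.left φ.left) x x rfl
    obtain ⟨et, het, n₁, d₁, hn₁, hd₁, h₁⟩ := exists_resTrdeg_ge (pullback.snd φ.left φ.left) p
    rw [LocalDimBC.fibreDimAt_of_isPullback φ.left φ.left _ _ (IsPullback.of_hasPullback φ.left φ.left), hp₁,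
      hfx] at hn₁
    obtain ⟨g, hg⟩ := hs et
    obtain ⟨m, hm, n₂, d₂, hn₂, hd₂, h₂⟩ := exists_resTrdeg_ge (GIT.PsiY a φ hinv) g
    have hxw : ∀ w, GIT.PsiY a φ hinv w = et → (snd G X).left w = x := fun w hw => by
      rw [← h₂', Scheme.Hom.comp_apply, hw, het, hp₂]
    rw [fibreDimAt_psiY, hxw g hg, hsx] at hn₂
    obtain ⟨b, δ, -, hδ, hD⟩ := SpRelDim.fibreDimAt_eq_add_resTrdeg (snd G X).left m
    rw [fibreDimAt_snd a, hxw m (hm.trans hg), show dimGrp a x = (gx : WithBot ℕ∞) from hgx] at hD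
    have hsum : Dual3.resTrdeg (GIT.PsiY a φ hinv ≫ pullback.snd φ.left φ.left) m = (δ : Cardinal.{u}) := by
      simp only [h₂']; exact hδ
    rw [AlgSpLib.resTrdeg_comp, show GIT.PsiY a φ hinv m = et from hm.trans hg, hd₁, hd₂] at hsum
    have e₁ : d₁ + d₂ = δ := by exact_mod_cast hsum
    have e₂ : fx = n₁ := by exact_mod_cast hn₁
    have e₃ : sx = n₂ := by exact_mod_cast hn₂
    have e₄ : gx = b + δ := by exact_mod_cast hD
    omega
  · let t := (lift (1 : X ⟶ G) (𝟙 X)).left x
    have et₂ : (snd G X).left t = x := by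
      rw [← Scheme.Hom.comp_apply, ← Over.comp_left, lift_snd]; rfl
    have et₁ : a.act.left t = x := by
      rw [← Scheme.Hom.comp_apply, ← Over.comp_left, GrpAct.one_smul']; rfl
    have h := (LocalDimBC.fibreDimAt_comp (GIT.PsiY a φ hinv) (pullback.snd φ.left φ.left) t).1
    simp only [h₂'] at h
    rw [fibreDimAt_snd a, fibreDimAt_psiY, et₂, LocalDimBC.fibreDimAt_of_isPullback φ.left φ.left _ _
      (IsPullback.of_hasPullback φ.left φ.left), ← Scheme.Hom.comp_apply,
      show GIT.PsiY a φ hinv ≫ pullback.fst φ.left φ.left = a.act.left from pullback.lift_fst _ _ _, et₁,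
      show dimGrp a x = (gx : WithBot ℕ∞) from hgx, hsx, hfx, ← Nat.cast_add, natCast_le_iff] at h
    omega

include hinv in
/-- The fibre dimension does not change along specialisations. -/
theorem fibreDimAt_eq_of_specializes [IsLocallyNoetherian X.left] [UniversallyOpen G.hom]
    (hs : Function.Surjective (GIT.PsiY a φ hinv).base) {x y : X.left} (h : y ⤳ x) :
    FlatMor.fibreDimAt φ.left y = FlatMor.fibreDimAt φ.left x := by
  obtain ⟨fx, sx, gx, hfx, hsx, hgx, hx⟩ := fibreDimAt_add_dimStab a hinv hs x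
  obtain ⟨fy, sy, gy, hfy, hsy, hgy, hy⟩ := fibreDimAt_add_dimStab a hinv hs y
  have hg : gy = gx := by
    have := groupDim_eq_of_specializes G (h.map X.hom.continuous)
    have h' : (gy : WithBot ℕ∞) = (gx : WithBot ℕ∞) := hgy.symm.trans (this.trans hgx)
    exact_mod_cast h'
  have hf : fy ≤ fx := by
    have : x ∈ {z | (fy : WithBot ℕ∞) ≤ FlatMor.fibreDimAt φ.left z} :=
      h.mem_closed (DimField.isClosed_le_fibreDimAt φ.left fy) (le_of_eq hfy.symm)
    rw [Set.mem_setOf_eq, hfx] at this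
    exact natCast_le_iff.1 this
  obtain ⟨m, hm, O, hxO, hO⟩ := exists_dimStab_le a x
  have hsle := hO y (h.mem_open O.2 hxO)
  rw [← hm, hsx, hsy, natCast_le_iff] at hsle
  rw [hfx, hfy, show fy = fx by omega]

end Groth.Agent.GITss.Rel
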