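import Groth.Agent.GITss.InvFunField
import Groth.Agent.DivDescMod.Fibre
import Groth.Agent.SmDesc.Scheme
import Groth.Agent.W7GenSmooth.Basic
import Groth.Agent.InfLift.SchemeSmallExt
import Mathlib.AlgebraicGeometry.Morphisms.LocalFlatDescent
import Mathlib.AlgebraicGeometry.AlgClosed.Basic

/-!
# Geometric quotients are generically smooth
-/

set_option autoImplicit false
set_option backward.isDefEq.respectTransparency false
set_option linter.style.haveILetI false

universe u

open CategoryTheory CategoryTheory.Limits MonoidalCategory CartesianMonoidalCategory MonObj GrpObj AlgebraicGeometry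
open TopologicalSpace

noncomputable section

namespace Groth.Agent.GITss.GenSmooth

section Fibre

variable {X Y : Scheme.{u}} (f : X ⟶ Y) {η₀ : Y}

theorem formallySmooth_congr {A B : Scheme.{u}} {h₁ h₂ : A ⟶ B} (e : h₁ = h₂) (z : A)
    (H : (h₁.stalkMap z).hom.FormallySmooth) : (h₂.stalkMap z).hom.FormallySmooth := by
  subst e; exact H

/-- Formal smoothness at a point of a fibre over a point with field stalk. -/
theorem mem_smoothLocus_fibre (hη : IsField (Y.presheaf.stalk η₀)) (w : f.fiber η₀)
    (h : (f.stalkMap (f.fiberι η₀ w)).hom.FormallySmooth) :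
    ((f.fiberToSpecResidueField η₀).stalkMap w).hom.FormallySmooth := by
  haveI : IsIso ((f.fiberι η₀).stalkMap w) :=
    (ConcreteCategory.isIso_iff_bijective _).2 (DivDescMod.bijective_stalkMap_fiberι f hη w)
  haveI : IsIso ((Y.fromSpecResidueField η₀).stalkMap (f.fiberToSpecResidueField η₀ w)) := by
    refine (ConcreteCategory.isIso_iff_bijective _).2 ⟨?_, (Y.fromSpecResidueField η₀).stalkMap_surjective _⟩
    have hF : IsField (Y.presheaf.stalk (Y.fromSpecResidueField η₀ (f.fiberToSpecResidueField η₀ w))) := by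
      rw [Scheme.fromSpecResidueField_apply]; exact hη
    letI := hF.toField
    exact ((Y.fromSpecResidueField η₀).stalkMap _).hom.injective
  have h1 : ((f.fiberι η₀ ≫ f).stalkMap w).hom.FormallySmooth := by
    rw [Scheme.Hom.stalkMap_comp]
    exact (RingHom.FormallySmooth.respectsIso.cancel_right_isIso _ _).2 h
  have h2 := formallySmooth_congr (f.fiber_fac η₀) w h1
  rw [Scheme.Hom.stalkMap_comp] at h2
  exact (RingHom.FormallySmooth.respectsIso.cancel_left_isIso _ _).1 h2

end Fibre

/-- Points over an algebraically closed field lift along surjective maps of finite type. -/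
theorem exists_lift_of_surjective {A B : Scheme.{u}} (f : A ⟶ B) [LocallyOfFiniteType f]
    (hf : Function.Surjective f.base) {Ω : Type u} [Field Ω] [IsAlgClosed Ω] (p : Spec (CommRingCat.of Ω) ⟶ B) :
    ∃ q : Spec (CommRingCat.of Ω) ⟶ A, q ≫ f = p := by
  let P := pullback f p
  let s : P ⟶ Spec (CommRingCat.of Ω) := pullback.snd f p
  haveI : JacobsonSpace ↥P := LocallyOfFiniteType.jacobsonSpace s
  obtain ⟨a₀, ha⟩ := hf (p (IsLocalRing.closedPoint Ω))
  obtain ⟨z, -, -⟩ := Scheme.exists_preimage_of_isPullback (IsPullback.of_hasPullback f p) a₀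
    (IsLocalRing.closedPoint Ω) ha
  obtain ⟨c, -, hc⟩ := nonempty_inter_closedPoints (Z := (Set.univ : Set P)) ⟨z, trivial⟩ isClosed_univ.isLocallyClosed
  refine ⟨pointOfClosedPoint s c hc ≫ pullback.fst f p, ?_⟩
  rw [Category.assoc, pullback.condition, ← Category.assoc, pointOfClosedPoint_comp]
  exact Category.id_comp p

variable {S : Scheme.{u}} {G X Y : Over S} [GrpObj G] (a : AlgGrp.Action G X) {π : X ⟶ Y}
  (hinv : GIT.IsInvariant a π) {Ω : Type u} [Field Ω] (b : Spec (CommRingCat.of Ω) ⟶ Y.left)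

/-- The geometric point as an object over the base. -/
abbrev ptObj : Over S := Over.mk (b ≫ Y.hom)

/-- The geometric fibre. -/
abbrev geomFib (π : X ⟶ Y) : Over S := Over.mk (pullback.snd π.left b ≫ b ≫ Y.hom)

/-- The projection of the geometric fibre. -/
def toPt (π : X ⟶ Y) : geomFib b π ⟶ ptObj b := Over.homMk (pullback.snd π.left b) rfl

/-- The map of the geometric fibre to the source. -/
def toSrc (π : X ⟶ Y) : geomFib b π ⟶ X :=
  Over.homMk (pullback.fst π.left b) (by
    show _ = pullback.snd π.left b ≫ b ≫ Y.hom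
    rw [← Over.w π, pullback.condition_assoc])

/-- Translation of the geometric fibre by a rational point. -/
def transl (g : ptObj b ⟶ G) : geomFib b π ⟶ geomFib b π :=
  Over.homMk (pullback.lift (lift (toPt b π ≫ g) (toSrc b π) ≫ a.act).left (pullback.snd π.left b) (by
    have h : (lift (toPt b π ≫ g) (toSrc b π) ≫ a.act) ≫ π = toSrc b π ≫ π := by
      rw [Category.assoc, hinv, lift_snd_assoc]
    rw [← Over.comp_left, h, Over.comp_left]
    exact pullback.condition)) (by
    show pullback.lift _ _ _ ≫ pullback.snd π.left b ≫ b ≫ Y.hom = _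
    rw [pullback.lift_snd_assoc]
    rfl)

theorem transl_toPt (g : ptObj b ⟶ G) : transl a hinv b g ≫ toPt b π = toPt b π :=
  Over.OverMorphism.ext (pullback.lift_snd _ _ _)

theorem transl_toSrc (g : ptObj b ⟶ G) :
    transl a hinv b g ≫ toSrc b π = lift (toPt b π ≫ g) (toSrc b π) ≫ a.act :=
  Over.OverMorphism.ext (pullback.lift_fst _ _ _)

theorem hom_ext_geomFib {T : Over S} {p q : T ⟶ geomFib b π} (h₁ : p ≫ toSrc b π = q ≫ toSrc b π)
    (h₂ : p ≫ toPt b π = q ≫ toPt b π) : p = q :=
  Over.OverMorphism.ext (pullback.hom_ext congr($(h₁).left) congr($(h₂).left))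

theorem transl_inv (g : ptObj b ⟶ G) : transl a hinv b g ≫ transl a hinv b g⁻¹ = 𝟙 _ := by
  refine hom_ext_geomFib b ?_ (by rw [Category.assoc, transl_toPt, transl_toPt, Category.id_comp])
  rw [Category.assoc, transl_toSrc, GrpAct.comp_smul, transl_toSrc, ← Category.assoc, transl_toPt,
    ← GrpAct.mul_smul, ← MonObj.comp_mul, inv_mul_cancel, MonObj.comp_one, GrpAct.one_smul', Category.id_comp]

include hinv in
/-- The geometric fibre is smooth once it is smooth at some point. -/
theorem smooth_geomFib [IsAlgClosed Ω] [LocallyOfFiniteType G.hom] [LocallyOfFiniteType π.left]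
    (hs : Function.Surjective (GIT.PsiY a π hinv).base) {z₀ : ↥(pullback π.left b)}
    (h₀ : z₀ ∈ (pullback.snd π.left b).smoothLocus) : Smooth (pullback.snd π.left b) := by
  let pZ : pullback π.left b ⟶ Spec (CommRingCat.of Ω) := pullback.snd π.left b
  haveI : LocallyOfFinitePresentation pZ := InfLift.lfp_of_lft pZ
  haveI : JacobsonSpace ↥(pullback π.left b) := LocallyOfFiniteType.jacobsonSpace pZ
  haveI : LocallyOfFiniteType (GIT.PsiY a π hinv) := by
    haveI : LocallyOfFiniteType (GIT.PsiY a π hinv ≫ pullback.snd π.left π.left) := by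
      rw [GIT.PsiY, pullback.lift_snd]
      exact inferInstanceAs (LocallyOfFiniteType (pullback.snd G.hom X.hom))
    exact locallyOfFiniteType_of_comp _ (pullback.snd π.left π.left)
  refine Scheme.Hom.smoothLocus_eq_top_iff.1 (top_le_iff.1 fun z _ => ?_)
  by_contra hz
  obtain ⟨c₂, hc₂, hc₂c⟩ := nonempty_inter_closedPoints (Z := (pZ.smoothLocus : Set ↥(pullback π.left b))ᶜ)
    ⟨z, hz⟩ pZ.smoothLocus.2.isClosed_compl.isLocallyClosed
  obtain ⟨c₁, hc₁, hc₁c⟩ := nonempty_inter_closedPoints (Z := (pZ.smoothLocus : Set ↥(pullback π.left b)))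
    ⟨z₀, h₀⟩ pZ.smoothLocus.2.isLocallyClosed
  let p₁ : ptObj b ⟶ geomFib b π := Over.homMk (pointOfClosedPoint pZ c₁ hc₁c) (by
    show pointOfClosedPoint pZ c₁ hc₁c ≫ pZ ≫ b ≫ Y.hom = b ≫ Y.hom
    rw [← Category.assoc, pointOfClosedPoint_comp]
    exact Category.id_comp _)
  let p₂ : ptObj b ⟶ geomFib b π := Over.homMk (pointOfClosedPoint pZ c₂ hc₂c) (by
    show pointOfClosedPoint pZ c₂ hc₂c ≫ pZ ≫ b ≫ Y.hom = b ≫ Y.hom
    rw [← Category.assoc, pointOfClosedPoint_comp]
    exact Category.id_comp _)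
  have hp : ∀ (c : ↥(pullback π.left b)) (hc : IsClosed {c}),
      (pointOfClosedPoint pZ c hc ≫ pullback.fst π.left b) ≫ π.left = b := fun c hc => by
    rw [Category.assoc, pullback.condition, ← Category.assoc, pointOfClosedPoint_comp]
    exact Category.id_comp _
  obtain ⟨g, hg⟩ := exists_lift_of_surjective (GIT.PsiY a π hinv) hs
    (pullback.lift (pointOfClosedPoint pZ c₁ hc₁c ≫ pullback.fst π.left b)
      (pointOfClosedPoint pZ c₂ hc₂c ≫ pullback.fst π.left b) ((hp c₁ hc₁c).trans (hp c₂ hc₂c).symm))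
  have hg₁ : g ≫ a.act.left = (p₁ ≫ toSrc b π).left := by
    have := congr($hg ≫ pullback.fst π.left π.left)
    rw [Category.assoc, GIT.PsiY, pullback.lift_fst, pullback.lift_fst] at this
    exact this
  have hg₂ : g ≫ (snd G X).left = (p₂ ≫ toSrc b π).left := by
    have := congr($hg ≫ pullback.snd π.left π.left)
    rw [Category.assoc, GIT.PsiY, pullback.lift_snd, pullback.lift_snd] at this
    exact this
  let gO : ptObj b ⟶ G ⊗ X := Over.homMk g (by
    rw [← Over.w (snd G X), ← Category.assoc, hg₂]; exact Over.w (p₂ ≫ toSrc b π))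
  have e₂ : gO ≫ snd G X = p₂ ≫ toSrc b π := Over.OverMorphism.ext hg₂
  have e₁ : gO ≫ a.act = p₁ ≫ toSrc b π := Over.OverMorphism.ext hg₁
  let τ := transl a hinv b (gO ≫ fst G X) (π := π)
  have hτ : p₂ ≫ τ = p₁ := by
    have hpt : ∀ q : ptObj b ⟶ geomFib b π, q.left ≫ pZ = 𝟙 _ → q ≫ toPt b π = 𝟙 _ := fun q h =>
      Over.OverMorphism.ext h
    have h₁ := hpt p₁ (pointOfClosedPoint_comp _ _ _)
    have h₂ := hpt p₂ (pointOfClosedPoint_comp _ _ _)
    refine hom_ext_geomFib b ?_ (by rw [Category.assoc, transl_toPt, h₁, h₂])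
    rw [Category.assoc, transl_toSrc, GrpAct.comp_smul, reassoc_of% h₂, ← e₂, ← comp_lift, lift_fst_snd,
      Category.comp_id, e₁]
  haveI : IsIso τ := ⟨transl a hinv b (gO ≫ fst G X)⁻¹, transl_inv a hinv b _, by
    have := transl_inv a hinv b (gO ≫ fst G X)⁻¹ (π := π)
    rwa [_root_.inv_inv] at this⟩
  haveI : IsIso τ.left := inferInstanceAs (IsIso ((Over.forget S).map τ))
  have h1 : τ.left c₂ = c₁ := by
    have := congr($(hτ).left (IsLocalRing.closedPoint Ω))
    rw [Over.comp_left, Scheme.Hom.comp_apply] at this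
    simp only [p₁, p₂, Over.homMk_left] at this
    erw [pointOfClosedPoint_apply, pointOfClosedPoint_apply] at this
    exact this
  have h2 : c₂ ∈ τ.left ⁻¹ᵁ pZ.smoothLocus := by
    show τ.left c₂ ∈ pZ.smoothLocus
    rw [h1]; exact hc₁
  rw [Scheme.Hom.preimage_smoothLocus_eq] at h2
  have h3 : τ.left ≫ pZ = pZ := congr($(transl_toPt a hinv b (gO ≫ fst G X) (π := π)).left)
  simp only [h3] at h2
  exact hc₂ h2

/-- Geometric quotients are generically smooth. -/
theorem smooth_generic_fibre [Smooth G.hom] [IsIntegral X.left] [LocallyOfFiniteType X.hom] [IrreducibleSpace Y.left]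
    (hπ : GIT.IsGeomQuot a π) : Smooth (π.left.fiberToSpecResidueField (genericPoint Y.left)) := by
  haveI : LocallyOfFiniteType (π.left ≫ Y.hom) := by rw [Over.w]; infer_instance
  haveI : LocallyOfFiniteType π.left := locallyOfFiniteType_of_comp π.left Y.hom
  have hfs := InvFld.formallySmooth_stalkMap a hπ
  haveI := InvFld.isReduced_target a hπ
  haveI : IsIntegral Y.left := isIntegral_of_irreducibleSpace_of_isReduced Y.left
  have hmap := InvFld.map_genericPoint_quot a hπ
  have hη : IsField (Y.left.presheaf.stalk (π.left (genericPoint X.left))) := by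
    rw [hmap]; exact Field.toIsField Y.left.functionField
  rw [← hmap]
  let η₀ := π.left (genericPoint X.left)
  let F := π.left.fiber η₀
  let q : F ⟶ Spec (Y.left.residueField η₀) := π.left.fiberToSpecResidueField η₀
  haveI : LocallyOfFiniteType q := MorphismProperty.pullback_snd _ _ ‹LocallyOfFiniteType π.left›
  haveI : LocallyOfFinitePresentation q := InfLift.lfp_of_lft q
  let w : F := π.left.asFiber (genericPoint X.left)
  have hw : w ∈ q.smoothLocus := by
    refine Scheme.Hom.mem_smoothLocus.2 (mem_smoothLocus_fibre π.left hη w ?_)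
    have e : π.left.fiberι η₀ w = genericPoint X.left := π.left.fiberι_asFiber _
    rw [e]; exact hfs
  let Ω := AlgebraicClosure (Y.left.residueField η₀)
  let j : Spec (CommRingCat.of Ω) ⟶ Spec (Y.left.residueField η₀) :=
    Spec.map (CommRingCat.ofHom (algebraMap (Y.left.residueField η₀) Ω))
  haveI : Surjective j := ⟨fun x => ⟨IsLocalRing.closedPoint Ω, Subsingleton.elim _ _⟩⟩
  haveI : Flat j := HasRingHomProperty.Spec_iff.2
    ((RingHom.flat_algebraMap_iff (R := Y.left.residueField η₀) (S := Ω)).2 inferInstance)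
  let bΩ : Spec (CommRingCat.of Ω) ⟶ Y.left := j ≫ Y.left.fromSpecResidueField η₀
  let pZ : pullback π.left bΩ ⟶ Spec (CommRingCat.of Ω) := pullback.snd π.left bΩ
  let c : pullback π.left bΩ ⟶ F :=
    pullback.lift (pullback.fst π.left bΩ) (pZ ≫ j) (by rw [pullback.condition]; simp [bΩ, pZ])
  have sq : IsPullback c pZ q j := by
    refine IsPullback.of_right ?_ (pullback.lift_snd _ _ _)
      (IsPullback.of_hasPullback π.left (Y.left.fromSpecResidueField η₀))
    show IsPullback (c ≫ pullback.fst _ _) pZ π.left bΩ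
    rw [show c ≫ pullback.fst π.left (Y.left.fromSpecResidueField η₀) = pullback.fst π.left bΩ from pullback.lift_fst _ _ _]
    exact IsPullback.of_hasPullback π.left bΩ
  haveI : Surjective c := MorphismProperty.of_isPullback sq.flip ‹Surjective j›
  haveI : LocallyOfFinitePresentation pZ := InfLift.lfp_of_lft pZ
  obtain ⟨z₀, hz₀⟩ := c.surjective w
  have h₀ : z₀ ∈ pZ.smoothLocus := by
    haveI := W7GenSmooth.smooth_smoothLocus q
    have sq' := (isPullback_morphismRestrict c q.smoothLocus).paste_vert sq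
    haveI : Smooth ((c ⁻¹ᵁ q.smoothLocus).ι ≫ pZ) :=
      MorphismProperty.of_isPullback sq' ‹Smooth (q.smoothLocus.ι ≫ q)›
    exact SmDesc.mem_smoothLocus_of_smooth_ι pZ (U := c ⁻¹ᵁ q.smoothLocus)
      (show c z₀ ∈ q.smoothLocus by rw [hz₀]; exact hw)
  have hZ := smooth_geomFib a hπ.inv bΩ hπ.orbit h₀
  exact MorphismProperty.of_isPullback_of_descendsAlong (P := @Smooth) (Q := @Surjective ⊓ @Flat ⊓ @QuasiCompact)
    sq.flip ⟨⟨inferInstance, inferInstance⟩, inferInstance⟩ hZ

end Groth.Agent.GITss.GenSmooth
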