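import Groth.Agent.AffQuot.Main
import Groth.Agent.AffQuot.Family

/-!
# Good quotients are local on the target

An invariant affine morphism having Reynolds charts over the affines inside the members of an open covering of
the target has them over all affines, as soon as affine schemes with an action have good quotients.
-/

set_option autoImplicit false
set_option backward.isDefEq.respectTransparency false
set_option linter.style.haveILetI false

universe u

open CategoryTheory MonoidalCategory CartesianMonoidalCategory MonObj GrpObj AlgebraicGeometry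

namespace Groth.Agent.AffQuot

open Limits

section Schemes

variable {X Y Y' T : Scheme.{u}} {φ : X ⟶ Y} {σ π : T ⟶ X}

/-- Two good morphisms of one pair differ by an isomorphism. -/
theorem isIso_of_good_comp (h : Good φ σ π) (χ : Y ⟶ Y') (h' : Good (φ ≫ χ) σ π) : IsIso χ := by
  obtain ⟨χ', hχ', -⟩ := h'.existsUnique_desc φ h.inv
  refine ⟨χ', h.epi_hom ?_, h'.epi_hom ?_⟩
  · rw [← Category.assoc, hχ', Category.comp_id]
  · rw [← Category.assoc (φ ≫ χ), hχ', Category.comp_id]

/-- A chart is a good morphism over its affine scheme. -/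
theorem good_of_chart {C : CommRingCat.{u}} {i : Spec C ⟶ Y} (c : Chart φ σ π C i) :
    Good (Spec.map (CommRingCat.ofHom (algebraMap C c.R))) (Spec.map (CommRingCat.ofHom c.D.σ.toRingHom))
      (Spec.map (CommRingCat.ofHom c.D.π.toRingHom)) :=
  good_of_datum c.D (Iso.refl _) (Category.id_comp _).symm (Category.id_comp _).symm

end Schemes

variable {S : Scheme.{u}} {G X Y : Over S} [GrpObj G] {a : AlgGrp.Action G X} {φ : X ⟶ Y}

/-- Good quotients are local on the target. -/
theorem goodAct_of_locally (hinv : GIT.IsInvariant a φ) [IsAffineHom φ.left]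
    (hQ : ∀ (Z : Over S) (b : AlgGrp.Action G Z), IsAffine Z.left → ∃ (Q : Over S) (q : Z ⟶ Q), GoodAct b q)
    (hloc : ∀ y : Y.left, ∃ V : Y.left.Opens, y ∈ V ∧ ∀ (C : CommRingCat.{u}) (i : Spec C ⟶ Y.left),
      Set.range i ⊆ (V : Set Y.left) → Nonempty (Chart φ.left a.act.left (snd G X).left C i)) :
    GoodAct a φ := by
  refine ⟨hinv.left, fun C i => ?_⟩
  let C' : Over S := Over.mk (i ≫ Y.hom)
  let g : C' ⟶ Y := Over.homMk i
  let P : Over S := pullback φ g
  let pr : P ⟶ X := pullback.fst φ g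
  let φP : P ⟶ C' := pullback.snd φ g
  let b : AlgGrp.Action G P := EqInt.baseChange a φ hinv g
  have hP : IsPullback pr.left φP.left φ.left i := (IsPullback.of_hasPullback φ g).map (Over.forget S)
  haveI : IsAffine P.left := by
    haveI : IsAffineHom φP.left := MorphismProperty.of_isPullback (P := @IsAffineHom) hP ‹_›
    haveI : IsAffine C'.left := inferInstanceAs (IsAffine (Spec C))
    exact isAffine_of_isAffineHom φP.left
  obtain ⟨Z, q, hq⟩ := hQ P b inferInstance
  have hbinv : GIT.IsInvariant b φP := EqInt.baseChange_invariant a φ hinv g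
  obtain ⟨χ, hχ, -⟩ := hq.existsUnique_desc φP.left hbinv.left
  have hT : IsPullback (G ◁ pr).left ((snd G P).left ≫ φP.left) ((snd G X).left ≫ φ.left) i :=
    ((Blanchard.isPullback_whiskerLeft G pr).map (Over.forget S)).flip.paste_vert hP
  have hbσ : b.act.left ≫ pr.left = (G ◁ pr).left ≫ a.act.left :=
    congr($(EqInt.baseChange_fst a φ hinv g).left)
  have hbπ : (snd G P).left ≫ pr.left = (G ◁ pr).left ≫ (snd G X).left :=
    congr($((whiskerLeft_snd G pr).symm).left)
  haveI : IsIso χ := by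
    refine (IsZariskiLocalAtTarget.iff_of_iSup_eq_top (P := MorphismProperty.isomorphisms Scheme.{u})
      (fun V : {V : (Spec C).Opens // IsAffineOpen V ∧ ∃ W : Y.left.Opens, (V : Set (Spec C)) ⊆ i ⁻¹' (W : Set Y.left) ∧
        ∀ (C₁ : CommRingCat.{u}) (j : Spec C₁ ⟶ Y.left), Set.range j ⊆ (W : Set Y.left) →
          Nonempty (Chart φ.left a.act.left (snd G X).left C₁ j)} => V.1) ?_).2 fun V => ?_
    · refine eq_top_iff.2 fun p _ => ?_
      obtain ⟨W, hpW, hW⟩ := hloc (i p)
      obtain ⟨V, hV, hpV, hVW⟩ := exists_isAffineOpen_mem_and_subset (x := p) (U := i ⁻¹ᵁ W) hpW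
      exact TopologicalSpace.Opens.mem_iSup.2 ⟨⟨V, hV, W, hVW, hW⟩, hpV⟩
    obtain ⟨V, hV, W, hVW, hW⟩ := V
    suffices key : ∀ (C₁ : CommRingCat.{u}) (e : Spec C₁ ⟶ Spec C) [IsOpenImmersion e]
        (c : Chart φ.left a.act.left (snd G X).left C₁ (e ≫ i)), IsIso (Limits.pullback.snd χ e) by
      obtain ⟨c⟩ := hW _ (hV.fromSpec ≫ i) (by
        rintro _ ⟨p, rfl⟩
        exact hVW (hV.range_fromSpec ▸ ⟨p, rfl⟩))
      haveI : IsIso (Limits.pullback.snd χ hV.fromSpec) := key _ hV.fromSpec c
      refine ((MorphismProperty.isomorphisms Scheme.{u}).arrow_mk_iso_iff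
        (morphismRestrictEq χ hV.opensRange_fromSpec.symm ≪≫ morphismRestrictOpensRange χ hV.fromSpec)).2 ?_
      exact this
    intro C₁ e _ c
    let Zg := Limits.pullback χ e
    let ιZ : Zg ⟶ Z.left := Limits.pullback.fst χ e
    let χg : Zg ⟶ Spec _ := Limits.pullback.snd χ e
    have sqZ : IsPullback ιZ χg χ e := IsPullback.of_hasPullback _ _
    let jR := hP.lift c.j (Spec.map (CommRingCat.ofHom (algebraMap _ c.R)) ≫ e) (by
      rw [Category.assoc]; exact c.hj.w)
    let lT := hT.lift c.l (Spec.map (CommRingCat.ofHom (algebraMap _ c.T')) ≫ e) (by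
      rw [Category.assoc]; exact c.hl.w)
    have hj₁ : jR ≫ pr.left = c.j := hP.lift_fst _ _ _
    have hj₂ : jR ≫ φP.left = _ := hP.lift_snd _ _ _
    have hl₁ : lT ≫ (G ◁ pr).left = c.l := hT.lift_fst _ _ _
    have hl₂ : lT ≫ (snd G P).left ≫ φP.left = _ := hT.lift_snd _ _ _
    have hjb : IsPullback jR (Spec.map (CommRingCat.ofHom (algebraMap _ c.R))) φP.left e :=
      IsPullback.of_right (by rw [hj₁]; exact c.hj) hj₂ hP
    have hlb : IsPullback lT (Spec.map (CommRingCat.ofHom (algebraMap _ c.T'))) ((snd G P).left ≫ φP.left)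
        e := IsPullback.of_right (by rw [hl₁]; exact c.hl) hl₂ hT
    let q' := sqZ.lift (jR ≫ q.left) (Spec.map (CommRingCat.ofHom (algebraMap _ c.R))) (by
      rw [Category.assoc, hχ]; exact hjb.w)
    have hq'₁ : q' ≫ ιZ = jR ≫ q.left := sqZ.lift_fst _ _ _
    have hq'₂ : q' ≫ χg = Spec.map (CommRingCat.ofHom (algebraMap _ c.R)) := sqZ.lift_snd _ _ _
    have hσ' : Spec.map (CommRingCat.ofHom c.D.σ.toRingHom) ≫ jR = lT ≫ b.act.left := by
      apply hP.hom_ext
      · rw [Category.assoc, hj₁, c.hσ, Category.assoc, hbσ, ← hl₁, Category.assoc]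
      · rw [Category.assoc, hj₂, ← Category.assoc, spec_map_algHom c.D.σ, Category.assoc, hbinv.left, hl₂]
    have hπ' : Spec.map (CommRingCat.ofHom c.D.π.toRingHom) ≫ jR = lT ≫ (snd G P).left := by
      apply hP.hom_ext
      · rw [Category.assoc, hj₁, c.hπ, Category.assoc, hbπ, ← hl₁, Category.assoc]
      · rw [Category.assoc, hj₂, ← Category.assoc, spec_map_algHom c.D.π, Category.assoc, hl₂]
    have hqj : IsPullback jR q' q.left ιZ :=
      IsPullback.of_bot (by rw [hq'₂, hχ]; exact hjb) hq'₁.symm sqZ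
    have hg : Good q' (Spec.map (CommRingCat.ofHom c.D.σ.toRingHom)) (Spec.map (CommRingCat.ofHom c.D.π.toRingHom)) := by
      refine hq.of_isPullback hqj (q := lT) ?_ hσ' hπ' ?_
      · refine IsPullback.of_bot (v₂₁ := χg) (v₂₂ := χ) (h₃₁ := e) ?_ ?_ sqZ
        · rw [Category.assoc, hq'₂, spec_map_algHom c.D.π, Category.assoc, hχ]; exact hlb
        · rw [Category.assoc, hq'₁, ← Category.assoc, ← Category.assoc, hπ', Category.assoc]
      · apply sqZ.hom_ext
        · simp only [Category.assoc, hq'₁]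
          rw [reassoc_of% hσ', reassoc_of% hπ', hq.inv]
        · simp only [Category.assoc, hq'₂, spec_map_algHom]
    exact isIso_of_good_comp hg χg (by rw [hq'₂]; exact good_of_chart c)
  have hgP : GoodAct b φP := by
    refine ⟨hbinv.left, fun C₁ i₁ => ?_⟩
    obtain ⟨c⟩ := hq.chart C₁ (i₁ ≫ inv χ)
    have hsq : IsPullback (𝟙 (Spec C₁)) (𝟙 _) (𝟙 _) (𝟙 _) := IsPullback.of_id_fst
    refine ⟨{ R := c.R, T' := c.T', D := c.D, j := c.j, hj := ?_, l := c.l, hl := ?_, hσ := c.hσ, hπ := c.hπ }⟩
    · exact IsPullback.of_iso c.hj (Iso.refl _) (Iso.refl _) (Iso.refl _) (asIso χ) (by simp) (by simp)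
        (by simp [hχ]) (by simp)
    · exact IsPullback.of_iso c.hl (Iso.refl _) (Iso.refl _) (Iso.refl _) (asIso χ) (by simp) (by simp)
        (by simp [hχ]) (by simp)
  obtain ⟨c⟩ := hgP.chart C (𝟙 (Spec C))
  refine ⟨{ R := c.R, T' := c.T', D := c.D, j := c.j ≫ pr.left, hj := ?_, l := c.l ≫ (G ◁ pr).left, hl := ?_,
            hσ := ?_, hπ := ?_ }⟩
  · convert c.hj.paste_horiz hP using 1
    exact (Category.id_comp i).symm
  · convert c.hl.paste_horiz hT using 1
    exact (Category.id_comp i).symm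
  · rw [← Category.assoc, c.hσ, Category.assoc, hbσ, Category.assoc]
  · rw [← Category.assoc, c.hπ, Category.assoc, hbπ, Category.assoc]

end Groth.Agent.AffQuot
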