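import Groth.Agent.GITss.Restrict
import Groth.Agent.GITss.Local
import Mathlib.AlgebraicGeometry.Gluing

/-!
# Gluing good quotients of stable affine opens
-/

set_option autoImplicit false
set_option backward.isDefEq.respectTransparency false
set_option linter.style.haveILetI false

universe u

open CategoryTheory MonoidalCategory CartesianMonoidalCategory MonObj GrpObj AlgebraicGeometry
open TopologicalSpace

noncomputable section

namespace Groth.Agent.GITss

open AffQuot Limits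

variable {S : Scheme.{u}} {G X : Over S} [GrpObj G] {a : AlgGrp.Action G X}

/-- The inclusion of an open into a bigger one. -/
def res' {W W' : X.left.Opens} (h : W ≤ W') : opn W ⟶ opn W' :=
  Over.homMk (X.left.homOfLE h) (by
    show X.left.homOfLE h ≫ W'.ι ≫ X.hom = W.ι ≫ X.hom
    rw [Scheme.homOfLE_ι_assoc])

theorem res'_inc {W W' : X.left.Opens} (h : W ≤ W') : res' h ≫ inc W' = inc W :=
  Over.OverMorphism.ext (X.left.homOfLE_ι h)

@[simp] theorem res'_left {W W' : X.left.Opens} (h : W ≤ W') : (res' h).left = X.left.homOfLE h := rfl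

instance isOpenImmersion_res' {W W' : X.left.Opens} (h : W ≤ W') : IsOpenImmersion (res' h).left :=
  inferInstanceAs (IsOpenImmersion (X.left.homOfLE h))

theorem res'_apply {W W' : X.left.Opens} (h : W ≤ W') (w : (opn W).left) : W'.ι ((res' h).left w) = W.ι w :=
  congr($(X.left.homOfLE_ι h) w)

theorem resAct_res' {W W' : X.left.Opens} (hW : IsStableOpen a W) {b : AlgGrp.Action G (opn W')}
    (hb : b.act ≫ inc W' = (G ◁ inc W') ≫ a.act) (h : W ≤ W') :
    (resAct hW).act ≫ res' h = (G ◁ res' h) ≫ b.act := by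
  rw [← cancel_mono (inc W'), Category.assoc, res'_inc, resAct_inc, Category.assoc, hb,
    ← MonoidalCategory.whiskerLeft_comp_assoc, res'_inc]

theorem isPullback_whisker_snd {A A' B : Over S} {B' : Scheme.{u}} {j : A ⟶ A'} {q : A.left ⟶ B'} {φ : A'.left ⟶ B.left}
    {iB : B' ⟶ B.left} (sq : IsPullback j.left q φ iB) :
    IsPullback (G ◁ j).left ((snd G A).left ≫ q) ((snd G A').left ≫ φ) iB :=
  ((Blanchard.isPullback_whiskerLeft G j).map (Over.forget S)).flip.paste_vert sq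

/-- A family of stable affine opens closed under intersection, each open cutting smaller members out by
invariant functions. -/
structure QFamily (a : AlgGrp.Action G X) (p : X.left.Opens → Prop) : Prop where
  stable : ∀ W, p W → IsStableOpen a W
  affine : ∀ W, p W → IsAffineOpen W
  inf : ∀ W W', p W → p W' → p (W ⊓ W')
  cut : ∀ W W' (hW' : p W'), p W → W ≤ W' → ∃ r : Γ(X.left, W'), X.left.basicOpen r = W ∧
    (resAct (stable W' hW')).act.left.appTop (W'.topIso.inv r) = (snd G (opn W')).left.appTop (W'.topIso.inv r)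

/-- Affine schemes with an action have affine good quotients. -/
def HasAffineQuotients (G : Over S) [GrpObj G] : Prop :=
  ∀ (Z : Over S) (b : AlgGrp.Action G Z), IsAffine Z.left → ∃ (Q : Over S) (q : Z ⟶ Q),
    IsAffine Q.left ∧ GoodAct b q ∧ (LocallyOfFiniteType Z.hom → LocallyOfFiniteType Q.hom)

variable {p : X.left.Opens → Prop} (F : QFamily a p) (hQ : HasAffineQuotients G)

/-- The index category. -/
abbrev Idx (p : X.left.Opens → Prop) : Type u := {W : X.left.Opens // p W}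

/-- The quotient of a member. -/
def qObj (i : Idx p) : Over S :=
  (hQ (opn i.1) (resAct (F.stable _ i.2)) (F.affine _ i.2)).choose

/-- The quotient map of a member. -/
def qHom (i : Idx p) : opn i.1 ⟶ qObj F hQ i :=
  (hQ (opn i.1) (resAct (F.stable _ i.2)) (F.affine _ i.2)).choose_spec.choose

theorem qHom_spec (i : Idx p) : IsAffine (qObj F hQ i).left ∧ GoodAct (resAct (F.stable _ i.2)) (qHom F hQ i) ∧
    (LocallyOfFiniteType (opn i.1).hom → LocallyOfFiniteType (qObj F hQ i).hom) :=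
  (hQ (opn i.1) (resAct (F.stable _ i.2)) (F.affine _ i.2)).choose_spec.choose_spec

theorem inv_aux {i j : Idx p} (h : i.1 ≤ j.1) :
    (resAct (F.stable _ i.2)).act.left ≫ ((res' h).left ≫ (qHom F hQ j).left) =
      (snd G (opn i.1)).left ≫ ((res' h).left ≫ (qHom F hQ j).left) := by
  have e₁ := congr($(resAct_res' (F.stable _ i.2) (resAct_inc (F.stable _ j.2)) h).left)
  have e₂ := congr($(whiskerLeft_snd G (res' h)).left)
  simp only [Over.comp_left] at e₁ e₂
  rw [reassoc_of% e₁, (qHom_spec F hQ j).2.1.inv, reassoc_of% e₂]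

/-- The comparison of two quotients. -/
def qMap {i j : Idx p} (h : i.1 ≤ j.1) : (qObj F hQ i).left ⟶ (qObj F hQ j).left :=
  ((qHom_spec F hQ i).2.1.existsUnique_desc _ (inv_aux F hQ h)).choose

theorem qHom_qMap {i j : Idx p} (h : i.1 ≤ j.1) :
    (qHom F hQ i).left ≫ qMap F hQ h = (res' h).left ≫ (qHom F hQ j).left :=
  ((qHom_spec F hQ i).2.1.existsUnique_desc _ (inv_aux F hQ h)).choose_spec.1

/-- The comparison is an open immersion cutting out the smaller member. -/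
theorem qMap_spec {i j : Idx p} (h : i.1 ≤ j.1) :
    IsOpenImmersion (qMap F hQ h) ∧
      (qHom F hQ j).left ⁻¹' Set.range (qMap F hQ h) = Set.range (res' h).left := by
  obtain ⟨r, hr, hrinv⟩ := F.cut _ _ j.2 i.2 h
  obtain ⟨-, hgj, -⟩ := qHom_spec F hQ j
  obtain ⟨r', hr'⟩ := (appTop_of_good hgj).2.ge hrinv
  let D := (qObj F hQ j).left.basicOpen r'
  have hD : (qHom F hQ j).left ⁻¹ᵁ D = (res' h).left.opensRange := by
    show (qHom F hQ j).left ⁻¹ᵁ (qObj F hQ j).left.basicOpen r' = _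
    rw [Scheme.preimage_basicOpen, show (qHom F hQ j).left.app ⊤ r' = j.1.topIso.inv r from hr']
    show _ = (X.left.homOfLE h).opensRange
    refine Opens.ext ?_
    rw [Scheme.Hom.coe_opensRange]
    ext z
    have e2 : (j.1 : Scheme).basicOpen (j.1.topIso.inv r) = j.1.ι ⁻¹ᵁ X.left.basicOpen r := by
      have etop : j.1.topIso.inv = j.1.ι.appLE j.1 ⊤ (Scheme.Opens.ι_preimage_self _).ge := by
        rw [Scheme.Opens.topIso_inv, Scheme.Opens.ι_appLE]
        rfl
      rw [etop, Scheme.Hom.appLE, CommRingCat.comp_apply, Scheme.basicOpen_res, top_inf_eq, Scheme.preimage_basicOpen]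
    have hz : z ∈ (j.1 : Scheme).basicOpen (j.1.topIso.inv r) ↔ j.1.ι z ∈ X.left.basicOpen r :=
      SetLike.ext_iff.1 e2 z
    refine hz.trans ?_
    rw [hr]
    constructor
    · intro hzi
      refine ⟨(⟨j.1.ι z, hzi⟩ : (i.1 : Scheme)), j.1.ι.isOpenEmbedding.injective ?_⟩
      rw [← Scheme.Hom.comp_apply, X.left.homOfLE_ι h]
      rfl
    · rintro ⟨w, rfl⟩
      show ((X.left.homOfLE h) ≫ j.1.ι) w ∈ i.1
      rw [X.left.homOfLE_ι h]
      exact w.2
  have hDset : Set.range ((res' h).left ≫ (qHom F hQ j).left) ⊆ Set.range D.ι := by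
    rw [Scheme.Opens.range_ι]
    rintro _ ⟨w, rfl⟩
    exact (hD ▸ ⟨w, rfl⟩ : (res' h).left w ∈ (qHom F hQ j).left ⁻¹ᵁ D)
  let q'' := IsOpenImmersion.lift D.ι ((res' h).left ≫ (qHom F hQ j).left) hDset
  have hq'' : q'' ≫ D.ι = (res' h).left ≫ (qHom F hQ j).left := IsOpenImmersion.lift_fac _ _ _
  haveI : IsOpenImmersion (res' h).left := inferInstanceAs (IsOpenImmersion (X.left.homOfLE h))
  have sq : IsPullback (res' h).left q'' (qHom F hQ j).left D.ι :=
    (IsOpenImmersion.isPullback q'' (res' h).left D.ι (qHom F hQ j).left hq''.symm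
      (by rw [Scheme.Opens.opensRange_ι]; exact hD)).flip
  have e₁ := congr($(resAct_res' (F.stable _ i.2) (resAct_inc (F.stable _ j.2)) h).left)
  have e₂ := congr($((whiskerLeft_snd G (res' h)).symm).left)
  simp only [Over.comp_left] at e₁ e₂
  have hinv : (resAct (F.stable _ i.2)).act.left ≫ q'' = (snd G (opn i.1)).left ≫ q'' := by
    rw [← cancel_mono D.ι, Category.assoc, Category.assoc, hq'']
    exact inv_aux F hQ h
  have hg'' : Good q'' (resAct (F.stable _ i.2)).act.left (snd G (opn i.1)).left :=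
    hgj.of_isPullback sq (isPullback_whisker_snd sq) e₁ e₂ hinv
  obtain ⟨χ, hχ, -⟩ := (qHom_spec F hQ i).2.1.existsUnique_desc q'' hinv
  haveI : IsIso χ := isIso_of_good_comp (qHom_spec F hQ i).2.1 χ (by rw [hχ]; exact hg'')
  have hm : qMap F hQ h = χ ≫ D.ι :=
    (qHom_spec F hQ i).2.1.epi_hom (by rw [qHom_qMap, reassoc_of% hχ, hq''])
  refine ⟨hm ▸ inferInstance, ?_⟩
  rw [hm]
  have : Set.range (χ ≫ D.ι) = (D : Set (qObj F hQ j).left) := by
    refine Set.Subset.antisymm ?_ fun z hz => ?_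
    · rintro _ ⟨w, rfl⟩
      exact (χ w).2
    · obtain ⟨w, hw⟩ := χ.surjective (⟨z, hz⟩ : (D : Scheme))
      refine ⟨w, ?_⟩
      rw [Scheme.Hom.comp_apply, hw]
      rfl
  rw [this]
  exact congrArg (fun O : (opn j.1).left.Opens => (O : Set (opn j.1).left)) hD

/-- The diagram of quotients. -/
def qFun : Idx p ⥤ Scheme.{u} where
  obj i := (qObj F hQ i).left
  map h := qMap F hQ (leOfHom h)
  map_id i := (qHom_spec F hQ i).2.1.epi_hom (by
    rw [qHom_qMap, Category.comp_id]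
    rw [res'_left, X.left.homOfLE_rfl]
    exact Category.id_comp _)
  map_comp {i j l} f g := (qHom_spec F hQ i).2.1.epi_hom (by
    rw [qHom_qMap, reassoc_of% (qHom_qMap F hQ (leOfHom f)), qHom_qMap]
    rw [res'_left, res'_left, res'_left]
    exact (X.left.homOfLE_homOfLE_assoc _ _ _).symm)

instance isOpenImmersion_qFun {i j : Idx p} (f : i ⟶ j) : IsOpenImmersion ((qFun F hQ).map f) :=
  (qMap_spec F hQ (leOfHom f)).1

theorem qMap_inj {i j l : Idx p} (h : i.1 ≤ j.1) (h' : j.1 ≤ l.1) (z : (qObj F hQ i).left) :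
    qMap F hQ h' (qMap F hQ h z) = qMap F hQ (h.trans h') z := by
  rw [← Scheme.Hom.comp_apply]
  exact congr($((qHom_spec F hQ i).2.1.epi_hom (χ := qMap F hQ h ≫ qMap F hQ h') (χ' := qMap F hQ (h.trans h')) (by
    rw [reassoc_of% (qHom_qMap F hQ h), qHom_qMap, qHom_qMap]
    rw [res'_left, res'_left, res'_left]
    exact X.left.homOfLE_homOfLE_assoc _ _ _)) z)

instance isLocallyDirected_qFun : (qFun F hQ ⋙ Scheme.forget).IsLocallyDirected := by
  constructor
  intro i j l fi fj yi yj e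
  have hi := leOfHom fi
  have hj := leOfHom fj
  obtain ⟨w, rfl⟩ := (qHom_spec F hQ i).2.1.surjective yi
  change qMap F hQ hi ((qHom F hQ i).left w) = qMap F hQ hj yj at e
  have hz : (qHom F hQ l).left ((res' hi).left w) = qMap F hQ hj yj := by
    rw [← e, ← Scheme.Hom.comp_apply, ← qHom_qMap F hQ hi, Scheme.Hom.comp_apply]
  obtain ⟨w', hw'⟩ := (qMap_spec F hQ hj).2.subset (show (res' hi).left w ∈ _ from ⟨yj, hz.symm⟩)
  have hwi : i.1.ι w = j.1.ι w' := by
    rw [← res'_apply hi w, ← hw', res'_apply hj w']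
  let m : Idx p := ⟨i.1 ⊓ j.1, F.inf _ _ i.2 j.2⟩
  let v : (opn m.1).left := (⟨i.1.ι w, w.2, hwi ▸ w'.2⟩ : (m.1 : Scheme))
  have hv : (res' (inf_le_left : m.1 ≤ i.1)).left v = w := i.1.ι.isOpenEmbedding.injective (res'_apply _ v)
  have hmi : qMap F hQ (inf_le_left : m.1 ≤ i.1) ((qHom F hQ m).left v) = (qHom F hQ i).left w := by
    rw [← Scheme.Hom.comp_apply, qHom_qMap, Scheme.Hom.comp_apply, hv]
  refine ⟨m, homOfLE (inf_le_left : m.1 ≤ i.1), homOfLE (inf_le_right : m.1 ≤ j.1), (qHom F hQ m).left v, hmi, ?_⟩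
  haveI := (qMap_spec F hQ hj).1
  apply (qMap F hQ hj).isOpenEmbedding.injective
  show qMap F hQ hj (qMap F hQ (inf_le_right : m.1 ≤ j.1) ((qHom F hQ m).left v)) = _
  rw [← e, ← hmi, qMap_inj, qMap_inj]

include F hQ in
/-- The glued quotient. -/
theorem exists_goodAct {U : X.left.Opens} (hU : ∀ x, x ∈ U ↔ ∃ W, p W ∧ x ∈ W)
    (aU : AlgGrp.Action G (opn U)) (haU : aU.act ≫ inc U = (G ◁ inc U) ≫ a.act) :
    ∃ (Y : Over S) (φ : opn U ⟶ Y), GoodAct aU φ ∧ IsAffineHom φ.left ∧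
      (LocallyOfFiniteType X.hom → LocallyOfFiniteType Y.hom) ∧
      ∀ W, p W → ∃ V : Y.left.Opens, IsAffineOpen V ∧ φ.left ⁻¹ᵁ V = U.ι ⁻¹ᵁ W := by
  have hle : ∀ i : Idx p, i.1 ≤ U := fun i x hx => (hU x).2 ⟨_, i.2, hx⟩
  let Y₀ := colimit (qFun F hQ)
  let jQ : ∀ i, (qObj F hQ i).left ⟶ Y₀ := fun i => colimit.ι (qFun F hQ) i
  have hι : ∀ {i j : Idx p} (h : i.1 ≤ j.1), qMap F hQ h ≫ jQ j = jQ i := fun {i j} h =>
    colimit.w (qFun F hQ) (homOfLE h : i ⟶ j)
  let c : Cocone (qFun F hQ) := ⟨S, { app := fun i => (qObj F hQ i).hom, naturality := fun i j f => (by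
    show qMap F hQ (leOfHom f) ≫ (qObj F hQ j).hom = (qObj F hQ i).hom ≫ 𝟙 S
    rw [Category.comp_id]
    refine (qHom_spec F hQ i).2.1.epi_hom ?_
    rw [reassoc_of% (qHom_qMap F hQ (leOfHom f)), Over.w (qHom F hQ j), Over.w (qHom F hQ i)]
    exact Over.w (res' (leOfHom f))) }⟩
  let Y : Over S := Over.mk (colimit.desc (qFun F hQ) c)
  have hιY : ∀ i, jQ i ≫ Y.hom = (qObj F hQ i).hom := fun i => colimit.ι_desc c i
  let 𝒰 : (U : Scheme.{u}).OpenCover :=
    { I₀ := Idx p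
      X := fun i => (i.1 : Scheme)
      f := fun i => X.left.homOfLE (hle i)
      mem₀ := by
        rw [Scheme.presieve₀_mem_precoverage_iff]
        refine ⟨fun x => ?_, fun _ => inferInstance⟩
        obtain ⟨W, hW, hxW⟩ := (hU x.1).1 x.2
        exact ⟨⟨W, hW⟩, ⟨x.1, hxW⟩, U.ι.isOpenEmbedding.injective (by
          rw [← Scheme.Hom.comp_apply]
          exact congr($(X.left.homOfLE_ι (hle ⟨W, hW⟩)) ⟨x.1, hxW⟩))⟩ }
  let f₀ : ∀ i : Idx p, (i.1 : Scheme) ⟶ Y₀ := fun i => (qHom F hQ i).left ≫ jQ i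
  have hf₀ : ∀ i j : Idx p, Limits.pullback.fst (𝒰.f i) (𝒰.f j) ≫ f₀ i =
      Limits.pullback.snd (𝒰.f i) (𝒰.f j) ≫ f₀ j := by
    intro i j
    let m : Idx p := ⟨i.1 ⊓ j.1, F.inf _ _ i.2 j.2⟩
    let P₁ := Limits.pullback.fst (𝒰.f i) (𝒰.f j)
    let P₂ := Limits.pullback.snd (𝒰.f i) (𝒰.f j)
    have hP : P₁ ≫ i.1.ι = P₂ ≫ j.1.ι := by
      rw [← X.left.homOfLE_ι (hle i), ← X.left.homOfLE_ι (hle j)]
      exact (reassoc_of% (Limits.pullback.condition (f := 𝒰.f i) (g := 𝒰.f j))) _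
    let k := IsOpenImmersion.lift m.1.ι (P₁ ≫ i.1.ι) (by
      rw [Scheme.Opens.range_ι]
      rintro _ ⟨z, rfl⟩
      refine ⟨(P₁ z).2, ?_⟩
      rw [hP]
      exact (P₂ z).2)
    have hk : k ≫ m.1.ι = P₁ ≫ i.1.ι := IsOpenImmersion.lift_fac _ _ _
    have h₁ : k ≫ X.left.homOfLE (inf_le_left : m.1 ≤ i.1) = P₁ := by
      rw [← cancel_mono i.1.ι, Category.assoc, Scheme.homOfLE_ι, hk]
    have h₂ : k ≫ X.left.homOfLE (inf_le_right : m.1 ≤ j.1) = P₂ := by
      rw [← cancel_mono j.1.ι, Category.assoc, Scheme.homOfLE_ι, hk, hP]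
    have q₁ : X.left.homOfLE (inf_le_left : m.1 ≤ i.1) ≫ (qHom F hQ i).left ≫ jQ i = (qHom F hQ m).left ≫ jQ m := by
      rw [← hι (i := m) (j := i) inf_le_left, reassoc_of% (qHom_qMap F hQ (inf_le_left : m.1 ≤ i.1))]
      rfl
    have q₂ : X.left.homOfLE (inf_le_right : m.1 ≤ j.1) ≫ (qHom F hQ j).left ≫ jQ j = (qHom F hQ m).left ≫ jQ m := by
      rw [← hι (i := m) (j := j) inf_le_right, reassoc_of% (qHom_qMap F hQ (inf_le_right : m.1 ≤ j.1))]
      rfl
    show P₁ ≫ _ = P₂ ≫ _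
    rw [← h₁, ← h₂, Category.assoc, Category.assoc, q₁, q₂]
  let φ₀ := 𝒰.glueMorphisms f₀ hf₀
  have hφ₀ : ∀ i, X.left.homOfLE (hle i) ≫ φ₀ = f₀ i := fun i => 𝒰.ι_glueMorphisms f₀ hf₀ i
  have hw : φ₀ ≫ Y.hom = U.ι ≫ X.hom := by
    refine 𝒰.hom_ext _ _ fun i => ?_
    show X.left.homOfLE (hle i) ≫ φ₀ ≫ _ = X.left.homOfLE (hle i) ≫ _
    rw [reassoc_of% (hφ₀ i), Scheme.homOfLE_ι_assoc, Category.assoc, hιY]
    exact Over.w (qHom F hQ i)
  let φ : opn U ⟶ Y := Over.homMk φ₀ hw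
  have hpre : ∀ i : Idx p, φ₀ ⁻¹ᵁ (jQ i).opensRange = (X.left.homOfLE (hle i)).opensRange := by
    intro i
    refine Opens.ext (Set.ext fun x => ⟨fun hx => ?_, ?_⟩)
    · obtain ⟨z, hz⟩ := hx
      obtain ⟨W, hW, hxW⟩ := (hU x.1).1 x.2
      let j : Idx p := ⟨W, hW⟩
      have hx' : x = X.left.homOfLE (hle j) ⟨x.1, hxW⟩ := U.ι.isOpenEmbedding.injective (by
        rw [← Scheme.Hom.comp_apply, X.left.homOfLE_ι (hle j)]
        rfl)
      have e : jQ j ((qHom F hQ j).left (⟨x.1, hxW⟩ : (j.1 : Scheme))) = jQ i z := by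
        refine (Eq.trans ?_ hz.symm)
        refine Eq.trans ?_ (congrArg φ₀ hx').symm
        rw [← Scheme.Hom.comp_apply, ← Scheme.Hom.comp_apply, hφ₀]
        rfl
      obtain ⟨m, fmj, fmi, t, ht₁, -⟩ := (Scheme.IsLocallyDirected.ι_eq_ι_iff (F := qFun F hQ)).1 e
      have hmem : (⟨x.1, hxW⟩ : (j.1 : Scheme)) ∈ Set.range (res' (leOfHom fmj)).left :=
        (qMap_spec F hQ (leOfHom fmj)).2.subset ⟨t, ht₁⟩
      obtain ⟨v, hv⟩ := hmem
      refine ⟨(res' (leOfHom fmi)).left v, U.ι.isOpenEmbedding.injective ?_⟩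
      have := congrArg j.1.ι hv
      rw [res'_apply] at this
      show U.ι (X.left.homOfLE (hle i) (X.left.homOfLE (leOfHom fmi) v)) = U.ι x
      simp only [← Scheme.Hom.comp_apply, Category.assoc, X.left.homOfLE_ι]
      exact this
    · rintro ⟨v, rfl⟩
      refine ⟨(qHom F hQ i).left v, ?_⟩
      rw [← Scheme.Hom.comp_apply, ← Scheme.Hom.comp_apply, hφ₀]
      rfl
  have sq : ∀ i : Idx p, IsPullback (res' (hle i)).left (qHom F hQ i).left φ.left (jQ i) := fun i =>
    haveI : IsOpenImmersion (res' (hle i)).left := inferInstanceAs (IsOpenImmersion (X.left.homOfLE (hle i)))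
    (IsOpenImmersion.isPullback (qHom F hQ i).left (res' (hle i)).left (jQ i) φ.left (hφ₀ i) (hpre i)).flip
  have hcov : ∀ y : Y.left, ∃ i, y ∈ (jQ i).opensRange := fun y => by
    obtain ⟨i, z, hz⟩ := Scheme.IsLocallyDirected.ι_jointly_surjective (qFun F hQ) y
    exact ⟨i, z, hz⟩
  have haff : ∀ i : Idx p, IsAffineOpen (jQ i).opensRange ∧ IsAffineOpen (φ.left ⁻¹ᵁ (jQ i).opensRange) := fun i => by
    haveI := (qHom_spec F hQ i).1
    haveI : IsAffine (i.1 : Scheme) := F.affine _ i.2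
    exact ⟨isAffineOpen_opensRange (jQ i), hpre i ▸ isAffineOpen_opensRange (X.left.homOfLE (hle i))⟩
  haveI hφaff : IsAffineHom φ.left :=
    isAffineHom_of_forall_exists_isAffineOpen φ.left fun y => by
      obtain ⟨i, hi⟩ := hcov y
      exact ⟨_, hi, (haff i).1, (haff i).2⟩
  have hinv : GIT.IsInvariant aU φ := by
    refine Over.OverMorphism.ext ?_
    let 𝒱 : (G ⊗ opn U).left.OpenCover := 𝒰.pullback₁ (snd G (opn U)).left
    refine 𝒱.hom_ext _ _ fun i => ?_
    have hsq := (Blanchard.isPullback_whiskerLeft G (res' (hle i))).map (Over.forget S)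
    have key : (G ◁ res' (hle i)).left ≫ (aU.act ≫ φ).left = (G ◁ res' (hle i)).left ≫ (snd G (opn U) ≫ φ).left := by
      have e₁ := congr($(resAct_res' (F.stable _ i.2) haU (hle i)).left)
      have e₂ := congr($(whiskerLeft_snd G (res' (hle i))).left)
      simp only [Over.comp_left] at e₁ e₂ ⊢
      rw [← reassoc_of% e₁, reassoc_of% e₂, (sq i).w, ← Category.assoc, (qHom_spec F hQ i).2.1.inv, Category.assoc]
    have hfst : 𝒱.f i = ((IsPullback.of_hasPullback (snd G (opn U)).left (res' (hle i)).left).isoIsPullback _ _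
        hsq.flip).hom ≫ (G ◁ res' (hle i)).left :=
      ((IsPullback.of_hasPullback (snd G (opn U)).left (res' (hle i)).left).isoIsPullback_hom_fst _ _ hsq.flip).symm
    rw [hfst, Category.assoc, Category.assoc, key]
  refine ⟨Y, φ, goodAct_of_locally hinv (fun Z b hZ => ?_) (fun y => ?_), hφaff, fun hX => ?_, fun W hW => ?_⟩
  · obtain ⟨Q, q, -, hq, -⟩ := hQ Z b hZ
    exact ⟨Q, q, hq⟩
  · obtain ⟨i, hi⟩ := hcov y
    refine ⟨_, hi, fun C j hj => ?_⟩
    let j' := IsOpenImmersion.lift (jQ i) j hj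
    have hj' : j' ≫ jQ i = j := IsOpenImmersion.lift_fac _ _ _
    obtain ⟨c⟩ := (qHom_spec F hQ i).2.1.chart C j'
    have e₁ := congr($(resAct_res' (F.stable _ i.2) haU (hle i)).left)
    have e₂ := congr($(whiskerLeft_snd G (res' (hle i))).left)
    simp only [Over.comp_left] at e₁ e₂
    refine ⟨{ R := c.R, T' := c.T', D := c.D, j := c.j ≫ (res' (hle i)).left, hj := ?_,
              l := c.l ≫ (G ◁ res' (hle i)).left, hl := ?_, hσ := ?_, hπ := ?_ }⟩
    · rw [← hj']
      exact c.hj.paste_horiz (sq i)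
    · rw [← hj']
      exact c.hl.paste_horiz (isPullback_whisker_snd (sq i))
    · rw [reassoc_of% c.hσ, Category.assoc, e₁]
    · rw [reassoc_of% c.hπ, Category.assoc, e₂]
  · refine (IsZariskiLocalAtSource.iff_of_openCover (P := @LocallyOfFiniteType)
      (Scheme.IsLocallyDirected.openCover (qFun F hQ))).2 fun i => ?_
    show LocallyOfFiniteType (jQ i ≫ Y.hom)
    rw [hιY]
    haveI := hX
    exact (qHom_spec F hQ i).2.2 (inferInstanceAs (LocallyOfFiniteType ((Subtype.val i).ι ≫ X.hom)))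
  · refine ⟨(jQ ⟨W, hW⟩).opensRange, (haff ⟨W, hW⟩).1, ?_⟩
    show φ₀ ⁻¹ᵁ _ = _
    rw [hpre ⟨W, hW⟩, Scheme.opensRange_homOfLE]

end Groth.Agent.GITss
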