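import Groth.Agent.S2451

/-!
# MacLane's criterion for the field of invariants
-/

set_option autoImplicit false
set_option linter.style.haveILetI false
set_option linter.unusedSimpArgs false

universe u

open scoped TensorProduct

namespace Groth.Agent.GITss.MacLane

/-- Elements independent over `L^p` stay independent over `M^p` for a separable extension `M/L`. -/
theorem eq_zero_of_sum_pow {L M : Type u} [Field L] [Field M] [Algebra L M] [Algebra.IsGeometricallyReduced L M]
    {p : ℕ} [ExpChar L p] {n : ℕ} (b : Fin n → L) (hb : ∀ l : Fin n → L, ∑ i, l i ^ p * b i = 0 → l = 0)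
    (e : Fin n → M) (he : ∑ i, e i ^ p * algebraMap L M (b i) = 0) : e = 0 := by
  classical
  let A := AlgebraicClosure L
  haveI : IsReduced (A ⊗[L] M) := (Algebra.isGeometricallyReduced_field_iff L M).1 inferInstance
  haveI : Nontrivial (A ⊗[L] M) :=
    (Algebra.TensorProduct.includeRight_injective (A := A) (B := M) (algebraMap L A).injective).nontrivial
  haveI : ExpChar (A ⊗[L] M) p := expChar_of_injective_algebraMap (algebraMap L (A ⊗[L] M)).injective p
  haveI : ExpChar A p := expChar_of_injective_algebraMap (algebraMap L A).injective p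
  choose c hc using fun i => IsAlgClosed.exists_pow_nat_eq (algebraMap L A (b i)) (expChar_pos L p)
  have hci : LinearIndependent L c := Fintype.linearIndependent_iff.2 fun g hg i => by
    have h1 := congrArg (· ^ p) hg
    replace h1 : (∑ i, g i • c i) ^ p = 0 := h1.trans (zero_pow (expChar_pos L p).ne')
    rw [sum_pow_char] at h1
    simp only [Algebra.smul_def, mul_pow, hc, ← map_pow, ← map_mul, ← map_sum] at h1
    exact congrFun (hb g ((map_eq_zero_iff _ (algebraMap L A).injective).1 h1)) i
  have h0 : ∑ i, c i ⊗ₜ[L] e i = 0 := by
    refine IsReduced.eq_zero _ ⟨p, ?_⟩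
    rw [sum_pow_char]
    simp only [Algebra.TensorProduct.tmul_pow, hc, Algebra.algebraMap_eq_smul_one, TensorProduct.smul_tmul,
      ← TensorProduct.tmul_sum]
    rw [show (∑ i, b i • e i ^ p) = 0 by rw [← he]; exact Finset.sum_congr rfl fun i _ => by rw [Algebra.smul_def, mul_comm],
      TensorProduct.tmul_zero]
  obtain ⟨g, hg⟩ := LinearMap.exists_leftInverse_of_injective (Finsupp.linearCombination L c) (LinearMap.ker_eq_bot.2 hci)
  funext j
  let ψ : A →ₗ[L] L := (Finsupp.lapply j).comp g
  have hψ : ∀ i, ψ (c i) = if i = j then 1 else 0 := fun i => by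
    have := LinearMap.congr_fun hg (Finsupp.single i 1)
    simp only [LinearMap.comp_apply, Finsupp.linearCombination_single, one_smul, LinearMap.id_apply] at this
    simp [ψ, this, Finsupp.single_apply]
  have h1 := congrArg (fun t => TensorProduct.lid L M (ψ.rTensor M t)) h0
  simpa [map_sum, hψ] using h1

variable {F L : Type u} [Field F] [Field L] [Algebra F L] (p : ℕ) [Fact p.Prime] [CharP F p]
  {ι : Type u} (M : ι → Type u) [∀ i, Field (M i)] (s t : ∀ i, L →+* M i)
  (hF : ∀ i, (s i).comp (algebraMap F L) = (t i).comp (algebraMap F L))
  (hM : ∀ i, letI := (t i).toAlgebra; Algebra.IsGeometricallyReduced L (M i))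
  (hinv : ∀ r : L, (∀ i, s i r = t i r) → r ∈ Set.range (algebraMap F L))

include hF hM hinv in
/-- Elements of the base independent over its `p`-th powers are independent over those of `L`. -/
theorem indep_pow : ∀ (n : ℕ) (b : Fin n → F), (∀ c : Fin n → F, ∑ i, c i ^ p * b i = 0 → c = 0) →
    ∀ a : Fin n → L, ∑ i, a i ^ p * algebraMap F L (b i) = 0 → a = 0 := by
  intro n
  induction n with
  | zero => intro b _ a _; exact funext fun i => i.elim0
  | succ n ih =>
    intro b hb a ha
    by_contra hne
    obtain ⟨j, hj⟩ : ∃ j, a j ≠ 0 := by
      by_contra! h; exact hne (funext h)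
    have hp := (Fact.out : p.Prime)
    haveI : ExpChar F p := .prime hp
    haveI : ExpChar L p := expChar_of_injective_algebraMap (algebraMap F L).injective p
    let a' : Fin (n + 1) → L := fun i => a i / a j
    have ha' : ∑ i, a' i ^ p * algebraMap F L (b i) = 0 := by
      have : ∑ i, a' i ^ p * algebraMap F L (b i) = (∑ i, a i ^ p * algebraMap F L (b i)) / a j ^ p := by
        rw [Finset.sum_div]; exact Finset.sum_congr rfl fun i _ => by simp only [a', div_pow]; ring
      rw [this, ha, zero_div]
    have hrange : ∀ i, a' i ∈ Set.range (algebraMap F L) := fun i => hinv _ fun m => by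
      letI := (t m).toAlgebra
      haveI := hM m
      haveI : ExpChar (M m) p := expChar_of_injective_algebraMap (algebraMap L (M m)).injective p
      let e : Fin (n + 1) → M m := fun i => s m (a' i) - t m (a' i)
      have hej : e j = 0 := by
        show s m (a j / a j) - t m (a j / a j) = 0
        rw [div_self hj, map_one, map_one, sub_self]
      have hs := congrArg (s m) ha'
      have ht := congrArg (t m) ha'
      simp only [map_sum, map_mul, map_pow, map_zero] at hs ht
      have hsum : ∑ i, e i ^ p * algebraMap L (M m) (algebraMap F L (b i)) = 0 := by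
        have hb' : ∀ i, s m (algebraMap F L (b i)) = t m (algebraMap F L (b i)) := fun i =>
          RingHom.congr_fun (hF m) (b i)
        simp only [hb'] at hs
        simp only [e, sub_pow_expChar, sub_mul, Finset.sum_sub_distrib, RingHom.algebraMap_toAlgebra, hs, ht, sub_zero]
      rw [Fin.sum_univ_succAbove _ j, hej, zero_pow hp.ne_zero, zero_mul, zero_add] at hsum
      have h0 := eq_zero_of_sum_pow (fun i => algebraMap F L (b (j.succAbove i)))
        (fun l hl => ih (fun i => b (j.succAbove i)) (fun c hc => by
          have := hb (Fin.insertNth j 0 c) (by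
            rw [Fin.sum_univ_succAbove _ j]; simp [zero_pow hp.ne_zero, hc])
          exact funext fun i => by simpa using congrFun this (j.succAbove i)) l hl) _ hsum
      obtain rfl | ⟨k, rfl⟩ := Fin.eq_self_or_eq_succAbove j i
      · exact sub_eq_zero.1 hej
      · exact sub_eq_zero.1 (congrFun h0 k)
    choose c hc using hrange
    have hc0 : ∑ i, c i ^ p * b i = 0 := by
      apply (algebraMap F L).injective
      simp [hc, ha']
    have h1 := hc j
    rw [congrFun (hb c hc0) j, Pi.zero_apply, map_zero] at h1
    simp [a', div_self hj] at h1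

include hF hM hinv in
/-- The `p`-th powers of independent elements are independent. -/
theorem linearIndepOn_pow (S : Finset L) (hS : LinearIndepOn F _root_.id (S : Set L)) :
    LinearIndepOn F (· ^ p) (S : Set L) := by
  classical
  haveI : ExpChar F p := .prime Fact.out
  haveI : ExpChar L p := expChar_of_injective_algebraMap (algebraMap F L).injective p
  rw [linearIndepOn_finset_iff] at hS ⊢
  intro f hf i hi
  let Fp := (frobenius F p).fieldRange
  let B := Module.Basis.ofVectorSpace Fp F
  let J := (S.biUnion fun j => (B.repr (f j)).support)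
  choose r hr using fun (j : L) (k : Module.Basis.ofVectorSpaceIndex Fp F) => (B.repr (f j) k).2
  have hexp : ∀ j ∈ S, f j = ∑ k ∈ J, r j k ^ p * B k := fun j hj => by
    conv_lhs => rw [← B.linearCombination_repr (f j)]
    rw [Finsupp.linearCombination_apply, Finsupp.sum_of_support_subset _ (Finset.subset_biUnion_of_mem (fun j => (B.repr (f j)).support) hj) _ (by simp)]
    refine Finset.sum_congr rfl fun k _ => ?_
    rw [Subfield.smul_def, smul_eq_mul, ← hr j k, frobenius_def]
  let ek := J.equivFin
  have key := indep_pow p M s t hF hM hinv J.card (fun m => B (ek.symm m)) (fun c hc => by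
    have hli : LinearIndependent Fp fun m => B (ek.symm m) :=
      B.linearIndependent.comp _ (Subtype.val_injective.comp ek.symm.injective)
    funext m
    have h := Fintype.linearIndependent_iff.1 hli (fun m => ⟨c m ^ p, c m, rfl⟩) (by
      simpa [Subfield.smul_def] using hc) m
    exact eq_zero_of_pow_eq_zero (congrArg Subtype.val h)) (fun m => ∑ j ∈ S, r j (ek.symm m) • j) (by
    simp only [sum_pow_char, Algebra.smul_def, mul_pow, Finset.sum_mul]
    rw [Finset.sum_comm, ← hf]
    refine Finset.sum_congr rfl fun j hj => ?_
    rw [hexp j hj, Algebra.smul_def, map_sum, Finset.sum_mul,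
      Equiv.sum_comp ek.symm (fun k : J => algebraMap F L (r j k) ^ p * j ^ p * algebraMap F L (B k)),
      ← Finset.sum_coe_sort J]
    refine Finset.sum_congr rfl fun k _ => ?_
    simp only [map_mul, map_pow]; ring)
  rw [hexp i hi]
  refine Finset.sum_eq_zero fun k hk => ?_
  have h := hS (fun j => r j k) (by simpa using congrFun key (ek ⟨k, hk⟩)) i hi
  rw [show r i k = 0 from h, zero_pow (Fact.out : p.Prime).ne_zero, zero_mul]

end Groth.Agent.GITss.MacLane

namespace Groth.Agent.GITss.MacLane

/-- A finitely generated extension whose invariant field is the base is separable over it, provided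
each of the pairs of embeddings has its second member separable. -/
theorem formallySmooth_of_invariants {F L : Type u} [Field F] [Field L] [Algebra F L] [Algebra.EssFiniteType F L]
    {ι : Type u} (M : ι → Type u) [∀ i, Field (M i)] (s t : ∀ i, L →+* M i)
    (hF : ∀ i, (s i).comp (algebraMap F L) = (t i).comp (algebraMap F L))
    (hM : ∀ i, letI := (t i).toAlgebra; Algebra.IsGeometricallyReduced L (M i))
    (hinv : ∀ r : L, (∀ i, s i r = t i r) → r ∈ Set.range (algebraMap F L)) :
    Algebra.FormallySmooth F L := by
  obtain ⟨p, hp⟩ := CharP.exists F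
  rcases eq_or_ne p 0 with rfl | hp0
  · haveI : CharZero F := CharP.charP_to_charZero _
    exact Algebra.FormallySmooth.of_perfectField
  have hp' := (CharP.char_is_prime_or_zero F p).resolve_right hp0
  haveI : Fact p.Prime := ⟨hp'⟩
  haveI : ExpChar F p := .prime hp'
  haveI : ExpChar L p := expChar_of_injective_algebraMap (algebraMap F L).injective p
  obtain ⟨b, hb, hsep⟩ := exists_isTranscendenceBasis_and_isSeparable_of_linearIndepOn_pow_of_essFiniteType
    p hp' (k := F) (K := L) (fun S hS => linearIndepOn_pow p M s t hF hM hinv S hS)
  have : Algebra.IsSeparable (IntermediateField.adjoin F (Set.range ((↑) : b → L))) L := by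
    convert hsep <;> simp
  exact Algebra.FormallySmooth.of_algebraicIndependent_of_isSeparable hb.1

end Groth.Agent.GITss.MacLane
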