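import Groth.Prelude.Def_W4bk4git07Quot
import Groth.Agent.GITss.MacLane
import Groth.Agent.GrpAct.Shear
import Groth.Agent.FlatBlowUp.Generic
import Groth.Agent.S8049

/-!
# The function field of a geometric quotient is the field of invariants, with separable extension
-/

set_option autoImplicit false
set_option backward.isDefEq.respectTransparency false
set_option linter.style.haveILetI false

universe u

open CategoryTheory CategoryTheory.Limits MonoidalCategory CartesianMonoidalCategory MonObj AlgebraicGeometry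
open TopologicalSpace

noncomputable section

namespace Groth.Agent.GITss.InvFld

section Gen

variable {Z X : Scheme.{u}} (f : Z ⟶ X) (t : Z) {ξ : X} (h : f t = ξ)

/-- The map on stalks at a point over a given point. -/
def genHom : X.presheaf.stalk ξ →+* Z.presheaf.stalk t :=
  (X.presheaf.stalkSpecializes (show f t ⤳ ξ from h ▸ specializes_rfl) ≫ f.stalkMap t).hom

theorem genHom_germ (U : X.Opens) (hU : ξ ∈ U) (hU' : f t ∈ U) (s : Γ(X, U)) :
    genHom f t h (X.presheaf.germ U ξ hU s) = Z.presheaf.germ (f ⁻¹ᵁ U) t hU' (f.app U s) := by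
  subst h
  simp [genHom, TopCat.Presheaf.stalkSpecializes_refl, Scheme.Hom.germ_stalkMap_apply]

theorem genHom_appLE (U : X.Opens) (hU : ξ ∈ U) (W : Z.Opens) (hW : W ≤ f ⁻¹ᵁ U) (ht : t ∈ W) (s : Γ(X, U)) :
    Z.presheaf.germ W t ht (f.appLE U W hW s) = genHom f t h (X.presheaf.germ U ξ hU s) := by
  rw [genHom_germ f t h U hU (hW ht)]
  exact Z.presheaf.germ_res_apply (homOfLE hW) t ht _

theorem genHom_formallySmooth [Smooth f] : (genHom f t h).FormallySmooth := by
  subst h
  simp only [genHom, TopCat.Presheaf.stalkSpecializes_refl, Category.id_comp]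
  have : t ∈ f.smoothLocus := by rw [Scheme.Hom.smoothLocus_eq_top_iff.2 ‹_›]; trivial
  exact Scheme.Hom.mem_smoothLocus.1 this

end Gen

/-- Two sections of a reduced scheme agreeing at all maximal points agree. -/
theorem eq_of_germ_max {Z : Scheme.{u}} [IsReduced Z] {W : Z.Opens} {p q : Γ(Z, W)}
    (H : ∀ (m : Z) (hm : m ∈ W), (∀ z, z ⤳ m → z = m) → Z.presheaf.germ W m hm p = Z.presheaf.germ W m hm q) :
    p = q := by
  rw [← sub_eq_zero, ← basicOpen_eq_bot_iff (p - q), eq_bot_iff]
  intro w hw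
  obtain ⟨m, hm, hmw⟩ := FlatBlowUp.exists_maximal_specializes Z w
  have hmW : m ∈ Z.basicOpen (p - q) := hmw.mem_open (Z.basicOpen (p - q)).2 hw
  have hmW' : m ∈ W := Z.basicOpen_le _ hmW
  rw [Scheme.mem_basicOpen Z _ m hmW', map_sub, H m hmW' hm, sub_self, isUnit_zero_iff] at hmW
  exact (zero_ne_one hmW).elim

variable {S : Scheme.{u}} {G X Y : Over S} [GrpObj G] [Smooth G.hom] [IsIntegral X.left]
  (a : AlgGrp.Action G X) {π : X ⟶ Y} (hπ : GIT.IsGeomQuot a π)

theorem smooth_snd : Smooth (snd G X).left :=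
  inferInstanceAs (Smooth (pullback.snd G.hom X.hom))

include a in
theorem smooth_act : Smooth a.act.left := GrpAct.act_property a @Smooth ‹_›

theorem isReduced_prod : IsReduced (G ⊗ X).left :=
  haveI := smooth_snd (G := G) (X := X)
  S8049.isReduced_of_smooth (snd G X).left

/-- The maximal points of `G × X`. -/
abbrev MaxPts (G X : Over S) : Type u := {t : (G ⊗ X).left // ∀ z, z ⤳ t → z = t}

omit [GrpObj G] [Smooth G.hom] in
theorem map_max (f : (G ⊗ X).left ⟶ X.left) [Flat f] (t : MaxPts G X) :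
    f t.1 = genericPoint X.left := by
  obtain ⟨w, hw, hwξ⟩ := Flat.generalizingMap f ((genericPoint_spec X.left).specializes (Set.mem_univ (f t.1)))
  rwa [t.2 w hw] at hwξ

theorem act_max (t : MaxPts G X) : a.act.left t.1 = genericPoint X.left :=
  haveI := smooth_act a
  map_max a.act.left t

theorem snd_max (t : MaxPts G X) : (snd G X).left t.1 = genericPoint X.left :=
  haveI := smooth_snd (G := G) (X := X)
  map_max (snd G X).left t

/-- `r` is an invariant rational function. -/
def IsInvRat (r : X.left.presheaf.stalk (genericPoint X.left)) : Prop :=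
  ∀ t : MaxPts G X, genHom a.act.left t.1 (act_max a t) r = genHom (snd G X).left t.1 (snd_max t) r

/-- The domain of definition of a rational function. -/
def dom (r : X.left.presheaf.stalk (genericPoint X.left)) : Set X.left :=
  {x | ∃ (U : X.left.Opens) (_ : x ∈ U) (h : genericPoint X.left ∈ U) (s : Γ(X.left, U)),
    X.left.presheaf.germ U _ h s = r}

omit [GrpObj G] [Smooth G.hom] in
theorem isOpen_dom (r : X.left.presheaf.stalk (genericPoint X.left)) : IsOpen (dom r) :=
  isOpen_iff_forall_mem_open.2 fun _ ⟨U, hxU, h, s, hs⟩ =>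
    ⟨U, fun _ hy => ⟨U, hy, h, s, hs⟩, U.2, hxU⟩

omit [GrpObj G] [Smooth G.hom] in
theorem mem_of_nonempty {U : X.left.Opens} {x : X.left} (hx : x ∈ U) : genericPoint X.left ∈ U :=
  ((genericPoint_spec X.left).specializes (Set.mem_univ x)).mem_open U.2 hx

include a in
theorem act_mem_dom {r : X.left.presheaf.stalk (genericPoint X.left)} (hr : IsInvRat a r) {t : (G ⊗ X).left}
    (ht : (snd G X).left t ∈ dom r) : a.act.left t ∈ dom r := by
  haveI := smooth_act a
  haveI := isReduced_prod (G := G) (X := X)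
  obtain ⟨U, hxU, hξU, Q, hQ⟩ := ht
  let x' := a.act.left t
  have hsp : genericPoint X.left ⤳ x' := (genericPoint_spec X.left).specializes (Set.mem_univ x')
  letI : Algebra (X.left.presheaf.stalk x') (X.left.presheaf.stalk (genericPoint X.left)) :=
    (X.left.presheaf.stalkSpecializes hsp).hom.toAlgebra
  haveI : IsFractionRing (X.left.presheaf.stalk x') (X.left.presheaf.stalk (genericPoint X.left)) :=
    inferInstanceAs (IsFractionRing (X.left.presheaf.stalk x') X.left.functionField)
  obtain ⟨⟨c, d, hd⟩, hcd⟩ := IsLocalization.surj (nonZeroDivisors (X.left.presheaf.stalk x')) r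
  obtain ⟨U₁, hU₁, C, hC⟩ := X.left.presheaf.germ_exist c
  obtain ⟨U₂, hU₂, D, hD⟩ := X.left.presheaf.germ_exist d
  have e₁ : algebraMap (X.left.presheaf.stalk x') (X.left.presheaf.stalk (genericPoint X.left)) c =
      X.left.presheaf.germ U₁ _ (mem_of_nonempty hU₁) C := by
    rw [← hC]; exact X.left.presheaf.germ_stalkSpecializes_apply hU₁ hsp C
  have e₂ : algebraMap (X.left.presheaf.stalk x') (X.left.presheaf.stalk (genericPoint X.left)) d =
      X.left.presheaf.germ U₂ _ (mem_of_nonempty hU₂) D := by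
    rw [← hD]; exact X.left.presheaf.germ_stalkSpecializes_apply hU₂ hsp D
  rw [e₁, e₂] at hcd
  let W : (G ⊗ X).left.Opens := a.act.left ⁻¹ᵁ U₁ ⊓ a.act.left ⁻¹ᵁ U₂ ⊓ (snd G X).left ⁻¹ᵁ U
  have h₁ : W ≤ a.act.left ⁻¹ᵁ U₁ := fun _ h => h.1.1
  have h₂ : W ≤ a.act.left ⁻¹ᵁ U₂ := fun _ h => h.1.2
  have h₃ : W ≤ (snd G X).left ⁻¹ᵁ U := fun _ h => h.2
  have htW : t ∈ W := ⟨⟨hU₁, hU₂⟩, hxU⟩
  have key : a.act.left.appLE U₁ W h₁ C = (snd G X).left.appLE U W h₃ Q * a.act.left.appLE U₂ W h₂ D := by
    refine eq_of_germ_max fun m hm hmax => ?_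
    rw [map_mul, genHom_appLE _ m (act_max a ⟨m, hmax⟩) U₁ (mem_of_nonempty hU₁) W h₁ hm,
      genHom_appLE _ m (act_max a ⟨m, hmax⟩) U₂ (mem_of_nonempty hU₂) W h₂ hm,
      genHom_appLE _ m (snd_max ⟨m, hmax⟩) U hξU W h₃ hm, hQ, ← hr ⟨m, hmax⟩, ← map_mul, hcd]
  have hgerm : ∀ (V : X.left.Opens) (hV : W ≤ a.act.left ⁻¹ᵁ V) (hx' : x' ∈ V) (P : Γ(X.left, V)),
      (G ⊗ X).left.presheaf.germ W t htW (a.act.left.appLE V W hV P) =
        a.act.left.stalkMap t (X.left.presheaf.germ V x' hx' P) := fun V hV hx' P => by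
    rw [Scheme.Hom.germ_stalkMap_apply]
    exact (G ⊗ X).left.presheaf.germ_res_apply (homOfLE hV) t htW _
  have key' := congrArg ((G ⊗ X).left.presheaf.germ W t htW) key
  rw [map_mul, hgerm U₁ h₁ hU₁, hgerm U₂ h₂ hU₂, hC, hD] at key'
  algebraize [(a.act.left.stalkMap t).hom]
  haveI : Module.Flat (X.left.presheaf.stalk x') ((G ⊗ X).left.presheaf.stalk t) := Flat.stalkMap _ t
  haveI : IsLocalHom (algebraMap (X.left.presheaf.stalk x') ((G ⊗ X).left.presheaf.stalk t)) :=
    inferInstanceAs (IsLocalHom (a.act.left.stalkMap t).hom)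
  haveI := Module.FaithfullyFlat.of_flat_of_isLocalHom (A := X.left.presheaf.stalk x')
    (B := (G ⊗ X).left.presheaf.stalk t)
  obtain ⟨e, he⟩ : d ∣ c := by
    rw [← Ideal.mem_span_singleton, ← Ideal.comap_map_eq_self_of_faithfullyFlat
      (B := (G ⊗ X).left.presheaf.stalk t) (Ideal.span {d}), Ideal.mem_comap, Ideal.map_span,
      Set.image_singleton, Ideal.mem_span_singleton]
    exact ⟨_, key'.trans (mul_comm _ _)⟩
  obtain ⟨V, hV, E, hE⟩ := X.left.presheaf.germ_exist e
  refine ⟨V, hV, mem_of_nonempty hV, E, ?_⟩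
  have e₃ : algebraMap (X.left.presheaf.stalk x') (X.left.presheaf.stalk (genericPoint X.left)) e =
      X.left.presheaf.germ V _ (mem_of_nonempty hV) E := by
    rw [← hE]; exact X.left.presheaf.germ_stalkSpecializes_apply hV hsp E
  have hc := congrArg (algebraMap (X.left.presheaf.stalk x') (X.left.presheaf.stalk (genericPoint X.left))) he
  rw [map_mul, e₁, e₂, e₃, ← hcd, _root_.mul_comm r] at hc
  letI : Field (X.left.presheaf.stalk (genericPoint X.left)) := inferInstanceAs (Field X.left.functionField)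
  exact (mul_left_cancel₀ (e₂ ▸ IsFractionRing.to_map_ne_zero_of_mem_nonZeroDivisors hd) hc).symm

include hπ in
theorem dom_saturated {r : X.left.presheaf.stalk (genericPoint X.left)} (hr : IsInvRat a r) :
    π.left ⁻¹' (π.left '' dom r) = dom r := by
  refine Set.Subset.antisymm ?_ (Set.subset_preimage_image _ _)
  rintro x' ⟨x, hx, hxx'⟩
  obtain ⟨p, hp₁, hp₂⟩ := Scheme.exists_preimage_of_isPullback (IsPullback.of_hasPullback π.left π.left) x' x
    hxx'.symm
  obtain ⟨t, ht⟩ := hπ.orbit p
  have h1 : a.act.left t = x' := by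
    rw [← hp₁, ← ht, ← Scheme.Hom.comp_apply, GIT.PsiY, pullback.lift_fst]
  have h2 : (snd G X).left t = x := by
    rw [← hp₂, ← ht, ← Scheme.Hom.comp_apply, GIT.PsiY, pullback.lift_snd]
  exact h1 ▸ act_mem_dom a hr (h2 ▸ hx)

include hπ in
/-- An invariant rational function comes from the quotient. -/
theorem mem_range_of_isInvRat {r : X.left.presheaf.stalk (genericPoint X.left)} (hr : IsInvRat a r) :
    r ∈ Set.range (π.left.stalkMap (genericPoint X.left)).hom := by
  haveI := isReduced_prod (G := G) (X := X)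
  have hq : Topology.IsQuotientMap π.left.base := MorphismProperty.universally_le _ _ hπ.subm
  have hopen : IsOpen (π.left '' dom r) := by
    rw [← hq.isOpen_preimage, dom_saturated a hπ hr]; exact isOpen_dom r
  let U : Y.left.Opens := ⟨π.left '' dom r, hopen⟩
  have hpre : ∀ x, x ∈ π.left ⁻¹ᵁ U ↔ x ∈ dom r := fun x => Set.ext_iff.1 (dom_saturated a hπ hr) x
  have hξ : genericPoint X.left ∈ π.left ⁻¹ᵁ U := by
    obtain ⟨V, hV, s, hs⟩ := X.left.presheaf.germ_exist r
    exact (hpre _).2 ⟨V, hV, hV, s, hs⟩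
  choose V hxV hξV s hs using fun x : (π.left ⁻¹ᵁ U : X.left.Opens) => (hpre x.1).1 x.2
  let V' : (π.left ⁻¹ᵁ U : X.left.Opens) → X.left.Opens := fun x => V x ⊓ π.left ⁻¹ᵁ U
  let s' : ∀ x, Γ(X.left, V' x) := fun x => X.left.presheaf.map (homOfLE inf_le_left).op (s x)
  have hξV' : ∀ x, genericPoint X.left ∈ V' x := fun x => ⟨hξV x, hξ⟩
  have hs' : ∀ x, X.left.presheaf.germ (V' x) _ (hξV' x) (s' x) = r := fun x =>
    (X.left.presheaf.germ_res_apply (homOfLE inf_le_left) _ (hξV' x) (s x)).trans (hs x)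
  obtain ⟨f, hf, -⟩ := X.left.sheaf.existsUnique_gluing' V' (π.left ⁻¹ᵁ U) (fun _ => homOfLE inf_le_right)
    (fun x hx => Opens.mem_iSup.2 ⟨⟨x, hx⟩, hxV ⟨x, hx⟩, hx⟩) s' (fun i j => by
      apply germ_injective_of_isIntegral X.left (genericPoint X.left)
        (show genericPoint X.left ∈ V' i ⊓ V' j from ⟨hξV' i, hξV' j⟩)
      exact ((X.left.presheaf.germ_res_apply (Opens.infLELeft (V' i) (V' j)) _ _ (s' i)).trans
        ((hs' i).trans (hs' j).symm)).trans
        (X.left.presheaf.germ_res_apply (Opens.infLERight (V' i) (V' j)) _ _ (s' j)).symm)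
  have hfr : X.left.presheaf.germ _ _ hξ f = r := by
    have h := hf ⟨_, hξ⟩
    rw [← hs' ⟨_, hξ⟩, ← h]
    exact (X.left.presheaf.germ_res_apply (homOfLE inf_le_right) _ (hξV' ⟨_, hξ⟩) f).symm
  have hinv : GIT.IsInvSection a π U f := by
    refine eq_of_germ_max fun m hm hmax => ?_
    rw [genHom_appLE _ m (act_max a ⟨m, hmax⟩) _ hξ _ _ hm, genHom_appLE _ m (snd_max ⟨m, hmax⟩) _ hξ _ _ hm,
      hfr, hr ⟨m, hmax⟩]
  obtain ⟨w, hw⟩ : f ∈ Set.range (π.left.app U) := by rw [(hπ.sections U).2]; exact hinv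
  refine ⟨Y.left.presheaf.germ U _ hξ w, ?_⟩
  show π.left.stalkMap _ _ = r
  rw [Scheme.Hom.germ_stalkMap_apply, hw, hfr]

omit [Smooth G.hom] in
include hπ in
theorem isReduced_target : IsReduced Y.left :=
  ⟨fun U => isReduced_of_injective (π.left.app U).hom (hπ.sections U).1⟩

omit [Smooth G.hom] in
include hπ in
theorem map_genericPoint_quot [IrreducibleSpace Y.left] :
    π.left (genericPoint X.left) = genericPoint Y.left := by
  refine ((genericPoint_spec X.left).image π.left.continuous).eq ?_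
  rw [Set.image_univ, hπ.surj.range_eq, closure_univ]
  exact genericPoint_spec Y.left

include hπ in
/-- The function field of `X` is separable over that of the quotient. -/
theorem formallySmooth_stalkMap [IrreducibleSpace Y.left] [LocallyOfFiniteType π.left] :
    (π.left.stalkMap (genericPoint X.left)).hom.FormallySmooth := by
  haveI := isReduced_target a hπ
  haveI : IsIntegral Y.left := isIntegral_of_irreducibleSpace_of_isReduced Y.left
  haveI := isReduced_prod (G := G) (X := X)
  have hF : IsField (Y.left.presheaf.stalk (π.left (genericPoint X.left))) := by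
    rw [map_genericPoint_quot a hπ]; exact Field.toIsField Y.left.functionField
  letI : Field (Y.left.presheaf.stalk (π.left (genericPoint X.left))) := hF.toField
  letI : Field (X.left.presheaf.stalk (genericPoint X.left)) := inferInstanceAs (Field X.left.functionField)
  have hess := LocallyOfFiniteType.stalkMap π.left (genericPoint X.left)
  algebraize [(π.left.stalkMap (genericPoint X.left)).hom]
  letI hM : ∀ t : MaxPts G X, Field ((G ⊗ X).left.presheaf.stalk t.1) := fun t =>
    (FlatBlowUp.isField_stalk_of_maximal t.1 t.2).toField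
  refine MacLane.formallySmooth_of_invariants (fun t : MaxPts G X => ((G ⊗ X).left.presheaf.stalk t.1 : Type u))
    (fun t => genHom a.act.left t.1 (act_max a t)) (fun t => genHom (snd G X).left t.1 (snd_max t))
    (fun t => RingHom.ext fun b => ?_) (fun t => ?_) (fun r hr => mem_range_of_isInvRat a hπ hr)
  · obtain ⟨U, hU, B, rfl⟩ := Y.left.presheaf.germ_exist b
    have e : ∀ (f : (G ⊗ X).left ⟶ X.left) (h : f t.1 = genericPoint X.left) (g : (G ⊗ X).left ⟶ Y.left)
        (_ : f ≫ π.left = g) (hg : g t.1 ∈ U),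
        genHom f t.1 h (π.left.stalkMap _ (Y.left.presheaf.germ U _ hU B)) =
          (G ⊗ X).left.presheaf.germ (g ⁻¹ᵁ U) t.1 hg (g.app U B) := by
      rintro f h g rfl hg
      rw [Scheme.Hom.germ_stalkMap_apply, genHom_germ f t.1 h (π.left ⁻¹ᵁ U) hU hg]
      rfl
    have hg : (a.act.left ≫ π.left) t.1 ∈ U := by
      rw [Scheme.Hom.comp_apply, act_max]; exact hU
    exact (e a.act.left (act_max a t) _ rfl hg).trans (e (snd G X).left (snd_max t) _ hπ.inv.left.symm hg).symm
  · letI := (genHom (snd G X).left t.1 (snd_max t)).toAlgebra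
    haveI := smooth_snd (G := G) (X := X)
    exact S2451.result.1 (RingHom.formallySmooth_algebraMap.1 (genHom_formallySmooth _ _ _))

end Groth.Agent.GITss.InvFld
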