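import Groth.Agent.GITss.ClosedAct
import Groth.Agent.GITss.Restrict
import Groth.Agent.ConsSet.Basic
import Mathlib.AlgebraicGeometry.Geometrically.Integral

/-!
# Almost homogeneous spaces and open orbits
-/

set_option autoImplicit false
set_option backward.isDefEq.respectTransparency false
set_option linter.style.haveILetI false

universe u

open CategoryTheory CategoryTheory.Limits MonoidalCategory CartesianMonoidalCategory MonObj GrpObj AlgebraicGeometry
open TopologicalSpace

noncomputable section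

namespace Groth.Agent.GITss.Orbit

open AffQuot

variable {k : Type u} [Field k] {G X : Over (Spec (CommRingCat.of k))} [GrpObj G] (a : AlgGrp.Action G X)

/-- Points over an algebraically closed field lift to a preimage. -/
theorem exists_lift {A B : Scheme.{u}} (f : A ⟶ B) [LocallyOfFiniteType f] {Ω : Type u} [Field Ω] [IsAlgClosed Ω]
    (p : Spec (CommRingCat.of Ω) ⟶ B) (hp : p (IsLocalRing.closedPoint Ω) ∈ Set.range f) :
    ∃ q : Spec (CommRingCat.of Ω) ⟶ A, q ≫ f = p := by
  let s : pullback f p ⟶ Spec (CommRingCat.of Ω) := pullback.snd f p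
  haveI : JacobsonSpace ↥(pullback f p) := LocallyOfFiniteType.jacobsonSpace s
  obtain ⟨a₀, ha⟩ := hp
  obtain ⟨z, -, -⟩ := Scheme.exists_preimage_of_isPullback (IsPullback.of_hasPullback f p) a₀
    (IsLocalRing.closedPoint Ω) ha
  obtain ⟨c, -, hc⟩ := nonempty_inter_closedPoints (Z := (Set.univ : Set ↥(pullback f p))) ⟨z, trivial⟩
    isClosed_univ.isLocallyClosed
  refine ⟨pointOfClosedPoint s c hc ≫ pullback.fst f p, ?_⟩
  rw [Category.assoc, pullback.condition, ← Category.assoc, pointOfClosedPoint_comp]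
  exact Category.id_comp p

/-- The graph of the action. -/
abbrev graph : G ⊗ X ⟶ X ⊗ X := lift (snd G X) a.act

omit [GrpObj G] in
theorem isPullback_whiskerLeft_snd {A B : Over (Spec (CommRingCat.of k))} (f : A ⟶ B) :
    IsPullback (G ◁ f).left (snd G A).left (snd G B).left f.left :=
  (Blanchard.isPullback_whiskerLeft G f).flip.map (Over.forget _)

omit [GrpObj G] in
theorem isPullback_whiskerRight_fst {T : Over (Spec (CommRingCat.of k))} (v : T ⟶ X) :
    IsPullback (v ▷ X).left (fst T X).left (fst X X).left v.left := by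
  have t : IsPullback ((v ▷ X).left ≫ (snd X X).left) (fst T X).left X.hom (v.left ≫ X.hom) := by
    rw [← Over.comp_left, whiskerRight_snd, Over.w v]
    exact (IsPullback.of_hasPullback T.hom X.hom).flip
  refine IsPullback.of_right t ?_ (IsPullback.of_hasPullback X.hom X.hom).flip
  rw [← Over.comp_left, whiskerRight_fst]
  rfl

/-- The image of the graph is stable under the action on the first factor. -/
theorem stable_range :
    Good.Stable (prodAct a X).act.left (snd G (X ⊗ X)).left (Set.range (graph a).left) := by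
  rintro z ⟨u, hu⟩
  obtain ⟨p, hp, -⟩ := Scheme.exists_preimage_of_isPullback (isPullback_whiskerLeft_snd (G := G) (graph a)) z u hu.symm
  subst hp
  have key : (G ◁ graph a) ≫ (prodAct a X).act =
      lift (snd G (G ⊗ X) ≫ fst G X * (fst G (G ⊗ X))⁻¹)
        (lift (fst G (G ⊗ X)) (snd G (G ⊗ X) ≫ snd G X) ≫ a.act) ≫ graph a := by
    apply CartesianMonoidalCategory.hom_ext
    · simp only [prodAct, Category.assoc, lift_fst, lift_snd]
      rw [← MonoidalCategory.whiskerLeft_comp_assoc, lift_fst, show G ◁ snd G X =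
        lift (fst G (G ⊗ X)) (snd G (G ⊗ X) ≫ snd G X) by ext <;> simp]
    · simp only [prodAct, Category.assoc, lift_snd]
      rw [← GrpAct.mul_smul, _root_.mul_assoc, inv_mul_cancel, _root_.mul_one, ← comp_lift_assoc, lift_fst_snd,
        Category.id_comp, whiskerLeft_snd_assoc, lift_snd]
  show (prodAct a X).act.left ((G ◁ graph a).left p) ∈ Set.range (graph a).left
  rw [← Scheme.Hom.comp_apply, ← Over.comp_left, key, Over.comp_left, Scheme.Hom.comp_apply]
  exact ⟨_, rfl⟩

/-- The projection of a stable set is stable. -/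
theorem stable_image {O : Set (X ⊗ X).left}
    (h : Good.Stable (prodAct a X).act.left (snd G (X ⊗ X)).left O) :
    Good.Stable a.act.left (snd G X).left ((fst X X).left '' O) := by
  rintro t ⟨o, ho, hot⟩
  obtain ⟨p, hp, hp'⟩ := Scheme.exists_preimage_of_isPullback (isPullback_whiskerLeft_snd (G := G) (fst X X)) t o hot.symm
  subst hp
  refine ⟨(prodAct a X).act.left p, h (show (snd G (X ⊗ X)).left p ∈ O from hp' ▸ ho), ?_⟩
  rw [← Scheme.Hom.comp_apply, ← Over.comp_left, prodAct, lift_fst, Over.comp_left, Scheme.Hom.comp_apply]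

/-- A stable open is homogeneous. -/
def IsHomog (U : X.left.Opens) : Prop :=
  ∃ b : AlgGrp.Action G (Over.mk (U.ι ≫ X.hom)), (G ◁ (Over.homMk U.ι rfl : Over.mk (U.ι ≫ X.hom) ⟶ X)) ≫ a.act =
    b.act ≫ Over.homMk U.ι rfl ∧
    Surjective (CartesianMonoidalCategory.lift (CartesianMonoidalCategory.snd G (Over.mk (U.ι ≫ X.hom))) b.act).left

theorem subsingleton_base : Subsingleton ↥(Spec (CommRingCat.of k)) := inferInstanceAs (Subsingleton (PrimeSpectrum k))

variable {a}

theorem le_of_isHomog [IrreducibleSpace X.left] {U U' : X.left.Opens} (hne : (U : Set X.left).Nonempty)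
    (hne' : (U' : Set X.left).Nonempty) (hU : IsHomog a U) (hU' : IsHomog a U') : U ≤ U' := by
  obtain ⟨b, hb, hbs⟩ := hU
  obtain ⟨b', hb', -⟩ := hU'
  intro y hy
  obtain ⟨y', hy'U, hy'U'⟩ := nonempty_preirreducible_inter U.2 U'.2 hne hne'
  let Uo : Over (Spec (CommRingCat.of k)) := Over.mk (U.ι ≫ X.hom)
  haveI := subsingleton_base (k := k)
  obtain ⟨e, he₁, he₂⟩ := Scheme.exists_preimage_of_isPullback
    (IsPullback.of_hasPullback Uo.hom Uo.hom) ⟨y', hy'U⟩ ⟨y, hy⟩ (Subsingleton.elim _ _)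
  obtain ⟨u, hu⟩ := hbs.surj e
  let iU : Uo ⟶ X := Over.homMk U.ι rfl
  let iU' : Over.mk (U'.ι ≫ X.hom) ⟶ X := Over.homMk U'.ι rfl
  have h1 : (snd G X).left ((G ◁ iU).left u) = y' := by
    rw [← Scheme.Hom.comp_apply, ← Over.comp_left, whiskerLeft_snd]
    show U.ι ((snd G Uo).left u) = y'
    rw [← (lift_fst (snd G Uo) b.act : lift (snd G Uo) b.act ≫ fst Uo Uo = snd G Uo), Over.comp_left,
      Scheme.Hom.comp_apply, hu]
    exact congrArg U.ι he₁
  have h2 : a.act.left ((G ◁ iU).left u) = y := by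
    rw [← Scheme.Hom.comp_apply, ← Over.comp_left, hb]
    show U.ι (b.act.left u) = y
    rw [← (lift_snd (snd G Uo) b.act : lift (snd G Uo) b.act ≫ snd Uo Uo = b.act), Over.comp_left,
      Scheme.Hom.comp_apply, hu]
    exact congrArg U.ι he₂
  obtain ⟨w, hw, -⟩ := Scheme.exists_preimage_of_isPullback (isPullback_whiskerLeft_snd (G := G) iU')
    ((G ◁ iU).left u) ⟨y', hy'U'⟩ h1
  rw [← h2, ← hw, ← Scheme.Hom.comp_apply, ← Over.comp_left, hb']
  exact (b'.act.left w).2

theorem isDominant_of_isHomog [IrreducibleSpace (X ⊗ X).left] {U : X.left.Opens} (hne : (U : Set X.left).Nonempty)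
    (hU : IsHomog a U) : IsDominant (graph a).left := by
  obtain ⟨b, hb, hbs⟩ := hU
  let Uo : Over (Spec (CommRingCat.of k)) := Over.mk (U.ι ≫ X.hom)
  let iU : Uo ⟶ X := Over.homMk U.ι rfl
  have hsub : Set.range (iU ⊗ₘ iU).left ⊆ Set.range (graph a).left := by
    rintro _ ⟨e, rfl⟩
    obtain ⟨u, rfl⟩ := hbs.surj e
    refine ⟨(G ◁ iU).left u, ?_⟩
    rw [← Scheme.Hom.comp_apply, ← Scheme.Hom.comp_apply, ← Over.comp_left, ← Over.comp_left]
    refine congrArg (fun f : G ⊗ Uo ⟶ X ⊗ X => f.left u) ?_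
    apply CartesianMonoidalCategory.hom_ext
    · simp [Uo]
    · simp only [Category.assoc, lift_snd, tensorHom_snd]
      rw [← Category.assoc (lift _ _), lift_snd]
      exact hb
  haveI hopen : IsOpenImmersion (iU ⊗ₘ iU).left :=
    inferInstanceAs (IsOpenImmersion (pullback.map Uo.hom Uo.hom X.hom X.hom U.ι U.ι (𝟙 _) (Category.comp_id _) (Category.comp_id _)))
  obtain ⟨y, hy⟩ := hne
  haveI := subsingleton_base (k := k)
  obtain ⟨e, -, -⟩ := Scheme.exists_preimage_of_isPullback
    (IsPullback.of_hasPullback Uo.hom Uo.hom) ⟨y, hy⟩ ⟨y, hy⟩ rfl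
  exact ⟨((iU ⊗ₘ iU).left.isOpenEmbedding.isOpen_range.dense ⟨_, e, rfl⟩).mono hsub⟩

variable (a) in
theorem exists_isHomog [LocallyOfFiniteType G.hom] [QuasiCompact G.hom] [IsSeparated X.hom]
    [LocallyOfFiniteType X.hom] [QuasiCompact X.hom] [GeometricallyIrreducible X.hom]
    [IrreducibleSpace (X ⊗ X).left] [IsDominant (graph a).left] :
    ∃ U : X.left.Opens, (U : Set X.left).Nonempty ∧ IsHomog a U := by
  haveI := subsingleton_base (k := k)
  haveI : UniversallyOpen G.hom := inferInstance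
  haveI : UniversallyOpen (fst X X).left := inferInstanceAs (UniversallyOpen (pullback.fst X.hom X.hom))
  haveI : IsSeparated (fst X X).left := inferInstanceAs (IsSeparated (pullback.fst X.hom X.hom))
  haveI : LocallyOfFiniteType (fst X X).left := inferInstanceAs (LocallyOfFiniteType (pullback.fst X.hom X.hom))
  haveI : QuasiCompact (fst X X).left := inferInstanceAs (QuasiCompact (pullback.fst X.hom X.hom))
  have hgf : (graph a).left ≫ (fst X X).left = (snd G X).left := congr($(lift_fst (snd G X) a.act).left)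
  haveI : LocallyOfFiniteType (graph a).left := by
    haveI : LocallyOfFiniteType ((graph a).left ≫ (fst X X).left) := by
      rw [hgf]; exact inferInstanceAs (LocallyOfFiniteType (pullback.snd G.hom X.hom))
    exact locallyOfFiniteType_of_comp _ (fst X X).left
  haveI : QuasiCompact (graph a).left := by
    haveI : QuasiCompact ((graph a).left ≫ (fst X X).left) := by
      rw [hgf]; exact inferInstanceAs (QuasiCompact (pullback.snd G.hom X.hom))
    exact QuasiCompact.of_comp _ (fst X X).left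
  haveI : LocallyOfFiniteType (X ⊗ X).hom :=
    inferInstanceAs (LocallyOfFiniteType (pullback.fst X.hom X.hom ≫ X.hom))
  haveI : QuasiCompact (X ⊗ X).hom := inferInstanceAs (QuasiCompact (pullback.fst X.hom X.hom ≫ X.hom))
  haveI : IsLocallyNoetherian (X ⊗ X).left := LocallyOfFiniteType.isLocallyNoetherian (X ⊗ X).hom
  haveI : CompactSpace (X ⊗ X).left := QuasiCompact.compactSpace_of_compactSpace (X ⊗ X).hom
  haveI : IsNoetherian (X ⊗ X).left := {}
  let R := Set.range (graph a).left
  have hRc : Topology.IsConstructible R := by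
    show Topology.IsConstructible (Set.range (graph a).left)
    rw [← Set.image_univ]
    exact (graph a).left.isConstructible_image Topology.IsConstructible.univ
  obtain ⟨n, L, hL, hRL⟩ := ConsSet.exists_lc_rep hRc
  obtain ⟨O₀, hO₀, hO₀R, hO₀d⟩ := ConsSet.exists_open_of_dense (IrreducibleSpace.isIrreducible_univ (X ⊗ X).left) L hL
    (by rw [← hRL, Set.inter_univ]; exact fun x _ => (graph a).left.denseRange x)
  rw [Set.inter_univ] at hO₀R hO₀d
  rw [← hRL] at hO₀R
  let O := interior R
  have hOne : O.Nonempty := by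
    obtain ⟨x⟩ := (inferInstance : Nonempty (X ⊗ X).left)
    obtain ⟨y, hy⟩ : O₀.Nonempty := closure_nonempty_iff.1 ⟨x, hO₀d trivial⟩
    exact ⟨y, interior_maximal hO₀R hO₀ hy⟩
  let U : X.left.Opens := ⟨(fst X X).left '' O, (fst X X).left.isOpenMap _ isOpen_interior⟩
  have hUs : IsStableOpen a U := stable_image a (stable_interior _ (stable_range a))
  refine ⟨U, hOne.image _, resAct hUs, (resAct_inc hUs).symm, ⟨fun e => ?_⟩⟩
  let Uo : Over (Spec (CommRingCat.of k)) := Over.mk (U.ι ≫ X.hom)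
  let iU : Uo ⟶ X := Over.homMk U.ι rfl
  let Ω := AlgebraicClosure ((Uo ⊗ Uo).left.residueField e)
  let p : Spec (CommRingCat.of Ω) ⟶ (Uo ⊗ Uo).left :=
    Spec.map (CommRingCat.ofHom (algebraMap ((Uo ⊗ Uo).left.residueField e) Ω)) ≫
      (Uo ⊗ Uo).left.fromSpecResidueField e
  let T : Over (Spec (CommRingCat.of k)) := Over.mk (p ≫ (Uo ⊗ Uo).hom)
  let pT : T ⟶ Uo ⊗ Uo := Over.homMk p rfl
  let v₁ : T ⟶ X := pT ≫ fst Uo Uo ≫ iU
  let v₂ : T ⟶ X := pT ≫ snd Uo Uo ≫ iU
  let W : Over (Spec (CommRingCat.of k)) := T ⊗ X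
  haveI : GeometricallyIrreducible (fst T X).left :=
    inferInstanceAs (GeometricallyIrreducible (pullback.fst T.hom X.hom))
  haveI : Subsingleton T.left := inferInstanceAs (Subsingleton (PrimeSpectrum Ω))
  haveI : Nonempty T.left := inferInstanceAs (Nonempty (PrimeSpectrum Ω))
  haveI : IrreducibleSpace W.left := GeometricallyIrreducible.irreducibleSpace_of_subsingleton (fst T X).left
  have hpre : ∀ v : T ⟶ X, Set.range v.left.base ⊆ (U : Set X.left) →
      ((v ▷ X).left ⁻¹' O).Nonempty := fun v hv => by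
    obtain ⟨o, ho, hot⟩ := hv ⟨IsLocalRing.closedPoint Ω, rfl⟩
    obtain ⟨p', hp', -⟩ := Scheme.exists_preimage_of_isPullback
      (isPullback_whiskerRight_fst v) o (IsLocalRing.closedPoint Ω) hot
    exact ⟨p', show (v ▷ X).left p' ∈ O from hp' ▸ ho⟩
  have hv : ∀ q : Uo ⊗ Uo ⟶ Uo, Set.range (pT ≫ q ≫ iU).left.base ⊆ (U : Set X.left) := by
    rintro q _ ⟨t, rfl⟩
    exact ((pT ≫ q).left t).2
  obtain ⟨w, hw₁, hw₂⟩ := nonempty_preirreducible_inter
    (isOpen_interior.preimage (v₁ ▷ X).left.continuous) (isOpen_interior.preimage (v₂ ▷ X).left.continuous)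
    (hpre v₁ (hv _)) (hpre v₂ (hv _))
  let s : W.left ⟶ Spec (CommRingCat.of Ω) := (fst T X).left
  haveI : LocallyOfFiniteType s := inferInstanceAs (LocallyOfFiniteType (pullback.fst T.hom X.hom))
  haveI : JacobsonSpace W.left := LocallyOfFiniteType.jacobsonSpace s
  obtain ⟨c, ⟨hc₁, hc₂⟩, hc⟩ := nonempty_inter_closedPoints
    (Z := (v₁ ▷ X).left ⁻¹' O ∩ (v₂ ▷ X).left ⁻¹' O) ⟨w, hw₁, hw₂⟩
    ((isOpen_interior.preimage (v₁ ▷ X).left.continuous).inter
      (isOpen_interior.preimage (v₂ ▷ X).left.continuous)).isLocallyClosed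
  let cT : T ⟶ W := Over.homMk (pointOfClosedPoint s c hc) (by
    rw [← Over.w (fst T X), ← Category.assoc, pointOfClosedPoint_comp]; exact Category.id_comp _)
  have hcT : cT ≫ fst T X = 𝟙 T := Over.OverMorphism.ext (pointOfClosedPoint_comp _ _ _)
  let x : T ⟶ X := cT ≫ snd T X
  have hg : ∀ v : T ⟶ X, (v ▷ X).left c ∈ O → ∃ g : T ⟶ G, lift g v ≫ a.act = x := fun v hv => by
    have hcv : cT ≫ (v ▷ X) = lift v x := by
      apply CartesianMonoidalCategory.hom_ext
      · rw [Category.assoc, whiskerRight_fst, lift_fst, reassoc_of% hcT]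
      · rw [Category.assoc, whiskerRight_snd, lift_snd]
    obtain ⟨q, hq⟩ := exists_lift (graph a).left (lift v x).left (by
      rw [← hcv, Over.comp_left, Scheme.Hom.comp_apply]
      refine interior_subset ?_
      show (v ▷ X).left (pointOfClosedPoint s c hc _) ∈ O
      rw [pointOfClosedPoint_apply]; exact hv)
    let qT : T ⟶ G ⊗ X := Over.homMk q (by
      rw [← Over.w (graph a), ← Category.assoc, hq]; exact Over.w (lift v x))
    have hqT : qT ≫ graph a = lift v x := Over.OverMorphism.ext hq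
    have h1 : qT ≫ snd G X = v := by simpa using congr($hqT ≫ fst X X)
    have h2 : qT ≫ a.act = x := by simpa using congr($hqT ≫ snd X X)
    exact ⟨qT ≫ fst G X, by rw [← h1, ← comp_lift, lift_fst_snd, Category.comp_id, h2]⟩
  obtain ⟨g₁, hg₁⟩ := hg v₁ hc₁
  obtain ⟨g₂, hg₂⟩ := hg v₂ hc₂
  have key : lift (g₂⁻¹ * g₁) v₁ ≫ a.act = v₂ := by
    rw [GrpAct.mul_smul, hg₁, ← hg₂, ← GrpAct.mul_smul, inv_mul_cancel, GrpAct.one_smul']
  have hfin : lift (g₂⁻¹ * g₁) (pT ≫ fst Uo Uo) ≫ lift (snd G Uo) (resAct hUs).act = pT := by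
    haveI : Mono iU := mono_inc U
    apply CartesianMonoidalCategory.hom_ext
    · rw [Category.assoc, lift_fst, lift_snd]
    · rw [Category.assoc, lift_snd, ← cancel_mono iU, Category.assoc, Category.assoc,
        resAct_inc hUs, lift_whiskerLeft_assoc]
      exact key.trans rfl
  refine ⟨(lift (g₂⁻¹ * g₁) (pT ≫ fst Uo Uo)).left (IsLocalRing.closedPoint Ω), ?_⟩
  rw [← Scheme.Hom.comp_apply, ← Over.comp_left]
  erw [hfin]
  show p (IsLocalRing.closedPoint Ω) = e
  rw [Scheme.Hom.comp_apply]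
  exact Scheme.fromSpecResidueField_apply e _

end Groth.Agent.GITss.Orbit
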