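import Groth.Prelude.Def_CAlg2
import Groth.Agent.GITss.FibreConst
import Groth.Agent.S9812
import Groth.Agent.NormSect.Basic
import Groth.Agent.Unibranch.EquidimAt
import Groth.Agent.GoingDown.Components
import Groth.Agent.FinHopf.PerfTensor
import Groth.Agent.InvGen.NormalDvd
import Mathlib.RingTheory.DiscreteValuationRing.TFAE
import Mathlib.LinearAlgebra.Dual.Lemmas

/-!
# Morphisms of normal integral schemes whose geometric fibres are orbits
-/

set_option autoImplicit false
set_option backward.isDefEq.respectTransparency false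
set_option linter.style.haveILetI false

universe u

open CategoryTheory CategoryTheory.Limits MonoidalCategory CartesianMonoidalCategory MonObj GrpObj AlgebraicGeometry
open TopologicalSpace
open scoped TensorProduct

noncomputable section

namespace Groth.Agent.GITss.Rel

variable {S : Scheme.{u}} {G X Y : Over S} [GrpObj G] (a : AlgGrp.Action G X) {φ : X ⟶ Y}
  (hinv : GIT.IsInvariant a φ)

/-- `φ` separates orbits of geometric points. -/
def SepOrbits (φ : X ⟶ Y) : Prop :=
  ∀ (Ω : Type u) [Field Ω] [IsAlgClosed Ω] (T : Over S) (_ : T.left ≅ Spec (CommRingCat.of Ω)) (x₁ x₂ : T ⟶ X),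
    x₁ ≫ φ = x₂ ≫ φ → ∃ g : T ⟶ G, lift g x₂ ≫ a.act = x₁

theorem psiY_surjective (hii : SepOrbits a φ) : Function.Surjective (GIT.PsiY a φ hinv).base := by
  intro e
  let Ω := AlgebraicClosure ((pullback φ.left φ.left).residueField e)
  let p : Spec (CommRingCat.of Ω) ⟶ pullback φ.left φ.left :=
    Spec.map (CommRingCat.ofHom (algebraMap ((pullback φ.left φ.left).residueField e) Ω)) ≫
      (pullback φ.left φ.left).fromSpecResidueField e
  let T : Over S := Over.mk (p ≫ pullback.fst φ.left φ.left ≫ X.hom)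
  let x₁ : T ⟶ X := Over.homMk (p ≫ pullback.fst φ.left φ.left) (Category.assoc _ _ _)
  let x₂ : T ⟶ X := Over.homMk (p ≫ pullback.snd φ.left φ.left) (by
    show _ = p ≫ pullback.fst φ.left φ.left ≫ X.hom
    rw [← Over.w φ, pullback.condition_assoc, Category.assoc])
  obtain ⟨g, hg⟩ := hii Ω T (Iso.refl _) x₁ x₂ (Over.OverMorphism.ext (by
    show (p ≫ _) ≫ φ.left = (p ≫ _) ≫ φ.left
    simp [p, pullback.condition]))
  have h : (lift g x₂).left ≫ GIT.PsiY a φ hinv = p := by
    apply pullback.hom_ext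
    · rw [Category.assoc, GIT.PsiY, pullback.lift_fst, ← Over.comp_left, hg]; rfl
    · rw [Category.assoc, GIT.PsiY, pullback.lift_snd, ← Over.comp_left, lift_snd]; rfl
  let w : Spec (CommRingCat.of Ω) := Classical.choice inferInstance
  refine ⟨(lift g x₂).left w, ?_⟩
  rw [← Scheme.Hom.comp_apply, h, Scheme.Hom.comp_apply]
  exact Scheme.fromSpecResidueField_apply e _

theorem isGeomUnibranch_stalk {Z : Scheme.{u}} [IsIntegral Z]
    (hZ : ∀ U : Z.affineOpens, IsIntegrallyClosed Γ(Z, U)) (z : Z) :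
    CAlg2.IsGeomUnibranch (Z.presheaf.stalk z) := by
  obtain ⟨V, hV, hzV, -⟩ := exists_isAffineOpen_mem_and_subset (show z ∈ (⊤ : Z.Opens) from trivial)
  haveI : Nonempty V := ⟨⟨z, hzV⟩⟩
  haveI := hZ ⟨V, hV⟩
  haveI := NormSect.isIntegrallyClosed_stalk V hV ⟨z, hzV⟩
  exact S9812.result _

theorem universallyOpen [LocallyOfFiniteType G.hom] [UniversallyOpen G.hom] [IsIntegral X.left]
    [IsLocallyNoetherian X.left] [IsIntegral Y.left] [IsLocallyNoetherian Y.left]
    (hY : ∀ U : Y.left.affineOpens, IsIntegrallyClosed Γ(Y.left, U))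
    [LocallyOfFiniteType X.hom] [IsDominant φ.left] [LocallyOfFiniteType φ.left]
    (hinv : GIT.IsInvariant a φ) (hii : SepOrbits a φ) : UniversallyOpen φ.left := by
  obtain ⟨e, he⟩ := Unibranch.exists_fibreDimAt_eq φ.left (genericPoint X.left)
  have hconst : ∀ x, FlatMor.fibreDimAt φ.left x = (e : WithBot ℕ∞) := fun x =>
    (fibreDimAt_eq_of_specializes a hinv (psiY_surjective a hinv hii)
      ((genericPoint_spec X.left).specializes (Set.mem_univ x))).symm.trans he
  let f : (⊤ : X.left.Opens).toScheme ⟶ Y.left := (⊤ : X.left.Opens).ι ≫ φ.left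
  haveI : IsIso (⊤ : X.left.Opens).ι := (Scheme.topIso X.left).isIso_hom
  have hdim : Cyc.HasRelDim f e := by
    refine LocalDimBC.hasRelDim_of_fibreDimAt f e fun x' => ?_
    rw [LocalDimBC.fibreDimAt_of_isPullback φ.left (𝟙 _) (⊤ : X.left.Opens).ι f
      (IsPullback.of_horiz_isIso ⟨by rw [Category.comp_id]⟩) x']
    exact hconst _
  refine GoingDown.universallyOpen_iff_forall_isUnivOpenAt.2 fun x => ?_
  obtain ⟨V, hV, hyV, -⟩ := exists_isAffineOpen_mem_and_subset (show φ.left x ∈ (⊤ : Y.left.Opens) from trivial)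
  haveI : IsNoetherianRing Γ(Y.left, V) := IsLocallyNoetherian.component_noetherian ⟨V, hV⟩
  haveI : TopologicalSpace.NoetherianSpace ↥V := noetherianSpace_of_isAffineOpen V hV
  haveI : Nonempty (⊤ : X.left.Opens).toScheme := ⟨⟨x, trivial⟩⟩
  haveI : IrreducibleSpace ↥(⊤ : X.left.Opens) := (inferInstance : IrreducibleSpace (⊤ : X.left.Opens).toScheme)
  refine Unibranch.isUnivOpenAt_of_isEquidimAt φ.left x (isGeomUnibranch_stalk hY _)
    ⟨V, hyV, TopologicalSpace.NoetherianSpace.finite_irreducibleComponents⟩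
    ⟨e, ⊤, trivial, fun Z hZ => ⟨Set.univ, ?_, trivial, ?_⟩, fun x' Z hZ => hdim _ Z hZ⟩
  · rw [irreducibleComponents_eq_singleton]; rfl
  · haveI : IsIntegral (⊤ : X.left.Opens).toScheme :=
      haveI : Nonempty (⊤ : X.left.Opens).toScheme := ⟨⟨x, trivial⟩⟩
      inferInstance
    rw [irreducibleComponents_eq_singleton, Set.mem_singleton_iff] at hZ
    rw [hZ, Set.image_univ]
    refine (DenseRange.closure_range ?_)
    haveI : IsDominant ((⊤ : X.left.Opens).ι ≫ φ.left) := inferInstance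
    exact Scheme.Hom.denseRange _

theorem isUnivSubmersive_of_universallyOpen {P Q : Scheme.{u}} (f : P ⟶ Q) [UniversallyOpen f] [Surjective f] :
    GIT.IsUnivSubmersive f := by
  intro P' Q' i₁ i₂ f' h
  haveI : UniversallyOpen f' := MorphismProperty.of_isPullback h.flip ‹UniversallyOpen f›
  haveI : Surjective f' := MorphismProperty.of_isPullback h.flip ‹Surjective f›
  exact f'.isOpenMap.isQuotientMap f'.continuous f'.surjective

theorem appLE_fromSpecStalk {Z : Scheme.{u}} (ξ : Z) {R : CommRingCat.{u}} (u : Z.presheaf.stalk ξ ⟶ R)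
    (U : Z.Opens) (h : ξ ∈ U) (e : ⊤ ≤ (Spec.map u ≫ Z.fromSpecStalk ξ) ⁻¹ᵁ U) :
    (Spec.map u ≫ Z.fromSpecStalk ξ).appLE U ⊤ e = Z.presheaf.germ U ξ h ≫ u ≫ (Scheme.ΓSpecIso R).inv := by
  rw [Scheme.ΓSpecIso_inv_naturality]
  simp only [Scheme.Hom.appLE, Scheme.Hom.comp_app, Scheme.fromSpecStalk_app h, Category.assoc,
    Scheme.Hom.naturality_assoc]
  simp [← Functor.map_comp]
  congr 1

theorem mem_of_fromSpecStalk {Z : Scheme.{u}} (ξ : Z) {R : CommRingCat.{u}} (u : Z.presheaf.stalk ξ ⟶ R)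
    (U : Z.Opens) (h : ξ ∈ U) : ⊤ ≤ (Spec.map u ≫ Z.fromSpecStalk ξ) ⁻¹ᵁ U := by
  intro w _
  have hr : Z.fromSpecStalk ξ (Spec.map u w) ∈ {y | y ⤳ ξ} := by
    rw [← Scheme.range_fromSpecStalk]; exact ⟨_, rfl⟩
  show (Spec.map u ≫ Z.fromSpecStalk ξ) w ∈ U
  rw [Scheme.Hom.comp_apply]
  exact (show _ ⤳ ξ from hr).mem_open U.2 h

theorem mem_range_of_tmul_eq {K L : Type u} [Field K] [Field L] [Algebra K L] {z : L}
    (h : z ⊗ₜ[K] (1 : L) = (1 : L) ⊗ₜ[K] z) : z ∈ Set.range (algebraMap K L) := by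
  by_contra hz
  have hz' : z ∉ K ∙ (1 : L) := fun hm => by
    obtain ⟨k, hk⟩ := Submodule.mem_span_singleton.1 hm
    exact hz ⟨k, by rw [← hk, Algebra.algebraMap_eq_smul_one]⟩
  obtain ⟨lam, h1, h2⟩ := Submodule.exists_dual_map_eq_bot_of_notMem hz' inferInstance
  have h3 : lam 1 = 0 := by
    have : lam 1 ∈ (K ∙ (1 : L)).map lam := ⟨1, Submodule.mem_span_singleton_self _, rfl⟩
    rwa [h2, Submodule.mem_bot] at this
  have h4 := congrArg (fun t => TensorProduct.lid K L (TensorProduct.map lam LinearMap.id t)) h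
  simp only [TensorProduct.map_tmul, LinearMap.id_apply, TensorProduct.lid_tmul, h3, zero_smul] at h4
  exact h1 ((smul_eq_zero.1 h4).resolve_right one_ne_zero)

theorem isField_stalk {Z : Scheme.{u}} [IsIntegral Z] {z : Z} (h : z = genericPoint Z) :
    IsField (Z.presheaf.stalk z) := by
  subst h; exact Field.toIsField Z.functionField

theorem charZero_stalk {Z : Scheme.{u}} [IsIntegral Z] [CharZero Z.functionField] {z : Z}
    (h : z = genericPoint Z) : CharZero (Z.presheaf.stalk z) := by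
  subst h; exact ‹CharZero Z.functionField›

/-- An element of a field fixed by all geometric points over a perfect subfield lies in the subfield. -/
theorem mem_range_of_forall_hom {K L : Type u} [Field K] [Field L] [Algebra K L] [PerfectField K] {z : L}
    (H : ∀ (Ω : Type u) [Field Ω] [IsAlgClosed Ω] (u₁ u₂ : L →+* Ω),
      u₁.comp (algebraMap K L) = u₂.comp (algebraMap K L) → u₁ z = u₂ z) :
    z ∈ Set.range (algebraMap K L) := by
  refine mem_range_of_tmul_eq ?_
  haveI : _root_.IsReduced (L ⊗[K] L) := FinHopf.isReduced_tensor_of_perfect K L L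
  rw [← sub_eq_zero]
  refine IsNilpotent.eq_zero (nilpotent_iff_mem_prime.2 fun P hP => ?_)
  haveI := hP
  let F := FractionRing ((L ⊗[K] L) ⧸ P)
  let π : L ⊗[K] L →+* AlgebraicClosure F :=
    (algebraMap F (AlgebraicClosure F)).comp
      ((algebraMap ((L ⊗[K] L) ⧸ P) F).comp (Ideal.Quotient.mk P))
  have hπ : RingHom.ker π = P := by
    simp only [π]
    rw [RingHom.ker_comp_of_injective _ (RingHom.injective _),
      RingHom.ker_comp_of_injective _ (IsFractionRing.injective _ _), Ideal.mk_ker]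
  rw [← hπ, RingHom.mem_ker, map_sub, sub_eq_zero]
  refine H _ (π.comp Algebra.TensorProduct.includeLeftRingHom)
    (π.comp (Algebra.TensorProduct.includeRight (R := K) (A := L)).toRingHom) ?_
  ext k
  show π (algebraMap K L k ⊗ₜ 1) = π (1 ⊗ₜ algebraMap K L k)
  rw [Algebra.algebraMap_eq_smul_one, TensorProduct.smul_tmul]

/-- An invariant section comes from the function field of the target. -/
theorem germ_mem_range [IsIntegral X.left] [IsIntegral Y.left] [CharZero Y.left.functionField]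
    (hdom : φ.left (genericPoint X.left) = genericPoint Y.left) (hii : SepOrbits a φ) {U : Y.left.Opens}
    (hU : genericPoint X.left ∈ φ.left ⁻¹ᵁ U) {f : Γ(X.left, φ.left ⁻¹ᵁ U)} (hf : GIT.IsInvSection a φ U f) :
    X.left.presheaf.germ _ _ hU f ∈ Set.range (φ.left.stalkMap (genericPoint X.left)).hom := by
  let ξ := genericPoint X.left
  letI : Field (Y.left.presheaf.stalk (φ.left (genericPoint X.left))) := (isField_stalk hdom).toField
  haveI : CharZero (Y.left.presheaf.stalk (φ.left (genericPoint X.left))) := charZero_stalk hdom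
  letI : Field (X.left.presheaf.stalk (genericPoint X.left)) := inferInstanceAs (Field X.left.functionField)
  letI : Algebra (Y.left.presheaf.stalk (φ.left (genericPoint X.left)))
      (X.left.presheaf.stalk (genericPoint X.left)) := (φ.left.stalkMap (genericPoint X.left)).hom.toAlgebra
  refine mem_range_of_forall_hom fun Ω _ _ v₁ v₂ hv => ?_
  let u₁ : X.left.presheaf.stalk ξ ⟶ CommRingCat.of Ω := CommRingCat.ofHom v₁
  let u₂ : X.left.presheaf.stalk ξ ⟶ CommRingCat.of Ω := CommRingCat.ofHom v₂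
  have hu : φ.left.stalkMap ξ ≫ u₁ = φ.left.stalkMap ξ ≫ u₂ := CommRingCat.hom_ext hv
  let t₁ := Spec.map u₁ ≫ X.left.fromSpecStalk ξ
  let t₂ := Spec.map u₂ ≫ X.left.fromSpecStalk ξ
  have ht : t₁ ≫ φ.left = t₂ ≫ φ.left := by
    simp only [t₁, t₂, Category.assoc, ← Scheme.SpecMap_stalkMap_fromSpecStalk, ← Spec.map_comp_assoc, hu]
  let T : Over S := Over.mk (t₁ ≫ X.hom)
  let x₁ : T ⟶ X := Over.homMk t₁ rfl
  let x₂ : T ⟶ X := Over.homMk t₂ (by
    show t₂ ≫ X.hom = t₁ ≫ X.hom
    rw [← Over.w φ, ← Category.assoc, ← ht, Category.assoc])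
  obtain ⟨g, hg⟩ := hii Ω T (Iso.refl _) x₁ x₂ (Over.OverMorphism.ext ht)
  let d := (lift g x₂).left
  have hd₁ : d ≫ a.act.left = t₁ := congr($(hg).left)
  have hd₂ : d ≫ (snd G X).left = t₂ := congr($(lift_snd g x₂).left)
  let V := φ.left ⁻¹ᵁ U
  let W := a.act.left ⁻¹ᵁ V ⊓ (snd G X).left ⁻¹ᵁ V
  have hdW : ⊤ ≤ d ⁻¹ᵁ W := fun w _ => by
    refine ⟨?_, ?_⟩
    · show a.act.left (d w) ∈ V
      rw [← Scheme.Hom.comp_apply, hd₁]; exact mem_of_fromSpecStalk ξ u₁ V hU (Opens.mem_top w)
    · show (snd G X).left (d w) ∈ V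
      rw [← Scheme.Hom.comp_apply, hd₂]; exact mem_of_fromSpecStalk ξ u₂ V hU (Opens.mem_top w)
  have key := congrArg (d.appLE W ⊤ hdW) hf
  rw [← ConcreteCategory.comp_apply, ← ConcreteCategory.comp_apply, Scheme.Hom.appLE_comp_appLE,
    Scheme.Hom.appLE_comp_appLE] at key
  simp only [hd₁, hd₂] at key
  rw [appLE_fromSpecStalk ξ u₁ V hU, appLE_fromSpecStalk ξ u₂ V hU] at key
  exact (Scheme.ΓSpecIso (CommRingCat.of Ω)).commRingCatIsoToRingEquiv.symm.injective key

/-- The germ of a section of the target at the generic point, pulled back. -/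
theorem germ_app [IsIntegral X.left] (U : Y.left.Opens) (hU : genericPoint X.left ∈ φ.left ⁻¹ᵁ U) (s : Γ(Y.left, U)) :
    X.left.presheaf.germ _ _ hU (φ.left.app U s) =
      φ.left.stalkMap (genericPoint X.left) (Y.left.presheaf.germ U (φ.left (genericPoint X.left)) hU s) :=
  (Scheme.Hom.germ_stalkMap_apply φ.left U _ hU s).symm

theorem app_injective [IsIntegral X.left] [IsIntegral Y.left]
    (hdom : φ.left (genericPoint X.left) = genericPoint Y.left) (U : Y.left.Opens) [Nonempty U] :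
    Function.Injective (φ.left.app U) := by
  intro s t hst
  obtain ⟨y⟩ := ‹Nonempty U›
  have hg : genericPoint Y.left ∈ U := ((genericPoint_spec Y.left).specializes (Set.mem_univ y.1)).mem_open U.2 y.2
  have hU : genericPoint X.left ∈ φ.left ⁻¹ᵁ U := by show φ.left _ ∈ U; rw [hdom]; exact hg
  apply germ_injective_of_isIntegral Y.left (φ.left (genericPoint X.left)) hU
  letI := (isField_stalk hdom).toField
  apply (φ.left.stalkMap (genericPoint X.left)).hom.injective
  show φ.left.stalkMap _ _ = φ.left.stalkMap _ _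
  rw [← germ_app U hU, ← germ_app U hU, hst]

/-- An element of the function field of a normal integral scheme that becomes regular on a scheme
mapping onto an open `U` is regular at every point of `U`. -/
theorem exists_local_section [IsIntegral X.left] [IsIntegral Y.left] [IsLocallyNoetherian Y.left]
    (hY : ∀ U : Y.left.affineOpens, IsIntegrallyClosed Γ(Y.left, U)) (hsurj : Function.Surjective φ.left.base)
    (hdom : φ.left (genericPoint X.left) = genericPoint Y.left) {U : Y.left.Opens}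
    (hU : genericPoint X.left ∈ φ.left ⁻¹ᵁ U) (f : Γ(X.left, φ.left ⁻¹ᵁ U))
    (w : Y.left.presheaf.stalk (φ.left (genericPoint X.left)))
    (hw : φ.left.stalkMap (genericPoint X.left) w = X.left.presheaf.germ _ _ hU f) {y : Y.left} (hy : y ∈ U) :
    ∃ (V : Y.left.Opens) (_ : y ∈ V) (_ : V ≤ U) (hV : φ.left (genericPoint X.left) ∈ V) (s : Γ(Y.left, V)),
      Y.left.presheaf.germ V _ hV s = w := by
  obtain ⟨V, hV, hyV, hVU⟩ := exists_isAffineOpen_mem_and_subset hy
  haveI : Nonempty V := ⟨⟨y, hyV⟩⟩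
  have hgV : genericPoint Y.left ∈ V := ((genericPoint_spec Y.left).specializes (Set.mem_univ y)).mem_open V.2 hyV
  have hxV : φ.left (genericPoint X.left) ∈ V := by rw [hdom]; exact hgV
  haveI : IsNoetherianRing Γ(Y.left, V) := IsLocallyNoetherian.component_noetherian ⟨V, hV⟩
  haveI : IsIntegrallyClosed Γ(Y.left, V) := hY ⟨V, hV⟩
  letI := Y.left.presheaf.algebra_section_stalk ⟨φ.left (genericPoint X.left), hxV⟩
  haveI : IsFractionRing Γ(Y.left, V) (Y.left.presheaf.stalk (φ.left (genericPoint X.left))) := by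
    have H : ∀ (p : Y.left) (hp : p = genericPoint Y.left) (h : p ∈ V),
        letI := Y.left.presheaf.algebra_section_stalk ⟨p, h⟩
        IsFractionRing Γ(Y.left, V) (Y.left.presheaf.stalk p) := by
      intro p hp h; subst hp; exact functionField_isFractionRing_of_isAffineOpen Y.left V hV
    exact H _ hdom hxV
  obtain ⟨⟨c, r, hr⟩, hrc⟩ := IsLocalization.surj (nonZeroDivisors Γ(Y.left, V)) w
  have hr0 : r ≠ 0 := nonZeroDivisors.ne_zero hr
  let ψ := (φ.left.stalkMap (genericPoint X.left)).hom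
  have hψ : Function.Injective ψ := by
    letI := (isField_stalk hdom).toField
    exact ψ.injective
  suffices hdvd : r ∣ c by
    obtain ⟨q, rfl⟩ := hdvd
    refine ⟨V, hyV, hVU, hxV, q, ?_⟩
    rw [map_mul, mul_comm] at hrc
    exact (mul_left_cancel₀ (fun h0 => hr0 (IsFractionRing.injective Γ(Y.left, V)
      (Y.left.presheaf.stalk (φ.left (genericPoint X.left))) (by rw [h0, map_zero]))) hrc).symm
  refine InvGen.dvd_of_forall_height_one hr0 fun p hp hp1 => ?_
  haveI := hp
  let y' : Y.left := hV.fromSpec ⟨p, hp⟩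
  have hy' : y' ∈ V := by
    have : y' ∈ Set.range hV.fromSpec := ⟨_, rfl⟩
    rwa [hV.range_fromSpec] at this
  obtain ⟨x, hx⟩ := hsurj y'
  have hxV' : φ.left x ∈ V := by rw [show φ.left x = y' from hx]; exact hy'
  letI := Y.left.presheaf.algebra_section_stalk ⟨φ.left x, hxV'⟩
  haveI hA : IsLocalization.AtPrime (Y.left.presheaf.stalk (φ.left x)) p := by
    have H : ∀ (q : Y.left) (hq : q = y') (h : q ∈ V),
        letI := Y.left.presheaf.algebra_section_stalk ⟨q, h⟩
        IsLocalization.AtPrime (Y.left.presheaf.stalk q) p := by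
      intro q hq h; subst hq; exact hV.isLocalization_stalk' ⟨p, hp⟩ h
    exact H _ hx hxV'
  let A := Y.left.presheaf.stalk (φ.left x)
  haveI : IsIntegrallyClosed A :=
    isIntegrallyClosed_of_isLocalization _ p.primeCompl p.primeCompl_le_nonZeroDivisors
  haveI : IsNoetherianRing A := IsLocalization.isNoetherianRing p.primeCompl _ inferInstance
  have hdim : ringKrullDim A = 1 := by
    rw [IsLocalization.AtPrime.ringKrullDim_eq_height p A, hp1]; rfl
  have hnf : ¬ IsField A := fun hF => zero_ne_one ((ringKrullDim_eq_zero_of_isField hF).symm.trans hdim)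
  haveI : Ring.KrullDimLE 1 A := Ring.krullDimLE_iff.2 hdim.le
  haveI : IsDiscreteValuationRing A :=
    ((IsDiscreteValuationRing.TFAE _ hnf).out 0 3 :).2 (⟨inferInstance, IsLocalRing.maximalIdeal _,
      ⟨fun e => hnf (IsLocalRing.isField_iff_maximalIdeal_eq.2 e), inferInstance⟩, fun P ⟨hP0, hPp⟩ =>
      IsLocalRing.eq_maximalIdeal (hPp.isMaximal_of_ne_bot hP0)⟩ :
      IsIntegrallyClosed A ∧ ∃! P : Ideal A, P ≠ ⊥ ∧ P.IsPrime)
  suffices hd : algebraMap Γ(Y.left, V) A r ∣ algebraMap Γ(Y.left, V) A c by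
    obtain ⟨q, hq⟩ := hd
    obtain ⟨⟨b, s⟩, hbs⟩ := IsLocalization.surj p.primeCompl q
    refine ⟨s, s.2, b, IsLocalization.injective A p.primeCompl_le_nonZeroDivisors ?_⟩
    rw [map_mul, map_mul, hq, ← hbs]; ring
  rcases ValuationRing.dvd_total (algebraMap Γ(Y.left, V) A r) (algebraMap Γ(Y.left, V) A c) with hd | ⟨v, hv⟩
  · exact hd
  suffices hu : IsUnit v by rw [hv]; exact (hu.mul_right_dvd).2 dvd_rfl
  refine (isUnit_map_iff (φ.left.stalkMap x).hom v).1 ?_
  have hxU : x ∈ φ.left ⁻¹ᵁ U := hVU hxV'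
  refine IsUnit.of_mul_eq_one (X.left.presheaf.germ _ x hxU f) ?_
  have hsp : genericPoint X.left ⤳ x := (genericPoint_spec X.left).specializes (Set.mem_univ x)
  have hsp' : φ.left (genericPoint X.left) ⤳ φ.left x := hsp.map φ.left.continuous
  have hι : Function.Injective (X.left.presheaf.stalkSpecializes hsp).hom := by
    exact IsFractionRing.injective (X.left.presheaf.stalk x) X.left.functionField
  apply hι
  rw [map_one, map_mul, show (X.left.presheaf.stalkSpecializes hsp).hom (X.left.presheaf.germ _ x hxU f) =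
    X.left.presheaf.germ _ _ hU f from X.left.presheaf.germ_stalkSpecializes_apply hxU hsp f, ← hw]
  have hnat : (X.left.presheaf.stalkSpecializes hsp).hom ((φ.left.stalkMap x).hom v) =
      ψ ((Y.left.presheaf.stalkSpecializes hsp').hom v) :=
    (Scheme.Hom.stalkSpecializes_stalkMap_apply φ.left _ _ hsp v).symm
  rw [hnat]
  show ψ _ * ψ w = 1
  rw [← map_mul, ← map_one ψ]
  refine congrArg ψ ?_
  have halg : ∀ t : Γ(Y.left, V), (Y.left.presheaf.stalkSpecializes hsp').hom (algebraMap Γ(Y.left, V) A t) =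
      algebraMap Γ(Y.left, V) (Y.left.presheaf.stalk (φ.left (genericPoint X.left))) t := fun t =>
    Y.left.presheaf.germ_stalkSpecializes_apply hxV' hsp' t
  have h1 := congrArg (Y.left.presheaf.stalkSpecializes hsp').hom hv
  rw [map_mul, halg, halg] at h1
  refine mul_left_cancel₀ (fun h0 => hr0 (IsFractionRing.injective Γ(Y.left, V)
    (Y.left.presheaf.stalk (φ.left (genericPoint X.left))) (h0.trans (map_zero _).symm))) ?_
  rw [_root_.mul_one, ← _root_.mul_assoc]
  calc _ = algebraMap Γ(Y.left, V) _ r * w * (Y.left.presheaf.stalkSpecializes hsp').hom v := by ring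
    _ = algebraMap Γ(Y.left, V) _ c * (Y.left.presheaf.stalkSpecializes hsp').hom v := by
      rw [mul_comm _ w, hrc]
    _ = _ := h1.symm

include hinv in
/-- The invariant sections are exactly the sections of the target. -/
theorem sections [IsIntegral X.left] [IsIntegral Y.left] [IsLocallyNoetherian Y.left]
    [CharZero Y.left.functionField] (hY : ∀ U : Y.left.affineOpens, IsIntegrallyClosed Γ(Y.left, U))
    (hsurj : Function.Surjective φ.left.base) (hdom : φ.left (genericPoint X.left) = genericPoint Y.left)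
    (hii : SepOrbits a φ) (U : Y.left.Opens) :
    Function.Injective (φ.left.app U) ∧ Set.range (φ.left.app U) = {f | GIT.IsInvSection a φ U f} := by
  rcases isEmpty_or_nonempty U with hU | ⟨⟨y₀, hy₀⟩⟩
  · obtain rfl : U = ⊥ := Opens.ext (Set.eq_empty_iff_forall_notMem.2 fun y hy => hU.false ⟨y, hy⟩)
    have hbot : φ.left ⁻¹ᵁ (⊥ : Y.left.Opens) = ⊥ := Opens.ext rfl
    haveI : Subsingleton Γ(Y.left, (⊥ : Y.left.Opens)) :=
      CommRingCat.subsingleton_of_isTerminal Y.left.sheaf.isTerminalOfEmpty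
    haveI : Subsingleton Γ(X.left, φ.left ⁻¹ᵁ (⊥ : Y.left.Opens)) := by
      rw [hbot]; exact CommRingCat.subsingleton_of_isTerminal X.left.sheaf.isTerminalOfEmpty
    haveI : Subsingleton Γ((G ⊗ X).left, a.act.left ⁻¹ᵁ (φ.left ⁻¹ᵁ ⊥) ⊓ (snd G X).left ⁻¹ᵁ (φ.left ⁻¹ᵁ ⊥)) := by
      rw [hbot, show a.act.left ⁻¹ᵁ ⊥ ⊓ (snd G X).left ⁻¹ᵁ ⊥ = ⊥ from Opens.ext (by simp)]
      exact CommRingCat.subsingleton_of_isTerminal (G ⊗ X).left.sheaf.isTerminalOfEmpty
    exact ⟨fun _ _ _ => Subsingleton.elim _ _, Set.ext fun f => ⟨fun _ => Subsingleton.elim _ _,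
      fun _ => ⟨0, Subsingleton.elim _ _⟩⟩⟩
  haveI : Nonempty U := ⟨⟨y₀, hy₀⟩⟩
  have hgU : φ.left (genericPoint X.left) ∈ U := by
    rw [hdom]; exact ((genericPoint_spec Y.left).specializes (Set.mem_univ y₀)).mem_open U.2 hy₀
  have hinj := app_injective hdom U
  refine ⟨hinj, Set.Subset.antisymm ?_ fun f hf => ?_⟩
  · rintro _ ⟨s, rfl⟩
    show _ = _
    simp only [Scheme.Hom.app_eq_appLE, ← ConcreteCategory.comp_apply, Scheme.Hom.appLE_comp_appLE]
    simp only [hinv.left]
  obtain ⟨w, hw⟩ := germ_mem_range a hdom hii (U := U) hgU hf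
  choose V hyV hVU hgV s hs using fun y : U => exists_local_section hY hsurj hdom hgU f w hw y.2
  obtain ⟨σ, hσ, -⟩ := Y.left.sheaf.existsUnique_gluing' V U (fun y => homOfLE (hVU y))
    (fun y hy => Opens.mem_iSup.2 ⟨⟨y, hy⟩, hyV ⟨y, hy⟩⟩) s (fun i j => by
      apply germ_injective_of_isIntegral Y.left (φ.left (genericPoint X.left))
        (show φ.left (genericPoint X.left) ∈ V i ⊓ V j from ⟨hgV i, hgV j⟩)
      exact ((Y.left.presheaf.germ_res_apply (Opens.infLELeft (V i) (V j)) _ _ (s i)).trans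
        ((hs i).trans (hs j).symm)).trans
        (Y.left.presheaf.germ_res_apply (Opens.infLERight (V i) (V j)) _ _ (s j)).symm)
  refine ⟨σ, germ_injective_of_isIntegral X.left (genericPoint X.left) hgU ?_⟩
  rw [germ_app U hgU, ← hw]
  refine congrArg _ ?_
  rw [← hs ⟨y₀, hy₀⟩, ← hσ ⟨y₀, hy₀⟩]
  exact (Y.left.presheaf.germ_res_apply (homOfLE (hVU ⟨y₀, hy₀⟩)) _ _ σ).symm

end Groth.Agent.GITss.Rel
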