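import Groth.Agent.GITss.Stab
import Groth.Agent.AffQuot.Orbit
import Groth.Agent.GrpAct.Basic

/-!
# Stabilisers along orbits and under equivariant monomorphisms
-/

set_option autoImplicit false
set_option backward.isDefEq.respectTransparency false
set_option linter.style.haveILetI false

universe u

open CategoryTheory CategoryTheory.Limits MonoidalCategory CartesianMonoidalCategory MonObj GrpObj AlgebraicGeometry
open TopologicalSpace

noncomputable section

namespace Groth.Agent.GITss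

/-- Every point carries a geometric point. -/
theorem exists_geomPoint {S : Scheme.{u}} {Z : Over S} (z : Z.left) :
    ∃ (Ω : Type u) (_ : Field Ω) (_ : IsAlgClosed Ω) (T : Over S) (_ : T.left ≅ Spec (CommRingCat.of Ω))
      (f : T ⟶ Z), Set.range f.left.base = {z} := by
  let K : Type u := Z.left.residueField z
  let Ω := AlgebraicClosure K
  let p : Spec (CommRingCat.of Ω) ⟶ Z.left :=
    Spec.map (CommRingCat.ofHom (algebraMap K Ω)) ≫ Z.left.fromSpecResidueField z
  let T : Over S := Over.mk (p ≫ Z.hom)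
  refine ⟨Ω, inferInstance, inferInstance, T, Iso.refl _, Over.homMk p, ?_⟩
  have h : ∀ t, p t = z := fun t => by
    have : p t ∈ Set.range (Z.left.fromSpecResidueField z) := ⟨_, rfl⟩
    rwa [Scheme.range_fromSpecResidueField, Set.mem_singleton_iff] at this
  refine Set.Subset.antisymm ?_ (Set.singleton_subset_iff.2 ⟨IsLocalRing.closedPoint Ω, h _⟩)
  rintro _ ⟨t, rfl⟩
  exact h t

variable {S : Scheme.{u}} {G X : Over S} [GrpObj G] (a : AlgGrp.Action G X)

/-- An equivariant monomorphism preserves stabilisers. -/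
theorem exists_iso_stab_of_mono {U : Over S} {b : AlgGrp.Action G U} (j : U ⟶ X) [Mono j]
    (hb : b.act ≫ j = (G ◁ j) ≫ a.act) {T : Over S} (f : T ⟶ U) :
    ∃ e : GLinSh.stab b f ≅ GLinSh.stab a (f ≫ j), e.hom ≫ GLinSh.stabTo a (f ≫ j) = GLinSh.stabTo b f := by
  haveI : Mono (j ▷ T) := ⟨fun p q e => CartesianMonoidalCategory.hom_ext _ _
    ((cancel_mono j).1 (by simpa using congr($e ≫ fst X T))) (by simpa using congr($e ≫ snd X T))⟩
  have he : GIT.psi b f ≫ j ▷ T = GIT.psi a (f ≫ j) := by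
    refine CartesianMonoidalCategory.hom_ext _ _ ?_ ?_
    · rw [Category.assoc, whiskerRight_fst, ← Category.assoc, GIT.psi, lift_fst, Category.assoc, hb,
        GIT.psi, lift_fst, MonoidalCategory.whiskerLeft_comp, Category.assoc]
    · rw [Category.assoc, whiskerRight_snd, GIT.psi, lift_snd, GIT.psi, lift_snd]
  have hl : lift f (𝟙 T) ≫ j ▷ T = lift (f ≫ j) (𝟙 T) := by
    apply CartesianMonoidalCategory.hom_ext <;> simp
  have sq₂ : IsPullback (𝟙 T) (lift f (𝟙 T)) (lift (f ≫ j) (𝟙 T)) (j ▷ T) :=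
    IsPullback.of_horiz_isIso_mono ⟨by rw [Category.id_comp, hl]⟩
  have h := (EqInt.isPullback_stabE b f).paste_vert (v₂₁ := 𝟙 T) (v₂₂ := j ▷ T) (h₃₁ := lift (f ≫ j) (𝟙 T))
    sq₂.flip
  rw [he, Category.comp_id] at h
  let e := h.isoIsPullback _ _ (EqInt.isPullback_stabE a (f ≫ j))
  refine ⟨(Over.forget S).mapIso e, ?_⟩
  exact congr($(h.isoIsPullback_hom_snd _ _ (EqInt.isPullback_stabE a (f ≫ j))).left)

/-- Stabilisers of two points of one orbit are isomorphic. -/
theorem exists_iso_stab_translate {T : Over S} (f : T ⟶ X) (gam : T ⟶ G) :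
    ∃ e : GLinSh.stab a f ≅ GLinSh.stab a (lift gam f ≫ a.act),
      e.hom ≫ GLinSh.stabTo a (lift gam f ≫ a.act) = GLinSh.stabTo a f := by
  let f' := lift gam f ≫ a.act
  let θ : ∀ _ : T ⟶ G, G ⊗ T ⟶ G ⊗ T := fun δ =>
    lift ((snd G T ≫ δ) * fst G T * (snd G T ≫ δ)⁻¹) (snd G T)
  let L : ∀ _ : T ⟶ G, X ⊗ T ⟶ X ⊗ T := fun δ => lift (lift (snd X T ≫ δ) (fst X T) ≫ a.act) (snd X T)
  have hθ : ∀ δ, θ δ⁻¹ ≫ θ δ = 𝟙 _ := fun δ => by
    simp only [θ, comp_lift, MonObj.comp_mul, GrpObj.comp_inv, lift_fst, lift_snd, ← Category.assoc]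
    rw [← lift_fst_snd]
    congr 1
    group
  have hL : ∀ δ, L δ⁻¹ ≫ L δ = 𝟙 _ := fun δ => by
    simp only [L, comp_lift, lift_fst, lift_snd, ← Category.assoc]
    rw [← lift_fst_snd]
    congr 1
    rw [← GrpAct.mul_smul, GrpObj.comp_inv, mul_inv_cancel, GrpAct.one_smul']
  let θi : G ⊗ T ≅ G ⊗ T := ⟨θ gam, θ gam⁻¹, by simpa only [_root_.inv_inv] using hθ gam⁻¹, hθ gam⟩
  let Li : X ⊗ T ≅ X ⊗ T := ⟨L gam, L gam⁻¹, by simpa only [_root_.inv_inv] using hL gam⁻¹, hL gam⟩
  have hsq : GIT.psi a f ≫ L gam = θ gam ≫ GIT.psi a f' := by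
    apply CartesianMonoidalCategory.hom_ext
    · have hw : ∀ {Z : Over S} (q : Z ⟶ X) (r : T ⟶ X), G ◁ r = lift (fst G T) (snd G T ≫ r) := fun q r => by
        apply CartesianMonoidalCategory.hom_ext <;> simp
      simp only [L, θ, GIT.psi, f', Category.assoc, lift_fst, comp_lift_assoc, lift_snd, lift_fst_assoc,
        lift_whiskerLeft_assoc]
      simp only [← Category.assoc, lift_fst, lift_snd, hw f f]
      rw [← GrpAct.mul_smul, ← GrpAct.mul_smul, inv_mul_cancel_right]
    · simp [L, θ, GIT.psi]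
  have hl : lift f (𝟙 T) ≫ L gam = lift f' (𝟙 T) := by
    apply CartesianMonoidalCategory.hom_ext
    · simp only [L, f', Category.assoc, lift_fst, comp_lift_assoc, lift_snd_assoc, Category.id_comp]
    · simp [L]
  have h : IsPullback (EqInt.incl a f ≫ θ gam) (EqInt.proj a f) (GIT.psi a f') (lift f' (𝟙 T)) :=
    IsPullback.of_iso (EqInt.isPullback_stabE a f) (Iso.refl _) θi (Iso.refl _) Li
      (by simp [θi]) (by simp) (by exact hsq) (by simpa [Li] using hl)
  refine ⟨(Over.forget S).mapIso (h.isoIsPullback _ _ (EqInt.isPullback_stabE a f')), ?_⟩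
  exact congr($(h.isoIsPullback_hom_snd _ _ (EqInt.isPullback_stabE a f')).left)

section Field

variable {k : Type u} [Field k] {G X : Over (Spec (CommRingCat.of k))} [GrpObj G] (a : AlgGrp.Action G X)
  [LocallyOfFiniteType G.hom] [QuasiCompact G.hom] [LocallyOfFiniteType X.hom] [QuasiCompact X.hom]

/-- The open of points with finite stabiliser. -/
def finOpen : X.left.Opens := ⟨_, isOpen_finite_stab a⟩

theorem stable_finOpen : AffQuot.Good.Stable a.act.left (snd G X).left (finOpen a : Set X.left) := by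
  intro t ht
  obtain ⟨Ω, _, _, T, e, q, hq⟩ := exists_geomPoint (Z := G ⊗ X) t
  let f := q ≫ snd G X
  have hf : Set.range f.left.base = {(snd G X).left t} := by
    show Set.range (⇑(snd G X).left ∘ ⇑q.left) = _
    rw [Set.range_comp, hq, Set.image_singleton]
  have hf' : Set.range (lift (q ≫ fst G X) f ≫ a.act).left.base = {a.act.left t} := by
    rw [← comp_lift, lift_fst_snd, Category.comp_id]
    show Set.range (⇑a.act.left ∘ ⇑q.left) = _
    rw [Set.range_comp, hq, Set.image_singleton]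
  obtain ⟨i, hi⟩ := exists_iso_stab_translate a f (q ≫ fst G X)
  haveI : IsFinite (GLinSh.stabTo a f) := (isFinite_stab_iff a e f hf).2 ht
  show (GLinSh.stabTo a (𝟙 X) ⁻¹' {a.act.left t}).Finite
  refine (isFinite_stab_iff a e _ hf').1 ?_
  rw [show GLinSh.stabTo a (lift (q ≫ fst G X) f ≫ a.act) = i.inv ≫ GLinSh.stabTo a f by
    rw [← hi, i.inv_hom_id_assoc]]
  infer_instance

theorem mem_finOpen_iff (x : X.left) : x ∈ finOpen a ↔
    ∀ (Ω : Type u) [Field Ω] [IsAlgClosed Ω] (T : Over (Spec (CommRingCat.of k)))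
      (_ : T.left ≅ Spec (CommRingCat.of Ω)) (f : T ⟶ X),
      Set.range f.left.base = {x} → IsFinite (GLinSh.stabTo a f) := by
  refine ⟨fun hx Ω _ _ T e f hf => (isFinite_stab_iff a e f hf).2 hx, fun h => ?_⟩
  obtain ⟨Ω, _, _, T, e, f, hf⟩ := exists_geomPoint (Z := X) x
  exact (isFinite_stab_iff a e f hf).1 (h Ω T e f hf)

/-- An equivariant monomorphism into a finite-stabiliser open has finite stabilisers. -/
theorem finite_stab_of_mono {U : Over (Spec (CommRingCat.of k))} [LocallyOfFiniteType U.hom] [QuasiCompact U.hom]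
    {b : AlgGrp.Action G U} (j : U ⟶ X) [Mono j] (hb : b.act ≫ j = (G ◁ j) ≫ a.act) {y : U.left}
    (hy : j.left y ∈ finOpen a) : (GLinSh.stabTo b (𝟙 U) ⁻¹' {y}).Finite := by
  obtain ⟨Ω, _, _, T, e, f, hf⟩ := exists_geomPoint (Z := U) y
  obtain ⟨i, hi⟩ := exists_iso_stab_of_mono a j hb f
  have hf' : Set.range (f ≫ j).left.base = {j.left y} := by
    show Set.range (⇑j.left ∘ ⇑f.left) = _
    rw [Set.range_comp, hf, Set.image_singleton]
  haveI := (isFinite_stab_iff a e _ hf').2 hy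
  exact (isFinite_stab_iff b e f hf).1 (by rw [← hi]; infer_instance)

end Field

end Groth.Agent.GITss
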