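import Groth.Agent.GITss.Ample
import Groth.Agent.GITss.Stable
import Groth.Agent.GITss.StabConj
import Groth.Agent.AffQuot.Finite
import Mathlib.AlgebraicGeometry.Morphisms.Proper

/-!
# Properness of the action on the properly stable locus
-/

set_option autoImplicit false
set_option backward.isDefEq.respectTransparency false
set_option linter.style.haveILetI false

universe u

open CategoryTheory MonoidalCategory CartesianMonoidalCategory MonObj GrpObj AlgebraicGeometry
open TopologicalSpace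

noncomputable section

namespace Groth.Agent.GITss

open AffQuot Limits

section General

variable {S : Scheme.{u}} {G X Y : Over S} [GrpObj G] {a : AlgGrp.Action G X} {U : X.left.Opens}
  {aU : AlgGrp.Action G (opn U)} {φ : opn U ⟶ Y}

/-- A good quotient restricts to saturated stable opens. -/
theorem exists_restrict (hg : GoodAct aU φ) (haU : aU.act ≫ inc U = (G ◁ inc U) ≫ a.act) [IsAffineHom φ.left]
    {W : X.left.Opens} (hWU : W ≤ U) {b : AlgGrp.Action G (opn W)} (hb : b.act ≫ inc W = (G ◁ inc W) ≫ a.act)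
    {V : Y.left.Opens} (hV : φ.left ⁻¹ᵁ V = U.ι ⁻¹ᵁ W) :
    ∃ φW : opn W ⟶ opn V, GoodAct b φW ∧ IsAffineHom φW.left := by
  have hrange : φ.left ⁻¹ᵁ V = (res' hWU).left.opensRange := by
    rw [hV]
    exact (Scheme.opensRange_homOfLE hWU).symm
  let φ₀ := IsOpenImmersion.lift V.ι ((res' hWU).left ≫ φ.left) (by
    rw [Scheme.Opens.range_ι]
    rintro _ ⟨w, rfl⟩
    exact (hrange.ge ⟨w, rfl⟩ : (res' hWU).left w ∈ φ.left ⁻¹ᵁ V))
  have hφ₀ : φ₀ ≫ V.ι = (res' hWU).left ≫ φ.left := IsOpenImmersion.lift_fac _ _ _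
  let φW : opn W ⟶ opn V := Over.homMk φ₀ (by
    show φ₀ ≫ V.ι ≫ Y.hom = W.ι ≫ X.hom
    rw [reassoc_of% hφ₀, Over.w φ]
    exact Over.w (res' hWU))
  have hsq₀ : IsPullback (res' hWU).left φ₀ φ.left V.ι :=
    (IsOpenImmersion.isPullback φ₀ (res' hWU).left V.ι φ.left hφ₀.symm
      (by rw [Scheme.Opens.opensRange_ι]; exact hrange)).flip
  have hsq : IsPullback (res' hWU) φW φ (inc V) :=
    IsPullback.of_map (Over.forget _) (Over.OverMorphism.ext hφ₀.symm) hsq₀
  have heq : b.act ≫ res' hWU = (G ◁ res' hWU) ≫ aU.act := by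
    rw [← cancel_mono (inc U), Category.assoc, res'_inc, hb, Category.assoc, haU,
      ← MonoidalCategory.whiskerLeft_comp_assoc, res'_inc]
  have hinvU : aU.act ≫ φ = snd G (opn U) ≫ φ := Over.OverMorphism.ext hg.inv
  have hinv : GIT.IsInvariant b φW := by
    show _ = _
    rw [← cancel_mono (inc V), Category.assoc, Category.assoc, ← hsq.w, reassoc_of% heq, hinvU,
      whiskerLeft_snd_assoc]
  exact ⟨φW, goodAct_baseChange hg (res' hWU) φW (inc V) hsq b heq hinv,
    MorphismProperty.of_isPullback (P := @IsAffineHom) hsq₀ ‹_›⟩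

end General

variable {k : Type u} [Field k] [CharZero k] {G X : Over (Spec (CommRingCat.of k))} [GrpObj G]
  {a : AlgGrp.Action G X} {B : GLinSh.LinBun G a}
  [LocallyOfFiniteType X.hom] [QuasiCompact X.hom]

/-- The properly stable locus is open and the action on it is proper. -/
theorem exists_psLocus_proper (hG : Red.IsReductive G) :
    ∃ Up : X.left.Opens, (Up : Set X.left) = B.psLocus ∧
      ∀ b : AlgGrp.Action G (opn Up), b.act ≫ inc Up = (G ◁ inc Up) ≫ a.act →
        IsProper (GIT.psi b (𝟙 (opn Up))).left := by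
  haveI := hG.1
  haveI : IsAffine G.left := isAffine_of_isAffineHom G.hom
  haveI : Smooth G.hom := hG.2.1
  haveI : IsLocallyNoetherian X.left := LocallyOfFiniteType.isLocallyNoetherian X.hom
  haveI : CompactSpace X.left := QuasiCompact.compactSpace_of_compactSpace X.hom
  haveI : IsNoetherian X.left := {}
  let Us : X.left.Opens := ⨆ W : Idx (fun W => SemiOpen B W ∧ GLinSh.ClosedOrbitsOn a W), W.1
  have hUs : (Us : Set X.left) = B.sLocus := by
    ext x
    rw [mem_sLocus_iff, SetLike.mem_coe, Opens.mem_iSup]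
    exact ⟨fun ⟨W, h⟩ => ⟨W.1, W.2.1, W.2.2, h⟩, fun ⟨W, h₁, h₂, h⟩ => ⟨⟨W, h₁, h₂⟩, h⟩⟩
  have hUs_st : IsStableOpen a Us := stable_iSup fun W => qFamily_semiOpen.stable _ W.2.1
  let Up : X.left.Opens := Us ⊓ finOpen a
  have hUp : (Up : Set X.left) = B.psLocus := by
    ext x
    show x ∈ (Us : Set X.left) ∧ x ∈ finOpen a ↔ _
    rw [hUs, mem_finOpen_iff]
    rfl
  refine ⟨Up, hUp, fun b hb => ?_⟩
  have hUp_st : IsStableOpen a Up := stable_inf hUs_st (stable_finOpen a)
  let U : X.left.Opens := ⨆ W : Idx (SemiOpen B), W.1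
  have hU : (U : Set X.left) = B.ssLocus := by
    ext x
    rw [mem_ssLocus_iff, SetLike.mem_coe, Opens.mem_iSup]
    exact ⟨fun ⟨W, h⟩ => ⟨W.1, W.2, h⟩, fun ⟨W, h₁, h⟩ => ⟨⟨W, h₁⟩, h⟩⟩
  have hsU : Us ≤ U := iSup_le fun W => le_iSup_of_le (⟨W.1, W.2.1⟩ : Idx (SemiOpen B)) le_rfl
  have hpU : Up ≤ U := inf_le_left.trans hsU
  have hU_st : IsStableOpen a U := stable_iSup fun W => qFamily_semiOpen.stable _ W.2
  let aU := resAct hU_st
  have haU := resAct_inc hU_st
  obtain ⟨Y, φ, hg, _, -, hV⟩ := exists_quotient_ssLocus hG hU aU haU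
  obtain ⟨M, hM⟩ := exists_isAmple hU (NoetherianSpace.isCompact _) haU hg hV
  haveI : Y.left.IsSeparated := TMul.isSeparated_of_isAmple hM
  obtain ⟨Yt, φs, hφs, hYt, hgq, -⟩ :=
    exists_geomQuot_sLocus hG hU haU (isCatQuot_of_goodAct hg) hUs hsU (resAct_inc hUs_st)
  -- the image of the complement is closed and avoids the properly stable points
  let C : Set Y.left := φ.left '' (U.ι ⁻¹' (Up : Set X.left))ᶜ
  have hst : Good.Stable aU.act.left (snd G (opn U)).left (U.ι ⁻¹' (Up : Set X.left)) :=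
    stable_preimage (f := inc U) haU hUp_st
  have hC : IsClosed C :=
    hg.isClosed_image (Up.isOpen.preimage U.ι.continuous).isClosed_compl (stable_compl hst)
  let V : Y.left.Opens := ⟨Cᶜ, hC.isOpen_compl⟩
  have hsat : ∀ x x' : (opn U).left, U.ι x ∈ Up → φ.left x' = φ.left x → U.ι x' ∈ Up := by
    intro x x' hx he
    have hxt : φ.left x ∈ Yt := hYt.ge (show U.ι x ∈ Us from hx.1)
    have hx't : U.ι x' ∈ Us := hYt.le (show φ.left x' ∈ Yt by rw [he]; exact hxt)
    let z : (opn Us).left := (⟨U.ι x, hx.1⟩ : (Us : Scheme))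
    let z' : (opn Us).left := (⟨U.ι x', hx't⟩ : (Us : Scheme))
    have hz : (X.left.homOfLE hsU) z = x := U.ι.isOpenEmbedding.injective (res'_apply hsU z)
    have hz' : (X.left.homOfLE hsU) z' = x' := U.ι.isOpenEmbedding.injective (res'_apply hsU z')
    have hzz : φs.left z' = φs.left z := by
      apply Yt.ι.isOpenEmbedding.injective
      have e := fun p => congr($hφs p)
      exact ((e z').trans (congrArg φ.left hz')).trans (he.trans ((e z).trans (congrArg φ.left hz)).symm)
    obtain ⟨w, hw₁, hw₂⟩ := Scheme.Pullback.exists_preimage_pullback z' z hzz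
    obtain ⟨t, ht⟩ := hgq.orbit w
    have h₁ : (resAct hUs_st).act.left t = z' := by
      rw [← hw₁, ← ht, ← Scheme.Hom.comp_apply, GIT.PsiY, pullback.lift_fst]
    have h₂ : (snd G (opn Us)).left t = z := by
      rw [← hw₂, ← ht, ← Scheme.Hom.comp_apply, GIT.PsiY, pullback.lift_snd]
    have hsUs : Good.Stable (resAct hUs_st).act.left (snd G (opn Us)).left (Us.ι ⁻¹' (Up : Set X.left)) :=
      stable_preimage (f := inc Us) (resAct_inc hUs_st) hUp_st
    have := hsUs (show (snd G (opn Us)).left t ∈ Us.ι ⁻¹' (Up : Set X.left) by rw [h₂]; exact hx)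
    rw [Set.mem_preimage, h₁] at this
    exact this
  have hpre : φ.left ⁻¹ᵁ V = U.ι ⁻¹ᵁ Up := by
    refine Opens.ext (Set.ext fun x => ⟨fun hx => ?_, fun hx => ?_⟩)
    · by_contra h
      exact hx ⟨x, h, rfl⟩
    · rintro ⟨x', hx', he⟩
      exact hx' (hsat x x' hx he)
  obtain ⟨φp, hgp, _⟩ := exists_restrict hg haU hpU hb hpre
  have hinv : GIT.IsInvariant b φp := Over.OverMorphism.ext hgp.inv
  have hclosed : GIT.IsClosedAction b := by
    refine isClosedAction_of_closedOrbitsOn hb (closedOrbitsOn_of_cover fun y hy => ?_)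
    have hy' : y ∈ (Us : Set X.left) := hy.1
    rw [hUs, mem_sLocus_iff] at hy'
    obtain ⟨W, hW, hcl, hyW⟩ := hy'
    exact ⟨W, hyW, qFamily_semiOpen.stable W hW, hcl⟩
  haveI : LocallyOfFiniteType (opn Up).hom := inferInstanceAs (LocallyOfFiniteType (Up.ι ≫ X.hom))
  haveI : QuasiCompact (opn Up).hom := inferInstanceAs (QuasiCompact (Up.ι ≫ X.hom))
  haveI : IsSeparated (opn V).hom := by
    haveI : IsSeparated (V.ι ≫ Y.hom) := inferInstance
    exact ‹_›
  let j : Limits.pullback φp.left φp.left ⟶ Limits.pullback (opn Up).hom (opn Up).hom :=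
    pullback.mapDesc φp.left φp.left (opn V).hom ≫ (pullback.congrHom (Over.w φp) (Over.w φp)).hom
  have hj : GIT.PsiY b φp hinv ≫ j = (GIT.psi b (𝟙 (opn Up))).left := by
    apply pullback.hom_ext
    · have e : GIT.psi b (𝟙 (opn Up)) ≫ fst _ _ = b.act := by
        simp [GIT.psi]
      exact (by simp [j, GIT.PsiY] : (GIT.PsiY b φp hinv ≫ j) ≫ pullback.fst _ _ = b.act.left).trans
        congr($(e).left).symm
    · have e : GIT.psi b (𝟙 (opn Up)) ≫ snd _ _ = snd G (opn Up) := by
        simp [GIT.psi]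
      exact (by simp [j, GIT.PsiY] : (GIT.PsiY b φp hinv ≫ j) ≫ pullback.snd _ _ =
        (snd G (opn Up)).left).trans congr($(e).left).symm
  obtain ⟨_, _⟩ := finiteType_stabTo b
  have hfin : LocallyQuasiFinite (Limits.pullback.snd (GIT.psi b (𝟙 (opn Up))).left
      (lift (𝟙 (opn Up)) (𝟙 (opn Up))).left) := by
    show LocallyQuasiFinite (GLinSh.stabTo b (𝟙 (opn Up)))
    exact LocallyQuasiFinite.of_finite_preimage_singleton _ fun y =>
      finite_stab_of_mono a (inc Up) hb (show (inc Up).left y ∈ finOpen a from y.2.2)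
  haveI : LocallyOfFiniteType (G ⊗ opn Up).hom :=
    inferInstanceAs (LocallyOfFiniteType (pullback.fst G.hom (opn Up).hom ≫ G.hom))
  haveI : QuasiCompact (G ⊗ opn Up).hom := inferInstanceAs (QuasiCompact (pullback.fst G.hom (opn Up).hom ≫ G.hom))
  haveI : IsLocallyNoetherian (G ⊗ opn Up).left := LocallyOfFiniteType.isLocallyNoetherian (G ⊗ opn Up).hom
  haveI : CompactSpace (G ⊗ opn Up).left := QuasiCompact.compactSpace_of_compactSpace (G ⊗ opn Up).hom
  haveI : IsNoetherian (G ⊗ opn Up).left := {}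
  haveI hψft : LocallyOfFiniteType (GIT.psi b (𝟙 (opn Up))).left := by
    haveI : LocallyOfFiniteType ((GIT.psi b (𝟙 (opn Up))).left ≫ (opn Up ⊗ opn Up).hom) := by
      rw [Over.w]; infer_instance
    exact locallyOfFiniteType_of_comp _ (opn Up ⊗ opn Up).hom
  haveI hψq : LocallyQuasiFinite (GIT.psi b (𝟙 (opn Up))).left := locallyQuasiFinite_psi b hfin
  haveI : LocallyQuasiFinite (GIT.PsiY b φp hinv) := by
    rw [← hj] at hψq
    exact LocallyQuasiFinite.of_comp _ j
  haveI : LocallyOfFiniteType (GIT.PsiY b φp hinv) := by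
    rw [← hj] at hψft
    exact locallyOfFiniteType_of_comp _ j
  obtain ⟨H, _, _, eG, _, hH, -⟩ := exists_linearlyReductive_hopf hG
  haveI := isFinite_PsiY b φp hinv eG hH hclosed
  rw [← hj]
  infer_instance

end Groth.Agent.GITss
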