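import Groth.Agent.EqInt.StabGrp
import Groth.Agent.GrpDim.Flat
import Groth.Agent.Blanchard.Main
import Mathlib.AlgebraicGeometry.Artinian
import Mathlib.AlgebraicGeometry.Morphisms.QuasiFinite
import Mathlib.AlgebraicGeometry.Fiber

/-!
# The family of stabilisers of an action
-/

set_option autoImplicit false
set_option backward.isDefEq.respectTransparency false
set_option linter.style.haveILetI false

universe u

open CategoryTheory CategoryTheory.Limits MonoidalCategory CartesianMonoidalCategory MonObj AlgebraicGeometry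
open TopologicalSpace

noncomputable section

namespace Groth.Agent.GITss

section General

variable {S : Scheme.{u}} {G X : Over S} [GrpObj G] (a : AlgGrp.Action G X)

/-- The stabiliser of a point is pulled back from the family of stabilisers. -/
theorem exists_isPullback_stab {T : Over S} (f : T ⟶ X) :
    ∃ m : GLinSh.stab a f ⟶ GLinSh.stab a (𝟙 X),
      IsPullback m (GLinSh.stabTo a f) (GLinSh.stabTo a (𝟙 X)) f.left := by
  have h₁ : IsPullback (snd G T) (G ◁ f) f (snd G X) := Blanchard.isPullback_whiskerLeft G f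
  have h₂ : IsPullback (snd X T) (X ◁ f) f (snd X X) := Blanchard.isPullback_whiskerLeft X f
  have hψ : IsPullback (G ◁ f) (GIT.psi a f) (GIT.psi a (𝟙 X)) (X ◁ f) := by
    refine IsPullback.of_bot (v₂₁ := snd X T) (v₂₂ := snd X X) (h₃₁ := f) ?_ ?_ h₂.flip
    · rw [GIT.psi, GIT.psi, lift_snd, lift_snd]
      exact h₁.flip
    · apply CartesianMonoidalCategory.hom_ext
      · simp [GIT.psi]
      · simp [GIT.psi]
  have hbig : IsPullback (EqInt.incl a f ≫ G ◁ f) (EqInt.proj a f) (GIT.psi a (𝟙 X))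
      (f ≫ lift (𝟙 X) (𝟙 X)) := by
    have e : lift f (𝟙 T) ≫ X ◁ f = f ≫ lift (𝟙 X) (𝟙 X) := by
      apply CartesianMonoidalCategory.hom_ext <;> simp
    rw [← e]
    exact (EqInt.isPullback_stabE a f).paste_horiz hψ
  have h3 := EqInt.isPullback_stabE a (𝟙 X)
  let m : EqInt.stabE a f ⟶ EqInt.stabE a (𝟙 X) :=
    h3.lift (EqInt.incl a f ≫ G ◁ f) (EqInt.proj a f ≫ f) (by rw [hbig.w, Category.assoc])
  have sq : IsPullback m (EqInt.proj a f) (EqInt.proj a (𝟙 X)) f :=
    IsPullback.of_right (by rw [h3.lift_fst]; exact hbig) (h3.lift_snd _ _ _) h3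
  exact ⟨m.left, sq.map (Over.forget S)⟩

end General

variable {k : Type u} [Field k] {G X : Over (Spec (CommRingCat.of k))} [GrpObj G] (a : AlgGrp.Action G X)
  [LocallyOfFiniteType G.hom] [QuasiCompact G.hom] [LocallyOfFiniteType X.hom] [QuasiCompact X.hom]

theorem finiteType_stabTo : LocallyOfFiniteType (GLinSh.stabTo a (𝟙 X)) ∧ QuasiCompact (GLinSh.stabTo a (𝟙 X)) := by
  haveI : IsLocallyNoetherian X.left := LocallyOfFiniteType.isLocallyNoetherian X.hom
  haveI : LocallyOfFiniteType (G ⊗ X).hom :=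
    inferInstanceAs (LocallyOfFiniteType (pullback.fst G.hom X.hom ≫ G.hom))
  haveI : QuasiCompact (G ⊗ X).hom := inferInstanceAs (QuasiCompact (pullback.fst G.hom X.hom ≫ G.hom))
  haveI : IsLocallyNoetherian (G ⊗ X).left := LocallyOfFiniteType.isLocallyNoetherian (G ⊗ X).hom
  haveI : CompactSpace (G ⊗ X).left := QuasiCompact.compactSpace_of_compactSpace (G ⊗ X).hom
  haveI : IsNoetherian (G ⊗ X).left := {}
  haveI : LocallyOfFiniteType (GIT.psi a (𝟙 X)).left := by
    haveI : LocallyOfFiniteType ((GIT.psi a (𝟙 X)).left ≫ (X ⊗ X).hom) := by rw [Over.w]; infer_instance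
    exact locallyOfFiniteType_of_comp _ (X ⊗ X).hom
  exact ⟨inferInstanceAs (LocallyOfFiniteType (pullback.snd _ _)),
    inferInstanceAs (QuasiCompact (pullback.snd _ _))⟩

/-- The stabiliser fibre is finite exactly when it has dimension at most zero. -/
theorem finite_iff_dim_le (x : X.left) :
    (GLinSh.stabTo a (𝟙 X) ⁻¹' {x}).Finite ↔
      topologicalKrullDim ↥(GLinSh.stabTo a (𝟙 X) ⁻¹' {x}) ≤ 0 := by
  obtain ⟨_, _⟩ := finiteType_stabTo a
  let st := GLinSh.stabTo a (𝟙 X)
  haveI : LocallyOfFiniteType (st.fiberToSpecResidueField x) :=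
    MorphismProperty.pullback_snd (P := @LocallyOfFiniteType) _ _ ‹_›
  haveI : QuasiCompact (st.fiberToSpecResidueField x) :=
    MorphismProperty.pullback_snd (P := @QuasiCompact) _ _ ‹_›
  let e := st.fiberHomeo x
  haveI : IsLocallyNoetherian (st.fiber x) := LocallyOfFiniteType.isLocallyNoetherian (st.fiberToSpecResidueField x)
  haveI : CompactSpace (st.fiber x) := QuasiCompact.compactSpace_of_compactSpace (st.fiberToSpecResidueField x)
  haveI : JacobsonSpace (st.fiber x) := LocallyOfFiniteType.jacobsonSpace (st.fiberToSpecResidueField x)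
  rw [← IsHomeomorph.topologicalKrullDim_eq _ e.isHomeomorph, ← Set.finite_coe_iff, ← e.toEquiv.finite_iff]
  constructor
  · intro h
    haveI := h
    exact topologicalKrullDim_zero_of_discreteTopology _
  · intro h
    haveI := IsLocallyArtinian.of_topologicalKrullDim_le_zero h
    haveI : IsArtinianScheme (st.fiber x) := {}
    infer_instance

/-- The points with finite stabiliser form an open set. -/
theorem isOpen_finite_stab : IsOpen {x : X.left | (GLinSh.stabTo a (𝟙 X) ⁻¹' {x}).Finite} := by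
  obtain ⟨_, _⟩ := finiteType_stabTo a
  obtain ⟨_⟩ := EqInt.nonempty_grpObj_stab a (𝟙 X)
  haveI : LocallyOfFiniteType (Over.mk (GLinSh.stabTo a (𝟙 X))).hom := ‹LocallyOfFiniteType (GLinSh.stabTo a (𝟙 X))›
  have h := GrpDim.upperSemicontinuous_dim (Over.mk (GLinSh.stabTo a (𝟙 X)))
  rw [isOpen_iff_mem_nhds]
  intro x hx
  have hlt : topologicalKrullDim ↥(GLinSh.stabTo a (𝟙 X) ⁻¹' {x}) < 1 :=
    lt_of_le_of_lt ((finite_iff_dim_le a x).1 hx) zero_lt_one
  filter_upwards [h x 1 hlt] with y hy
  refine (finite_iff_dim_le a y).2 ?_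
  have hy' : topologicalKrullDim ↥(GLinSh.stabTo a (𝟙 X) ⁻¹' {y}) < 1 := hy
  revert hy'
  generalize topologicalKrullDim ↥(GLinSh.stabTo a (𝟙 X) ⁻¹' {y}) = d
  intro hy'
  induction d using WithBot.recBotCoe with
  | bot => exact bot_le
  | coe n => exact WithBot.coe_le_coe.2 (le_of_eq (ENat.lt_one_iff_eq_zero.1 (WithBot.coe_lt_coe.1 hy')))

/-- Finiteness of the stabiliser of a geometric point only depends on the underlying point. -/
theorem isFinite_stab_iff {Ω : Type u} [Field Ω] {T : Over (Spec (CommRingCat.of k))}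
    (e : T.left ≅ Spec (CommRingCat.of Ω)) (f : T ⟶ X) {x : X.left} (hx : Set.range f.left.base = {x}) :
    IsFinite (GLinSh.stabTo a f) ↔ (GLinSh.stabTo a (𝟙 X) ⁻¹' {x}).Finite := by
  obtain ⟨_, _⟩ := finiteType_stabTo a
  obtain ⟨m, sq⟩ := exists_isPullback_stab a f
  constructor
  · intro h
    haveI : Finite T.left := Finite.of_equiv _ e.hom.homeomorph.toEquiv.symm
    haveI : Finite ↥(GLinSh.stab a f) := Set.finite_univ_iff.1 ((Set.Finite.subset
      (Set.finite_iUnion fun t : T.left => (GLinSh.stabTo a f).finite_preimage_singleton t))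
      fun p _ => Set.mem_iUnion.2 ⟨GLinSh.stabTo a f p, rfl⟩)
    refine (Set.finite_range m).subset fun z hz => ?_
    obtain ⟨t, ht⟩ : x ∈ Set.range f.left.base := hx ▸ rfl
    obtain ⟨p, hp, -⟩ := Scheme.exists_preimage_of_isPullback sq z t (Eq.trans hz ht.symm)
    exact ⟨p, hp⟩
  · intro h
    let O : X.left.Opens := ⟨_, isOpen_finite_stab a⟩
    have hfO : Set.range f.left ⊆ Set.range O.ι := by
      rw [Scheme.Opens.range_ι]
      intro z hz
      have : z = x := Set.mem_singleton_iff.1 (hx ▸ hz)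
      exact this ▸ h
    let g := IsOpenImmersion.lift O.ι f.left hfO
    have hg : g ≫ O.ι = f.left := IsOpenImmersion.lift_fac _ _ _
    let st := GLinSh.stabTo a (𝟙 X)
    haveI : LocallyQuasiFinite (st ∣_ O) := by
      refine LocallyQuasiFinite.of_finite_preimage_singleton _ fun y => ?_
      refine (y.2.preimage (f := (st ⁻¹ᵁ O).ι) (st ⁻¹ᵁ O).ι.isOpenEmbedding.injective.injOn).subset ?_
      intro z hz
      show st ((st ⁻¹ᵁ O).ι z) = y.1
      rw [← Scheme.Hom.comp_apply, ← morphismRestrict_ι, Scheme.Hom.comp_apply, Set.mem_singleton_iff.1 hz]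
      rfl
    have hO : IsPullback (st ⁻¹ᵁ O).ι (st ∣_ O) st O.ι := (isPullback_morphismRestrict st O).flip
    have sq' : IsPullback (hO.lift m (GLinSh.stabTo a f ≫ g) (by rw [Category.assoc, hg]; exact sq.w))
        (GLinSh.stabTo a f) (st ∣_ O) g :=
      IsPullback.of_right (by rw [hO.lift_fst, hg]; exact sq) (hO.lift_snd _ _ _) hO
    haveI : LocallyQuasiFinite (GLinSh.stabTo a f) := MorphismProperty.of_isPullback sq' ‹_›
    haveI : QuasiCompact (GLinSh.stabTo a f) := MorphismProperty.of_isPullback sq (inferInstanceAs (QuasiCompact st))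
    haveI : IsLocallyArtinian T.left := IsLocallyArtinian.of_isImmersion e.hom
    exact IsFinite.of_locallyQuasiFinite _

end Groth.Agent.GITss
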