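import Groth.Agent.GITss.StabDim
import Groth.Agent.GITss.ClosedAct
import Groth.Agent.GITss.Extend
import Groth.Agent.GITss.Stable

/-!
# Stable points are the regular points with closed orbit
-/

set_option autoImplicit false
set_option backward.isDefEq.respectTransparency false
set_option linter.style.haveILetI false

universe u

open CategoryTheory CategoryTheory.Limits MonoidalCategory CartesianMonoidalCategory MonObj GrpObj AlgebraicGeometry
open TopologicalSpace

noncomputable section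

namespace Groth.Agent.GITss

open AffQuot

/-- The range of a section over a one-point base is closed. -/
theorem isClosed_range_section {Z T : Scheme.{u}} [IsAffine T] [Subsingleton T] (p : Z ⟶ T) (s : T ⟶ Z)
    (hs : s ≫ p = 𝟙 T) : IsClosed (Set.range s) := by
  refine ⟨isOpen_iff_forall_mem_open.2 fun y hy => ?_⟩
  obtain ⟨V, hV, hyV, -⟩ := exists_isAffineOpen_mem_and_subset (x := y) (U := (⊤ : Z.Opens)) trivial
  by_cases hsub : Set.range s ⊆ Set.range V.ι
  · let s' := IsOpenImmersion.lift V.ι s hsub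
    have hs' : s' ≫ V.ι = s := IsOpenImmersion.lift_fac _ _ _
    haveI : IsAffine (V : Scheme.{u}) := hV
    haveI : IsClosedImmersion (s' ≫ V.ι ≫ p) := by rw [reassoc_of% hs', hs]; infer_instance
    haveI : IsClosedImmersion s' := IsClosedImmersion.of_comp s' (V.ι ≫ p)
    refine ⟨V.ι '' (Set.range s')ᶜ, ?_, V.ι.isOpenEmbedding.isOpenMap _ s'.isClosedEmbedding.isClosed_range.isOpen_compl,
      ⟨⟨y, hyV⟩, fun ⟨t, ht⟩ => hy ⟨t, ?_⟩, rfl⟩⟩
    · rintro _ ⟨w, hw, rfl⟩ ⟨t, ht⟩
      refine hw ⟨t, V.ι.isOpenEmbedding.injective ?_⟩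
      rw [← ht, ← hs']; rfl
    · rw [← hs', Scheme.Hom.comp_apply, ht]; rfl
  · refine ⟨V, fun w hw ⟨t, ht⟩ => hsub ?_, V.2, hyV⟩
    rintro _ ⟨t', rfl⟩
    rw [Scheme.Opens.range_ι, Subsingleton.elim t' t, ht]
    exact hw

section General

variable {S : Scheme.{u}} {G X : Over S} [GrpObj G] {a : AlgGrp.Action G X}

/-- A closed action on a stable open has orbits closed inside it. -/
theorem closedOrbitsOn_of_isClosedAction {W : X.left.Opens} {b : AlgGrp.Action G (opn W)}
    (hb : b.act ≫ inc W = (G ◁ inc W) ≫ a.act) (h : GIT.IsClosedAction b) : GLinSh.ClosedOrbitsOn a W := by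
  intro Ω _ _ T eT f hf
  let f₀ : T ⟶ opn W := Over.homMk (IsOpenImmersion.lift W.ι f.left (hf.trans (Scheme.Opens.range_ι W).ge))
    (by
      show IsOpenImmersion.lift _ _ _ ≫ W.ι ≫ X.hom = _
      rw [IsOpenImmersion.lift_fac_assoc, Over.w f])
  have hf₀ : f₀ ≫ inc W = f := Over.OverMorphism.ext (IsOpenImmersion.lift_fac _ _ _)
  let j : opn W ⊗ T ⟶ X ⊗ T := inc W ▷ T
  have sq : IsPullback j (fst (opn W) T) (fst X T) (inc W) :=
    IsPullback.of_iso (Blanchard.isPullback_whiskerLeft T (inc W)).flip (β_ T (opn W)) (β_ T X)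
      (Iso.refl _) (Iso.refl _) (by simp [j]) (by simp) (by simp) (by simp)
  have sqL : IsPullback j.left (fst (opn W) T).left (fst X T).left W.ι := sq.map (Over.forget S)
  haveI : IsOpenImmersion j.left :=
    MorphismProperty.of_isPullback sqL.flip (inferInstanceAs (IsOpenImmersion W.ι))
  have he : GIT.psi b f₀ ≫ j = GIT.psi a f := by
    rw [← hf₀]
    refine CartesianMonoidalCategory.hom_ext _ _ ?_ ?_
    · rw [Category.assoc, whiskerRight_fst, ← Category.assoc, GIT.psi, lift_fst, Category.assoc, hb,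
        GIT.psi, lift_fst, MonoidalCategory.whiskerLeft_comp, Category.assoc]
    · rw [Category.assoc, whiskerRight_snd, GIT.psi, lift_snd, GIT.psi, lift_snd]
  have hC := h Ω T eT f₀
  have : (fun p : (fst X T).left ⁻¹ᵁ W => (p : (X ⊗ T).left)) ⁻¹' Set.range (GIT.psi a f).left.base =
      ((fun p : (fst X T).left ⁻¹ᵁ W => (p : (X ⊗ T).left)) ⁻¹' (j.left '' (Set.range (GIT.psi b f₀).left.base)ᶜ))ᶜ := by
    ext p
    obtain ⟨q, hq, -⟩ := Scheme.exists_preimage_of_isPullback sqL p.1 ⟨_, p.2⟩ rfl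
    constructor
    · rintro ⟨u, hu⟩ ⟨q', hq', hqp⟩
      refine hq' ⟨u, j.left.isOpenEmbedding.injective ?_⟩
      rw [hqp]
      refine Eq.trans ?_ hu
      rw [← he]; rfl
    · intro hp
      by_contra hn
      refine hp ⟨q, fun ⟨u, hu⟩ => hn ⟨u, ?_⟩, hq⟩
      rw [← he]
      exact (congrArg j.left hu).trans hq
  rw [this]
  exact ((j.left.isOpenEmbedding.isOpenMap _ hC.isOpen_compl).preimage continuous_subtype_val).isClosed_compl

end General

variable {k : Type u} [Field k] {G X : Over (Spec (CommRingCat.of k))} [GrpObj G] {a : AlgGrp.Action G X}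
  [LocallyOfFiniteType G.hom] [QuasiCompact G.hom] [LocallyOfFiniteType X.hom] [QuasiCompact X.hom]

/-- Open subschemes are of finite type. -/
theorem finiteType_opn (W : X.left.Opens) : LocallyOfFiniteType (opn W).hom ∧ QuasiCompact (opn W).hom := by
  haveI : IsLocallyNoetherian X.left := LocallyOfFiniteType.isLocallyNoetherian X.hom
  haveI : CompactSpace X.left := QuasiCompact.compactSpace_of_compactSpace X.hom
  haveI : IsNoetherian X.left := {}
  haveI : CompactSpace (W : Scheme.{u}) := isCompact_iff_compactSpace.mp (NoetherianSpace.isCompact _)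
  refine ⟨inferInstanceAs (LocallyOfFiniteType (W.ι ≫ X.hom)), ?_⟩
  exact HasAffineProperty.iff_of_isAffine.2 ‹CompactSpace (W : Scheme.{u})›

/-- The stabiliser dimension does not change on stable opens. -/
theorem sdim_res {W : X.left.Opens} {b : AlgGrp.Action G (opn W)}
    (hb : b.act ≫ inc W = (G ◁ inc W) ≫ a.act) (y : (opn W).left) : sdim b y = sdim a (W.ι y) := by
  rw [sdim_eq, sdim_eq]
  let g := 𝟙 (opn W) ≫ inc W
  obtain ⟨m, sq⟩ := exists_isPullback_stab a g
  obtain ⟨e, he⟩ := exists_iso_stab_of_mono a (inc W) hb (𝟙 (opn W))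
  have sq' : IsPullback (e.hom ≫ m) (GLinSh.stabTo b (𝟙 (opn W))) (GLinSh.stabTo a (𝟙 X)) g.left :=
    sq.of_iso e.symm (Iso.refl _) (Iso.refl _) (Iso.refl _) (by simp) (by simp [← he]; rfl) (by simp) (by simp)
  haveI : IsOpenImmersion g.left := by
    simp only [g, Category.id_comp]
    exact inferInstanceAs (IsOpenImmersion W.ι)
  haveI : IsOpenImmersion (e.hom ≫ m) := MorphismProperty.of_isPullback sq'.flip ‹_›
  have hg : g.left y = W.ι y := by simp [g]
  have himg : (e.hom ≫ m) '' (GLinSh.stabTo b (𝟙 (opn W)) ⁻¹' {y}) = GLinSh.stabTo a (𝟙 X) ⁻¹' {W.ι y} := by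
    ext z
    constructor
    · rintro ⟨w, hw, rfl⟩
      show GLinSh.stabTo a (𝟙 X) ((e.hom ≫ m) w) = _
      rw [← Scheme.Hom.comp_apply, sq'.w, Scheme.Hom.comp_apply, Set.mem_singleton_iff.1 hw, hg]
    · intro hz
      obtain ⟨w, hw₁, hw₂⟩ := Scheme.exists_preimage_of_isPullback sq' z y (Eq.trans hz hg.symm)
      exact ⟨w, hw₂, hw₁⟩
  exact IsHomeomorph.topologicalKrullDim_eq _ (((e.hom ≫ m).isEmbedding.homeomorphImage _).trans
    (Homeomorph.setCongr himg)).isHomeomorph

/-- The stabiliser dimension is constant on orbits. -/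
theorem sdim_act (t : (G ⊗ X).left) : sdim a (a.act.left t) = sdim a ((snd G X).left t) := by
  obtain ⟨_, _⟩ := finiteType_stabTo a
  let f : G ⊗ X ⟶ X := snd G X
  obtain ⟨m, sq⟩ := exists_isPullback_stab a f
  obtain ⟨_⟩ := EqInt.nonempty_grpObj_stab a (𝟙 X)
  obtain ⟨w, hw⟩ : ∃ w, GLinSh.stabTo a (𝟙 X) w = f.left t := by
    let u := η[Over.mk (GLinSh.stabTo a (𝟙 X))]
    exact ⟨u.left (f.left t), GrpDim.hom_section (Over.mk (GLinSh.stabTo a (𝟙 X))) _⟩
  obtain ⟨z, -, hz⟩ := Scheme.exists_preimage_of_isPullback sq w t hw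
  obtain ⟨e, he⟩ := exists_iso_stab_translate a f (fst G X)
  let f' := lift (fst G X) f ≫ a.act
  have hf' : f' = a.act := by simp [f', f]
  have sq₂ : IsPullback e.hom (GLinSh.stabTo a f) (GLinSh.stabTo a f') (𝟙 _) :=
    IsPullback.of_horiz_isIso ⟨by rw [he]; rfl⟩
  obtain ⟨m', sq'⟩ := exists_isPullback_stab a f'
  haveI : LocallyOfFiniteType (GLinSh.stabTo a f') :=
    MorphismProperty.of_isPullback sq' ‹LocallyOfFiniteType (GLinSh.stabTo a (𝟙 X))›
  have h₁ := fibreDimAt_stabTo a f z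
  have h₂ := fibreDimAt_stabTo a f' (e.hom z)
  rw [LocalDimBC.fibreDimAt_of_isPullback _ _ _ _ sq₂ z, h₂,
    show GLinSh.stabTo a f' (e.hom z) = GLinSh.stabTo a f z by rw [← he]; rfl, hz, hf'] at h₁
  exact h₁

/-- The interior of a level set of the stabiliser dimension is stable. -/
theorem stable_interior_sdim (d : WithBot ℕ∞) :
    Good.Stable a.act.left (snd G X).left (interior {y | sdim a y = d}) :=
  haveI : UniversallyOpen G.hom := inferInstance
  stable_interior a fun t ht => show sdim a (a.act.left t) = d from (sdim_act t).trans ht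

variable [CharZero k] {B : GLinSh.LinBun G a}

/-- Near a stable point the stabiliser dimension is constant. -/
theorem exists_open_sdim_eq_of_isStablePt (hG : Red.IsReductive G) {x : X.left} (hx : B.IsStablePt x) :
    ∃ O : X.left.Opens, x ∈ O ∧ ∀ y ∈ O, sdim a y = sdim a x := by
  obtain ⟨W, hW, hcl, hxW⟩ := (mem_sLocus_iff x).1 hx
  have hs := qFamily_semiOpen.stable W hW
  obtain ⟨_, _⟩ := finiteType_opn W
  obtain ⟨Q, q, -, hg, hlft⟩ := hasAffineQuotients hG (opn W) (resAct hs) (qFamily_semiOpen.affine W hW)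
  haveI := hlft inferInstance
  have hinv : GIT.IsInvariant (resAct hs) q := (isCatQuot_of_goodAct hg).1
  have hsur := surjective_PsiY hg hinv (isClosedAction_of_closedOrbitsOn (resAct_inc hs) hcl)
  obtain ⟨O, hxO, hO⟩ := exists_open_sdim_eq (resAct hs) hinv hsur ⟨x, hxW⟩
  refine ⟨W.ι ''ᵁ O, ⟨⟨x, hxW⟩, hxO, rfl⟩, ?_⟩
  rintro _ ⟨y, hy, rfl⟩
  show sdim a (W.ι y) = sdim a x
  rw [← sdim_res (resAct_inc hs) y, hO y hy, sdim_res (resAct_inc hs)]
  rfl

/-- The orbit of a stable point is closed in the semi-stable locus. -/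
theorem isClosed_orbit_ssLocus (hG : Red.IsReductive G) {U : X.left.Opens} (hU : (U : Set X.left) = B.ssLocus)
    {x : X.left} (hx : B.IsStablePt x) (Ω : Type u) [Field Ω] [IsAlgClosed Ω]
    (T : Over (Spec (CommRingCat.of k))) (eT : T.left ≅ Spec (CommRingCat.of Ω)) (f : T ⟶ X)
    (hf : Set.range f.left.base = {x}) :
    IsClosed ((fun p : (fst X T).left ⁻¹ᵁ U => (p : (X ⊗ T).left)) ⁻¹' Set.range (GIT.psi a f).left.base) := by
  haveI : Subsingleton T.left := eT.hom.homeomorph.toEquiv.subsingleton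
  haveI : IsAffine T.left := IsAffine.of_isIso eT.hom
  have hst : IsStableOpen a U := fun t ht => by
    have ht' : (snd G X).left t ∈ B.ssLocus := hU ▸ ht
    obtain ⟨W, hW, htW⟩ := (mem_ssLocus_iff _).1 ht'
    exact hU.symm ▸ (mem_ssLocus_iff _).2 ⟨W, hW, qFamily_semiOpen.stable W hW htW⟩
  obtain ⟨Y, φ, hg, -, -, hpre⟩ := exists_quotient_ssLocus hG hU (resAct hst) (resAct_inc hst)
  obtain ⟨W, hW, hcl, hxW⟩ := (mem_sLocus_iff x).1 hx
  obtain ⟨V, -, hV⟩ := hpre W hW
  have hxU : x ∈ U := by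
    rw [← SetLike.mem_coe, hU]; exact (mem_ssLocus_iff x).2 ⟨W, hW, hxW⟩
  have hfU : Set.range f.left ⊆ Set.range U.ι := by
    rw [Scheme.Opens.range_ι, hf]; exact Set.singleton_subset_iff.2 hxU
  let f₀ : T ⟶ opn U := Over.homMk (IsOpenImmersion.lift U.ι f.left hfU) (by
      show IsOpenImmersion.lift _ _ _ ≫ U.ι ≫ X.hom = _
      rw [IsOpenImmersion.lift_fac_assoc, Over.w f])
  have hf₀ : f₀ ≫ inc U = f := Over.OverMorphism.ext (IsOpenImmersion.lift_fac _ _ _)
  let j : opn U ⊗ T ⟶ X ⊗ T := inc U ▷ T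
  let c : opn U ⊗ T ⟶ Y ⊗ T := φ ▷ T
  let gam : T ⟶ Y ⊗ T := lift (f₀ ≫ φ) (𝟙 T)
  have hinv : GIT.IsInvariant (resAct hst) φ := (isCatQuot_of_goodAct hg).1
  have hgam : IsClosed (Set.range gam.left) :=
    isClosed_range_section (snd Y T).left gam.left congr($(lift_snd (f₀ ≫ φ) (𝟙 T)).left)
  have horb : GIT.psi (resAct hst) f₀ ≫ c = snd G T ≫ gam := by
    apply CartesianMonoidalCategory.hom_ext
    · simp only [c, gam, GIT.psi, Category.assoc, whiskerRight_fst, lift_fst_assoc, lift_fst]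
      rw [hinv, whiskerLeft_snd_assoc]
    · simp [c, gam, GIT.psi]
  have he : GIT.psi (resAct hst) f₀ ≫ j = GIT.psi a f := by
    rw [← hf₀]
    refine CartesianMonoidalCategory.hom_ext _ _ ?_ ?_
    · rw [Category.assoc, whiskerRight_fst, ← Category.assoc, GIT.psi, lift_fst, Category.assoc, resAct_inc,
        GIT.psi, lift_fst, MonoidalCategory.whiskerLeft_comp, Category.assoc]
    · rw [Category.assoc, whiskerRight_snd, GIT.psi, lift_snd, GIT.psi, lift_snd]
  refine closure_subset_iff_isClosed.1 fun p hp => ?_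
  set R := Set.range (GIT.psi a f).left.base
  -- the point lies in the saturated open `W`
  obtain ⟨q, hq, -⟩ : ∃ q, j.left q = p.1 ∧ True := by
    have sq : IsPullback j.left (fst (opn U) T).left (fst X T).left U.ι := by
      have h := IsPullback.of_iso (Blanchard.isPullback_whiskerLeft T (inc U)).flip (β_ T (opn U)) (β_ T X)
        (Iso.refl _) (Iso.refl _) (fst' := j) (snd' := fst (opn U) T) (f' := fst X T) (g' := inc U)
        (by simp [j]) (by simp) (by simp) (by simp)
      exact h.map (Over.forget _)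
    obtain ⟨q, hq, -⟩ := Scheme.exists_preimage_of_isPullback sq p.1 ⟨_, p.2⟩ rfl
    exact ⟨q, hq, trivial⟩
  haveI : Mono j := ⟨fun p q e => CartesianMonoidalCategory.hom_ext _ _
    ((cancel_mono (inc U)).1 (by simpa [j] using congr($e ≫ fst X T))) (by simpa [j] using congr($e ≫ snd X T))⟩
  haveI : Mono j.left := Over.mono_left_of_mono j
  have hqcl : q ∈ closure (Set.range (GIT.psi (resAct hst) f₀).left) := by
    refine mem_closure_iff.2 fun O hO hqO => ?_
    haveI : IsOpenImmersion j.left := MorphismProperty.of_isPullback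
      ((IsPullback.of_iso (Blanchard.isPullback_whiskerLeft T (inc U)).flip (β_ T (opn U)) (β_ T X)
        (Iso.refl _) (Iso.refl _) (fst' := j) (snd' := fst (opn U) T) (f' := fst X T) (g' := inc U)
        (by simp [j]) (by simp) (by simp) (by simp)).map (Over.forget _)).flip
      (inferInstanceAs (IsOpenImmersion U.ι))
    obtain ⟨p', ⟨q', hq', hp'⟩, u, hu⟩ := mem_closure_iff.1 hp
      ((fun p : (fst X T).left ⁻¹ᵁ U => (p : (X ⊗ T).left)) ⁻¹' (j.left '' O))
      ((j.left.isOpenEmbedding.isOpenMap _ hO).preimage continuous_subtype_val) ⟨q, hqO, hq⟩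
    refine ⟨q', hq', u, j.left.isOpenEmbedding.injective ?_⟩
    refine Eq.trans ?_ (hu.trans hp'.symm)
    rw [← he]; rfl
  have hcq : c.left q ∈ Set.range gam.left := by
    refine closure_minimal ?_ (hgam.preimage c.left.continuous) hqcl
    rintro _ ⟨u, rfl⟩
    refine ⟨(snd G T).left u, ?_⟩
    rw [← Scheme.Hom.comp_apply, ← Over.comp_left, ← horb]
    rfl
  obtain ⟨t, ht⟩ := hcq
  have hφq : φ.left ((fst (opn U) T).left q) = φ.left (f₀.left t) := by
    have h := congrArg (fst Y T).left ht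
    rw [← Scheme.Hom.comp_apply, ← Scheme.Hom.comp_apply, ← Over.comp_left, ← Over.comp_left, lift_fst,
      whiskerRight_fst] at h
    exact h.symm
  have hqW : (fst X T).left p.1 ∈ W := by
    have h₁ : f₀.left t ∈ U.ι ⁻¹ᵁ W := by
      show U.ι (f₀.left t) ∈ W
      have : U.ι (f₀.left t) = f.left t := congr(($hf₀).left t)
      rw [this, Set.mem_singleton_iff.1 (hf.subset (Set.mem_range_self (f := f.left.base) t))]
      exact hxW
    rw [← hV] at h₁
    have h₂ : (fst (opn U) T).left q ∈ φ.left ⁻¹ᵁ V := by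
      show φ.left _ ∈ V; rw [hφq]; exact h₁
    rw [hV] at h₂
    rw [← hq, ← Scheme.Hom.comp_apply, ← Over.comp_left, whiskerRight_fst]
    exact h₂
  -- there the orbit is closed
  obtain ⟨C, hC, hCR⟩ := isClosed_induced_iff.1 (hcl Ω T eT f (hf ▸ Set.singleton_subset_iff.2 hxW))
  have hpC : p.1 ∈ C := by
    have hcl' : p.1 ∈ closure R :=
      closure_mono (Set.image_preimage_subset _ _)
        (image_closure_subset_closure_image continuous_subtype_val ⟨p, hp, rfl⟩)
    refine closure_minimal (t := C) ?_ hC (mem_closure_iff.2 fun O hO hpO => ?_)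
      (s := R ∩ ((fst X T).left ⁻¹ᵁ W : Set (X ⊗ T).left))
    · exact fun q hq => (Set.ext_iff.1 hCR ⟨q, hq.2⟩).2 hq.1
    · obtain ⟨q, ⟨hq₁, hq₂⟩, hq₃⟩ := mem_closure_iff.1 hcl' (O ∩ ((fst X T).left ⁻¹ᵁ W : Set (X ⊗ T).left))
        (hO.inter ((fst X T).left ⁻¹ᵁ W).isOpen) ⟨hpO, hqW⟩
      exact ⟨q, hq₁, hq₃, hq₂⟩
  exact (Set.ext_iff.1 hCR ⟨p.1, hqW⟩).1 hpC

/-- A regular point whose orbit is closed in an affine non-vanishing open is stable. -/
theorem isStablePt_of_regular (hG : Red.IsReductive G) {x : X.left}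
    (hreg : ∃ O : X.left.Opens, x ∈ O ∧ ∀ y ∈ O, sdim a y = sdim a x)
    {n : ℕ} {f : Γ(B.V.left, ⊤)} {Uf : X.left.Opens} (hn : 1 ≤ n) (hf : B.IsInvSection n f)
    (hUf : (Uf : Set X.left) = GLinSh.nonvanishing B.π f) (haff : IsAffineOpen Uf) (hxU : x ∈ Uf)
    (hcl : ∀ (Ω : Type u) [Field Ω] [IsAlgClosed Ω] (T : Over (Spec (CommRingCat.of k)))
      (_ : T.left ≅ Spec (CommRingCat.of Ω)) (g : T ⟶ X), Set.range g.left.base = {x} →
        IsClosed ((fun p : (fst X T).left ⁻¹ᵁ Uf => (p : (X ⊗ T).left)) ⁻¹' Set.range (GIT.psi a g).left.base)) :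
    B.IsStablePt x := by
  obtain rfl : Xf B hf.1 = Uf := Opens.ext hUf.symm
  let Uf := Xf B hf.1
  obtain ⟨_, _⟩ := finiteType_opn Uf
  haveI : IsAffine (opn Uf).left := haff
  let b := resAct (stable_Xf hf)
  have hb : b.act ≫ inc Uf = (G ◁ inc Uf) ≫ a.act := resAct_inc _
  obtain ⟨Q, φ, hQ, hg, -⟩ := hasAffineQuotients hG (opn Uf) b haff
  haveI : IsAffine Q.left := hQ
  have hinv : GIT.IsInvariant b φ := (isCatQuot_of_goodAct hg).1
  -- the open set on which the stabilisers have the dimension at `x`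
  let d := sdim a x
  obtain ⟨O, hxO, hO⟩ := hreg
  have hxI : x ∈ interior {y | sdim a y = d} := mem_interior.2 ⟨O, hO, O.2, hxO⟩
  let Zc : Set (opn Uf).left := (Uf.ι ⁻¹' interior {y | sdim a y = d})ᶜ
  have hOs : Good.Stable b.act.left (snd G (opn Uf)).left (Uf.ι ⁻¹' interior {y | sdim a y = d}) :=
    stable_preimage (f := inc Uf) hb (stable_interior_sdim d)
  have hZc : IsClosed Zc := (isOpen_interior.preimage Uf.ι.continuous).isClosed_compl
  have hZs : Good.Stable b.act.left (snd G (opn Uf)).left Zc := stable_compl hOs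
  let x' : (opn Uf).left := (⟨x, hxU⟩ : (Uf : Scheme.{u}))
  -- the image of `x` avoids the image of the others
  have hsep : φ.left x' ∉ φ.left '' Zc := by
    rintro ⟨z, hz, hzx⟩
    obtain ⟨w, hw₁, hw₂⟩ := Scheme.exists_preimage_of_isPullback
      (IsPullback.of_hasPullback φ.left φ.left) z x' hzx
    obtain ⟨Ω, _, _, T, eT, pz, hpz⟩ :=
      exists_geomPoint (Z := Over.mk (pullback.fst φ.left φ.left ≫ (opn Uf).hom)) w
    haveI : Subsingleton T.left := eT.hom.homeomorph.toEquiv.subsingleton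
    let t₀ : T.left := eT.inv (IsLocalRing.closedPoint Ω)
    have hpt : pz.left t₀ = w := Set.mem_singleton_iff.1 (hpz ▸ ⟨t₀, rfl⟩)
    let x₁ : T ⟶ opn Uf := Over.homMk (pz.left ≫ pullback.fst φ.left φ.left) (by
      rw [Category.assoc]; exact Over.w pz)
    let x₂ : T ⟶ opn Uf := Over.homMk (pz.left ≫ pullback.snd φ.left φ.left) (by
      have hc : pullback.snd φ.left φ.left ≫ (opn Uf).hom = pullback.fst φ.left φ.left ≫ (opn Uf).hom := by
        simp only [← Over.w φ]
        exact (pullback.condition_assoc _).symm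
      rw [Category.assoc, hc]; exact Over.w pz)
    have hx : x₁ ≫ φ = x₂ ≫ φ := Over.OverMorphism.ext (by
      show (pz.left ≫ pullback.fst _ _) ≫ φ.left = (pz.left ≫ pullback.snd _ _) ≫ φ.left
      rw [Category.assoc, pullback.condition, Category.assoc])
    have hx₁ : x₁.left t₀ = z := by
      show pullback.fst φ.left φ.left (pz.left t₀) = z
      rw [hpt, hw₁]
    have hx₂ : x₂.left t₀ = x' := by
      show pullback.snd φ.left φ.left (pz.left t₀) = x'
      rw [hpt, hw₂]
    let g := x₁ ≫ φ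
    let X' := Limits.pullback φ g
    let pr : X' ⟶ opn Uf := Limits.pullback.fst φ g
    let φ' : X' ⟶ T := Limits.pullback.snd φ g
    let a' := EqInt.baseChange b φ hinv g
    have heq : a'.act ≫ pr = (G ◁ pr) ≫ b.act := EqInt.baseChange_fst b φ hinv g
    have hinv' : GIT.IsInvariant a' φ' := EqInt.baseChange_invariant b φ hinv g
    have hg' : GoodAct a' φ' := goodAct_baseChange hg pr φ' g (IsPullback.of_hasPullback φ g) a' heq hinv'
    let j : X' ⟶ X ⊗ T := lift (pr ≫ inc Uf) φ'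
    haveI : Mono j := ⟨fun p q e => Limits.pullback.hom_ext
      ((cancel_mono (inc Uf)).1 (by simpa [j] using congr($e ≫ fst X T))) (by simpa [j] using congr($e ≫ snd X T))⟩
    haveI : Mono j.left := Over.mono_left_of_mono j
    let s₁ : T ⟶ X' := Limits.pullback.lift x₁ (𝟙 T) (Category.id_comp _).symm
    let s₂ : T ⟶ X' := Limits.pullback.lift x₂ (𝟙 T) (hx.symm.trans (Category.id_comp _).symm)
    let o₂ := (G ◁ s₂) ≫ a'.act
    have hrange : Set.range (x₂ ≫ inc Uf).left.base = {x} := by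
      refine Set.Subset.antisymm ?_ (Set.singleton_subset_iff.2 ⟨t₀, ?_⟩)
      · rintro _ ⟨t, rfl⟩
        rw [Subsingleton.elim t t₀]
        show Uf.ι (x₂.left t₀) = x
        rw [hx₂]; rfl
      · show Uf.ι (x₂.left t₀) = x
        rw [hx₂]; rfl
    have e₂ : o₂ ≫ j = GIT.psi a (x₂ ≫ inc Uf) := by
      refine CartesianMonoidalCategory.hom_ext _ _ ?_ ?_
      · rw [Category.assoc, Category.assoc, lift_fst, reassoc_of% heq, hb, GIT.psi, lift_fst,
          ← whiskerLeft_comp_assoc, ← whiskerLeft_comp_assoc, show s₂ ≫ pr = x₂ from Limits.pullback.lift_fst _ _ _]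
      · rw [Category.assoc, Category.assoc, lift_snd, hinv', GIT.psi, lift_snd, ← Category.assoc, whiskerLeft_snd,
          Category.assoc, Limits.pullback.lift_snd, Category.comp_id]
    have hmem : ∀ q, j.left q ∈ (fst X T).left ⁻¹ᵁ Uf := fun q => by
      show (fst X T).left (j.left q) ∈ Uf
      rw [← Scheme.Hom.comp_apply, ← Over.comp_left, lift_fst, Over.comp_left, Scheme.Hom.comp_apply]
      exact (pr.left q).2
    have hW₂ : IsClosed (Set.range o₂.left) := by
      obtain ⟨C, hC, hCR⟩ := isClosed_induced_iff.1 (hcl Ω T eT (x₂ ≫ inc Uf) hrange)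
      have : Set.range o₂.left = j.left ⁻¹' C := by
        ext q
        refine Iff.trans ⟨?_, ?_⟩ (Set.ext_iff.1 hCR ⟨j.left q, hmem q⟩).symm
        · rintro ⟨u, rfl⟩
          exact ⟨u, by rw [← e₂]; rfl⟩
        · rintro ⟨u, hu⟩
          refine ⟨u, j.left.injective ?_⟩
          rw [← e₂] at hu
          exact hu
      rw [this]
      exact hC.preimage j.left.continuous
    let W : Bool → Set X'.left := fun i => Bool.rec (Set.range o₂.left) (pr.left ⁻¹' Zc) i
    have hdisj : ⋂ i, W i = ∅ := by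
      refine Set.eq_empty_iff_forall_notMem.2 fun p hp => ?_
      obtain ⟨⟨u, hu⟩, hZ⟩ := And.intro (Set.mem_iInter.1 hp false) (Set.mem_iInter.1 hp true)
      refine hZ ?_
      have hst := stable_preimage (f := pr) heq hOs
      refine range_subset_of_stable s₂ hst (u := (lift (1 : T ⟶ G) (𝟙 T)).left t₀) ?_ ⟨u, hu⟩
      rw [← Scheme.Hom.comp_apply, ← Over.comp_left, lift_whiskerLeft_assoc, Category.id_comp, GrpAct.one_smul']
      show Uf.ι (pr.left (s₂.left t₀)) ∈ interior {y | sdim a y = d}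
      rw [show pr.left (s₂.left t₀) = x₂.left t₀ by
        rw [← Scheme.Hom.comp_apply, ← Over.comp_left, Limits.pullback.lift_fst], hx₂]
      exact hxI
    have h0 := hg'.iInter_image_eq_empty (W := W)
      (by rintro (_ | _)
          exacts [hW₂, hZc.preimage pr.left.continuous])
      (by rintro (_ | _); exacts [stable_orbit s₂, stable_preimage (f := pr) heq hZs]) hdisj
    have : t₀ ∈ ⋂ i, φ'.left '' W i := Set.mem_iInter.2 (by
      rintro (_ | _)
      · exact ⟨_, ⟨(lift (1 : T ⟶ G) (𝟙 T)).left t₀, rfl⟩, Subsingleton.elim _ _⟩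
      · refine ⟨s₁.left t₀, ?_, Subsingleton.elim _ _⟩
        show pr.left (s₁.left t₀) ∈ Zc
        rw [show pr.left (s₁.left t₀) = x₁.left t₀ by
          rw [← Scheme.Hom.comp_apply, ← Over.comp_left, Limits.pullback.lift_fst], hx₁]
        exact hz)
    rw [h0] at this
    exact this
  -- an invariant function separating
  have hcl' : IsClosed (φ.left '' Zc) := hg.isClosed_image hZc hZs
  obtain ⟨r, hrle, hxr⟩ := (isAffineOpen_top Q.left).exists_basicOpen_le
    (V := ⟨(φ.left '' Zc)ᶜ, hcl'.isOpen_compl⟩) ⟨φ.left x', hsep⟩ trivial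
  let r' : Γ(X.left, Uf) := Uf.topIso.hom (φ.left.appTop r)
  have hr' : b.act.left.appTop (Uf.topIso.inv r') = (snd G (opn Uf)).left.appTop (Uf.topIso.inv r') := by
    rw [show Uf.topIso.inv r' = φ.left.appTop r from Iso.hom_inv_id_apply _ _, ← ConcreteCategory.comp_apply,
      ← ConcreteCategory.comp_apply, ← Scheme.Hom.comp_appTop, ← Scheme.Hom.comp_appTop, hinv.left]
  haveI : IsLocallyNoetherian X.left := LocallyOfFiniteType.isLocallyNoetherian X.hom
  haveI : CompactSpace X.left := QuasiCompact.compactSpace_of_compactSpace X.hom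
  obtain ⟨m, h, hh, hm, hrat⟩ := exists_invExtension hf haff r' hr'
  have hfm := isInvSection_pow hf m
  have heXf : Xf B hfm.1 = Uf := Xf_pow hf hm
  have hbo : X.left.basicOpen r' = Uf ⊓ Xf B hh.1 := by
    have := IsRatio.basicOpen_eq hfm.1 hh.1 (r := X.left.presheaf.map (homOfLE heXf.le).op r')
      (hrat.mono heXf.le)
    rwa [Scheme.basicOpen_res, heXf, inf_eq_right.2 (X.left.basicOpen_le r')] at this
  let g := isInvSection_mul hfm hh
  have heg : Xf B g.1 = X.left.basicOpen r' := by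
    rw [hbo, ← heXf]
    exact Opens.ext (nonvanishing_mul hfm.1 hh.1)
  have haffg : IsAffineOpen (Xf B g.1) := heg ▸ haff.basicOpen r'
  have hpre : Uf.ι ⁻¹ᵁ X.left.basicOpen r' = φ.left ⁻¹ᵁ Q.left.basicOpen r := by
    rw [Scheme.preimage_basicOpen, Scheme.preimage_basicOpen]
    have et : Uf.topIso.inv = Uf.ι.appLE Uf ⊤ (Scheme.Opens.ι_preimage_self _).ge := by
      rw [Scheme.Opens.topIso_inv, Scheme.Opens.ι_appLE]
      rfl
    have e' : φ.left.appTop r = (Uf : Scheme.{u}).presheaf.map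
        (homOfLE (Scheme.Opens.ι_preimage_self Uf).ge).op (Uf.ι.app Uf r') := by
      rw [← ConcreteCategory.comp_apply, ← Scheme.Hom.appLE, ← et]
      exact (Iso.hom_inv_id_apply Uf.topIso (φ.left.appTop r)).symm
    show (Uf : Scheme.{u}).basicOpen (Uf.ι.app Uf r') = (Uf : Scheme.{u}).basicOpen (φ.left.appTop r)
    rw [e', Scheme.basicOpen_res, top_inf_eq]
  have hxg : x ∈ Xf B g.1 := by
    rw [heg]
    exact hpre.ge (show φ.left x' ∈ Q.left.basicOpen r from hxr)
  have hgd : ∀ y ∈ Xf B g.1, sdim a y = d := by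
    intro y hy
    rw [heg] at hy
    have hyU : y ∈ Uf := X.left.basicOpen_le r' hy
    have h' : φ.left ⟨y, hyU⟩ ∈ Q.left.basicOpen r := hpre.le hy
    have hnot : (⟨y, hyU⟩ : (Uf : Scheme.{u})) ∉ Zc := fun hz => hrle h' ⟨_, hz, rfl⟩
    exact interior_subset (s := {y | sdim a y = d}) (Set.notMem_compl_iff.1 hnot)
  obtain ⟨_, _⟩ := finiteType_opn (Xf B g.1)
  refine ⟨n * m + n * m, _, ?_, g, hxg, _, rfl, haffg,
    closedOrbitsOn_of_isClosedAction (resAct_inc (stable_Xf g))
      (isClosedAction_of_sdim_eq (resAct (stable_Xf g)) d fun y => ?_)⟩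
  · have : 0 < n * m := Nat.mul_pos (by omega) (by omega)
    omega
  · rw [sdim_res (resAct_inc (stable_Xf g)) y]
    exact hgd _ y.2

end Groth.Agent.GITss
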