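import Groth.Prelude.Def_GLinSh
import Mathlib.AlgebraicGeometry.Morphisms.Flat

/-!
# Functions of given weight on the total space of a linearised line bundle
-/

set_option autoImplicit false
set_option backward.isDefEq.respectTransparency false
set_option linter.style.haveILetI false

universe u

open CategoryTheory CategoryTheory.Limits MonoidalCategory CartesianMonoidalCategory MonObj AlgebraicGeometry
open Opposite TopologicalSpace

noncomputable section

namespace Groth.Agent.GITss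

variable {S : Scheme.{u}} {G X : Over S} [GrpObj G] {a : AlgGrp.Action G X} (B : GLinSh.LinBun G a)

/-- An affine open with an admissible fibre coordinate coming from a bigger open. -/
structure IsTriv (W : X.left.Opens) (y : Γ(B.V.left, B.π.left ⁻¹ᵁ W)) : Prop where
  affine : IsAffineOpen W
  ex : ∃ (U : X.left.Opens) (h : W ≤ U) (y₀ : Γ(B.V.left, B.π.left ⁻¹ᵁ U)),
    y₀ ∈ B.atlas.chart U ∧ GLinSh.res B.π h y₀ = y

variable {B}

theorem res_res {U W W' : X.left.Opens} (h : W ≤ U) (h' : W' ≤ W) (y : Γ(B.V.left, B.π.left ⁻¹ᵁ U)) :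
    GLinSh.res B.π h' (GLinSh.res B.π h y) = GLinSh.res B.π (h'.trans h) y := by
  simp only [GLinSh.res, GLinSh.resTop, ← ConcreteCategory.comp_apply, ← Functor.map_comp]; rfl

theorem res_resTop {U W : X.left.Opens} (h : W ≤ U) (f : Γ(B.V.left, ⊤)) :
    GLinSh.res B.π h (GLinSh.resTop B.π U f) = GLinSh.resTop B.π W f := by
  simp only [GLinSh.res, GLinSh.resTop, ← ConcreteCategory.comp_apply, ← Functor.map_comp]; rfl

theorem res_app {U W : X.left.Opens} (h : W ≤ U) (c : Γ(X.left, U)) :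
    GLinSh.res B.π h (B.π.left.app U c) = B.π.left.app W (X.left.presheaf.map (homOfLE h).op c) :=
  congr($(B.π.left.naturality (homOfLE h).op) c).symm

theorem IsTriv.mono {W W' : X.left.Opens} {y : Γ(B.V.left, B.π.left ⁻¹ᵁ W)} (hy : IsTriv B W y) (h : W' ≤ W)
    (hW' : IsAffineOpen W') : IsTriv B W' (GLinSh.res B.π h y) := by
  obtain ⟨U, hU, y₀, hy₀, rfl⟩ := hy.ex
  exact ⟨hW', U, h.trans hU, y₀, hy₀, (res_res hU h y₀).symm⟩

variable (B)

theorem exists_triv {x : X.left} {O : X.left.Opens} (hx : x ∈ O) :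
    ∃ (W : X.left.Opens) (y : _), x ∈ W ∧ W ≤ O ∧ IsTriv B W y := by
  obtain ⟨U, hxU, y₀, hy₀⟩ := B.atlas.cover x
  obtain ⟨W, hW, hxW, hWU⟩ := exists_isAffineOpen_mem_and_subset (x := x) (U := U ⊓ O) ⟨hxU, hx⟩
  exact ⟨W, _, hxW, hWU.trans inf_le_right, hW, U, hWU.trans inf_le_left, y₀, hy₀, rfl⟩

variable {B}

theorem isAffineHom_π : IsAffineHom B.π.left := B.atlas.affine

theorem IsTriv.isAffineOpen_preimage {W : X.left.Opens} {y : Γ(B.V.left, B.π.left ⁻¹ᵁ W)} (hy : IsTriv B W y) :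
    IsAffineOpen (B.π.left ⁻¹ᵁ W) :=
  haveI := isAffineHom_π (B := B)
  hy.affine.preimage B.π.left

theorem IsTriv.bij {W : X.left.Opens} {y : Γ(B.V.left, B.π.left ⁻¹ᵁ W)} (hy : IsTriv B W y) :
    Function.Bijective (Polynomial.eval₂RingHom (B.π.left.app W).hom y) := by
  obtain ⟨U, hU, y₀, hy₀, rfl⟩ := hy.ex
  exact B.atlas.coord U y₀ hy₀ W hy.affine hU

theorem IsTriv.coeff_ext {W : X.left.Opens} {y : Γ(B.V.left, B.π.left ⁻¹ᵁ W)} (hy : IsTriv B W y) (n : ℕ)
    {c c' : Γ(X.left, W)} (h : B.π.left.app W c * y ^ n = B.π.left.app W c' * y ^ n) : c = c' := by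
  have := hy.bij.injective (show Polynomial.eval₂RingHom (B.π.left.app W).hom y (Polynomial.monomial n c) =
    Polynomial.eval₂RingHom (B.π.left.app W).hom y (Polynomial.monomial n c') by
      simpa using h)
  simpa using congrArg (Polynomial.coeff · n) this

theorem IsTriv.exists_coeff {W : X.left.Opens} {y : Γ(B.V.left, B.π.left ⁻¹ᵁ W)} (hy : IsTriv B W y) {n : ℕ}
    {f : Γ(B.V.left, ⊤)} (hf : GLinSh.HasWeight B.atlas.chart n f) :
    ∃ c : Γ(X.left, W), GLinSh.resTop B.π W f = B.π.left.app W c * y ^ n := by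
  obtain ⟨U, hU, y₀, hy₀, rfl⟩ := hy.ex
  obtain ⟨c, hc⟩ := hf U y₀ hy₀
  refine ⟨X.left.presheaf.map (homOfLE hU).op c, ?_⟩
  rw [← res_resTop hU f, hc, ← res_app hU c]
  exact (map_mul _ _ _).trans (congrArg _ (map_pow _ _ _))

theorem IsTriv.exists_retraction {W : X.left.Opens} {y : Γ(B.V.left, B.π.left ⁻¹ᵁ W)} (hy : IsTriv B W y) :
    ∃ ε : Γ(B.V.left, B.π.left ⁻¹ᵁ W) →+* Γ(X.left, W),
      (∀ c, ε (B.π.left.app W c) = c) ∧ ε y = 1 := by
  let e := RingEquiv.ofBijective _ hy.bij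
  refine ⟨(Polynomial.evalRingHom 1).comp e.symm.toRingHom, fun c => ?_, ?_⟩
  · have : e.symm (B.π.left.app W c) = Polynomial.C c := e.injective (by simp [e])
    simp [this]
  · have : e.symm y = Polynomial.X := e.injective (by simp [e])
    simp [this]

/-- Over a trivialising open the non-vanishing locus of a weight function is that of its coefficient. -/
theorem IsTriv.mem_nonvanishing {W : X.left.Opens} {y : Γ(B.V.left, B.π.left ⁻¹ᵁ W)} (hy : IsTriv B W y) {n : ℕ}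
    {f : Γ(B.V.left, ⊤)} {c : Γ(X.left, W)} (hc : GLinSh.resTop B.π W f = B.π.left.app W c * y ^ n)
    {x : X.left} (hx : x ∈ W) : x ∈ GLinSh.nonvanishing B.π f ↔ x ∈ X.left.basicOpen c := by
  have hV := hy.isAffineOpen_preimage
  have hres : B.V.left.basicOpen (GLinSh.resTop B.π W f) = B.π.left ⁻¹ᵁ W ⊓ B.V.left.basicOpen f :=
    B.V.left.basicOpen_res f _
  rw [hc, Scheme.basicOpen_mul, ← Scheme.preimage_basicOpen] at hres
  constructor
  · rintro ⟨v, hv, rfl⟩
    have hv' : v ∈ B.π.left ⁻¹ᵁ W ⊓ B.V.left.basicOpen f := ⟨hx, hv⟩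
    rw [← hres] at hv'
    exact hv'.1
  intro hxc
  obtain ⟨ε, hε, hεy⟩ := hy.exists_retraction
  let p : Spec Γ(X.left, W) := hy.affine.primeIdealOf ⟨x, hx⟩
  have hp : hy.affine.fromSpec p = x := hy.affine.fromSpec_primeIdealOf ⟨x, hx⟩
  let v := hV.fromSpec (Spec.map (CommRingCat.ofHom ε) p)
  have hsec : Spec.map (CommRingCat.ofHom ε) ≫ hV.fromSpec ≫ B.π.left = hy.affine.fromSpec := by
    have he : B.π.left.app W ≫ CommRingCat.ofHom ε = 𝟙 _ := CommRingCat.hom_ext (RingHom.ext hε)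
    rw [← IsAffineOpen.SpecMap_appLE_fromSpec B.π.left hy.affine hV le_rfl, ← Category.assoc, ← Spec.map_comp,
      ← Scheme.Hom.app_eq_appLE, he, Spec.map_id]
    exact Category.id_comp _
  have hv : B.π.left v = x := by
    rw [← hp, ← hsec]; rfl
  have hmem : ∀ g : Γ(B.V.left, B.π.left ⁻¹ᵁ W), x ∈ X.left.basicOpen (ε g) → v ∈ B.V.left.basicOpen g := by
    intro g hg
    show Spec.map (CommRingCat.ofHom ε) p ∈ hV.fromSpec ⁻¹ᵁ B.V.left.basicOpen g
    rw [hV.fromSpec_preimage_basicOpen g]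
    rw [← hp] at hg
    have hg' : p ∈ hy.affine.fromSpec ⁻¹ᵁ X.left.basicOpen (ε g) := hg
    rw [hy.affine.fromSpec_preimage_basicOpen] at hg'
    exact hg'
  have hvg : v ∈ B.V.left.basicOpen (B.π.left.app W c * y ^ n) :=
    hmem _ (by rw [map_mul, map_pow, hεy, one_pow, _root_.mul_one, hε]; exact hxc)
  rw [Scheme.basicOpen_mul, ← Scheme.preimage_basicOpen, hres] at hvg
  exact ⟨v, hvg.2, hv⟩

variable (B)

theorem isOpen_nonvanishing {n : ℕ} {f : Γ(B.V.left, ⊤)} (hf : GLinSh.HasWeight B.atlas.chart n f) :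
    IsOpen (GLinSh.nonvanishing B.π f) := by
  refine isOpen_iff_forall_mem_open.2 fun x hx => ?_
  obtain ⟨W, y, hxW, -, hy⟩ := exists_triv B (x := x) (O := ⊤) trivial
  obtain ⟨c, hc⟩ := hy.exists_coeff hf
  refine ⟨X.left.basicOpen c, fun z hz => ?_, (X.left.basicOpen c).isOpen, (hy.mem_nonvanishing hc hxW).1 hx⟩
  exact (hy.mem_nonvanishing hc (X.left.basicOpen_le c hz)).2 hz

/-- The open where a function of given weight does not vanish. -/
def Xf {n : ℕ} {f : Γ(B.V.left, ⊤)} (hf : GLinSh.HasWeight B.atlas.chart n f) : X.left.Opens :=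
  ⟨GLinSh.nonvanishing B.π f, isOpen_nonvanishing B hf⟩

variable {B}

theorem IsTriv.inf_Xf {W : X.left.Opens} {y : Γ(B.V.left, B.π.left ⁻¹ᵁ W)} (hy : IsTriv B W y) {n : ℕ}
    {f : Γ(B.V.left, ⊤)} {c : Γ(X.left, W)} (hc : GLinSh.resTop B.π W f = B.π.left.app W c * y ^ n)
    (hf : GLinSh.HasWeight B.atlas.chart n f) : W ⊓ Xf B hf = X.left.basicOpen c :=
  Opens.ext (Set.ext fun z => ⟨fun h => (hy.mem_nonvanishing hc h.1).1 h.2,
    fun h => ⟨X.left.basicOpen_le c h, (hy.mem_nonvanishing hc (X.left.basicOpen_le c h)).2 h⟩⟩)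

theorem hasWeight_mul {m n : ℕ} {f g : Γ(B.V.left, ⊤)} (hf : GLinSh.HasWeight B.atlas.chart n f)
    (hg : GLinSh.HasWeight B.atlas.chart m g) : GLinSh.HasWeight B.atlas.chart (n + m) (f * g) := fun U y hy => by
  obtain ⟨c, hc⟩ := hf U y hy
  obtain ⟨d, hd⟩ := hg U y hy
  exact ⟨c * d, by
    simp only [GLinSh.resTop, map_mul] at hc hd ⊢
    rw [hc, hd]; rw [pow_add]; ring⟩

theorem hasWeight_add {n : ℕ} {f g : Γ(B.V.left, ⊤)} (hf : GLinSh.HasWeight B.atlas.chart n f)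
    (hg : GLinSh.HasWeight B.atlas.chart n g) : GLinSh.HasWeight B.atlas.chart n (f + g) := fun U y hy => by
  obtain ⟨c, hc⟩ := hf U y hy
  obtain ⟨d, hd⟩ := hg U y hy
  exact ⟨c + d, by
    simp only [GLinSh.resTop, map_add] at hc hd ⊢
    rw [hc, hd]; ring⟩

theorem hasWeight_pow {n : ℕ} {f : Γ(B.V.left, ⊤)} (hf : GLinSh.HasWeight B.atlas.chart n f) (m : ℕ) :
    GLinSh.HasWeight B.atlas.chart (n * m) (f ^ m) := fun U y hy => by
  obtain ⟨c, hc⟩ := hf U y hy
  exact ⟨c ^ m, by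
    simp only [GLinSh.resTop, map_pow] at hc ⊢
    rw [hc, mul_pow, ← pow_mul]⟩

theorem isInvSection_mul {m n : ℕ} {f g : Γ(B.V.left, ⊤)} (hf : B.IsInvSection n f) (hg : B.IsInvSection m g) :
    B.IsInvSection (n + m) (f * g) :=
  ⟨hasWeight_mul hf.1 hg.1, by unfold GLinSh.IsInvFn; rw [map_mul, map_mul, hf.2, hg.2]⟩

theorem isInvSection_add {n : ℕ} {f g : Γ(B.V.left, ⊤)} (hf : B.IsInvSection n f) (hg : B.IsInvSection n g) :
    B.IsInvSection n (f + g) :=
  ⟨hasWeight_add hf.1 hg.1, by unfold GLinSh.IsInvFn; rw [map_add, map_add, hf.2, hg.2]⟩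

theorem isInvSection_pow {n : ℕ} {f : Γ(B.V.left, ⊤)} (hf : B.IsInvSection n f) (m : ℕ) :
    B.IsInvSection (n * m) (f ^ m) :=
  ⟨hasWeight_pow hf.1 m, by unfold GLinSh.IsInvFn; rw [map_pow, map_pow, hf.2]⟩

theorem nonvanishing_mul {m n : ℕ} {f g : Γ(B.V.left, ⊤)} (hf : GLinSh.HasWeight B.atlas.chart n f)
    (hg : GLinSh.HasWeight B.atlas.chart m g) :
    GLinSh.nonvanishing B.π (f * g) = GLinSh.nonvanishing B.π f ∩ GLinSh.nonvanishing B.π g := by
  ext x
  obtain ⟨W, y, hxW, -, hy⟩ := exists_triv B (x := x) (O := ⊤) trivial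
  obtain ⟨c, hc⟩ := hy.exists_coeff hf
  obtain ⟨d, hd⟩ := hy.exists_coeff hg
  have hcd : GLinSh.resTop B.π W (f * g) = B.π.left.app W (c * d) * y ^ (n + m) := by
    simp only [GLinSh.resTop, map_mul] at hc hd ⊢
    rw [hc, hd]; rw [pow_add]; ring
  rw [Set.mem_inter_iff, hy.mem_nonvanishing hc hxW, hy.mem_nonvanishing hd hxW, hy.mem_nonvanishing hcd hxW,
    Scheme.basicOpen_mul]
  rfl

theorem nonvanishing_pow {n : ℕ} {f : Γ(B.V.left, ⊤)} (hf : GLinSh.HasWeight B.atlas.chart n f) {m : ℕ}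
    (hm : 1 ≤ m) : GLinSh.nonvanishing B.π (f ^ m) = GLinSh.nonvanishing B.π f := by
  unfold GLinSh.nonvanishing
  obtain ⟨m, rfl⟩ : ∃ m', m = m' + 1 := ⟨m - 1, by omega⟩
  rw [Scheme.basicOpen_pow _ f (Nat.succ_pos m)]

variable (B)

/-- The projection of a linearised line bundle is flat. -/
theorem flat_π : Flat B.π.left := by
  choose W y hxW _ hy using fun x : X.left => exists_triv B (x := x) (O := ⊤) trivial
  refine (IsZariskiLocalAtSource.iff_of_iSup_eq_top (fun x => B.π.left ⁻¹ᵁ W x)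
    (eq_top_iff.2 fun v _ => Opens.mem_iSup.2 ⟨B.π.left v, hxW _⟩)).2 fun x => ?_
  have hV := (hy x).isAffineOpen_preimage
  have hq : (B.π.left ⁻¹ᵁ W x).ι ≫ B.π.left =
      hV.isoSpec.hom ≫ Spec.map (B.π.left.app (W x)) ≫ (hy x).affine.fromSpec := by
    rw [Scheme.Hom.app_eq_appLE, IsAffineOpen.SpecMap_appLE_fromSpec B.π.left (hy x).affine hV le_rfl,
      ← hV.isoSpec_inv_ι, Category.assoc, Iso.hom_inv_id_assoc]
  rw [hq]
  haveI : Flat (Spec.map (B.π.left.app (W x))) := by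
    rw [HasRingHomProperty.Spec_iff (P := @Flat)]
    have : (Polynomial.eval₂RingHom (B.π.left.app (W x)).hom (y x)).comp Polynomial.C = (B.π.left.app (W x)).hom :=
      RingHom.ext fun c => by simp
    rw [← this]
    exact RingHom.Flat.comp (RingHom.flat_algebraMap_iff.2 inferInstance) (RingHom.Flat.of_bijective (hy x).bij)
  infer_instance

end Groth.Agent.GITss
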